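import Cfsg.Agent.OddCyclic.EmpO4Five

/-!
# S0342, (C2), [Bc], section 4 of blueprints/S0342-Bc-helper108.md: FIVE and SEVEN (`|V| = 8`) in case A1 (helper789)

* `five_false` : `V = O₄⁻(2)` (an `Om5.Frame`), `T ≤ P ≤ L`, `T` a Sylow 2-subgroup of `L`, `5 ∤ |P|`; then `P`
  centralises `C_V(T)`.
* `seven_le` : `|V| = 8`, `L` induces `L₃(2)` on `V`; a subgroup which contains `C_L(p)`, `1 ≠ p ∈ V`, and an element of
  `L` that moves `p` contains `L`.
-/

set_option autoImplicit false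
set_option linter.unusedSectionVars false

namespace Cfsg.Agent.OddCyclic.BcAOne

open Subgroup Cfsg Cfsg.Agent.ZN
open Cfsg.Agent.OddCyclic.Om5
open Cfsg.Agent.OddCyclic.T1Module Cfsg.Agent.OddCyclic.EmpFFList

universe u

/-! ### FIVE -/

/-- the stabiliser of a pair -/
def stab (i j : Fin 5) : Subgroup (Equiv.Perm (Fin 5)) where
  carrier := {σ | (σ i = i ∧ σ j = j) ∨ (σ i = j ∧ σ j = i)}
  one_mem' := Or.inl ⟨rfl, rfl⟩
  mul_mem' := by
    rintro σ τ (⟨h1, h2⟩ | ⟨h1, h2⟩) (⟨h3, h4⟩ | ⟨h3, h4⟩)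
    · exact Or.inl ⟨by rw [Equiv.Perm.mul_apply, h3, h1], by rw [Equiv.Perm.mul_apply, h4, h2]⟩
    · exact Or.inr ⟨by rw [Equiv.Perm.mul_apply, h3, h2], by rw [Equiv.Perm.mul_apply, h4, h1]⟩
    · exact Or.inr ⟨by rw [Equiv.Perm.mul_apply, h3, h1], by rw [Equiv.Perm.mul_apply, h4, h2]⟩
    · exact Or.inl ⟨by rw [Equiv.Perm.mul_apply, h3, h2], by rw [Equiv.Perm.mul_apply, h4, h1]⟩
  inv_mem' := by
    rintro σ (⟨h1, h2⟩ | ⟨h1, h2⟩)
    · exact Or.inl ⟨by rw [Equiv.Perm.inv_eq_iff_eq, h1], by rw [Equiv.Perm.inv_eq_iff_eq, h2]⟩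
    · exact Or.inr ⟨by rw [Equiv.Perm.inv_eq_iff_eq, h2], by rw [Equiv.Perm.inv_eq_iff_eq, h1]⟩

theorem mem_stab {i j : Fin 5} {σ : Equiv.Perm (Fin 5)} :
    σ ∈ stab i j ↔ (σ i = i ∧ σ j = j) ∨ (σ i = j ∧ σ j = i) := Iff.rfl

theorem card_stab : ∀ i j : Fin 5, i ≠ j → (Finset.univ.filter fun σ : Equiv.Perm (Fin 5) =>
    (σ i = i ∧ σ j = j) ∨ (σ i = j ∧ σ j = i)).card = 12 := by decide +kernel

theorem natCard_stab {i j : Fin 5} (hij : i ≠ j) : Nat.card (stab i j) = 12 := by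
  rw [← card_stab i j hij, ← Set.ncard_coe_finset, ← SetLike.coe_sort_coe, Nat.card_coe_set_eq]
  congr 1
  ext π
  rw [SetLike.mem_coe, mem_stab, Finset.mem_coe, Finset.mem_filter]
  exact ⟨fun h => ⟨Finset.mem_univ _, h⟩, fun h => h.2⟩

/-- the stabiliser of two points -/
def stab2 (i j : Fin 5) : Subgroup (Equiv.Perm (Fin 5)) where
  carrier := {σ | σ i = i ∧ σ j = j}
  one_mem' := ⟨rfl, rfl⟩
  mul_mem' := by
    rintro σ τ ⟨h1, h2⟩ ⟨h3, h4⟩
    exact ⟨by rw [Equiv.Perm.mul_apply, h3, h1], by rw [Equiv.Perm.mul_apply, h4, h2]⟩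
  inv_mem' := by
    rintro σ ⟨h1, h2⟩
    exact ⟨by rw [Equiv.Perm.inv_eq_iff_eq, h1], by rw [Equiv.Perm.inv_eq_iff_eq, h2]⟩

theorem mem_stab2 {i j : Fin 5} {σ : Equiv.Perm (Fin 5)} : σ ∈ stab2 i j ↔ σ i = i ∧ σ j = j := Iff.rfl

theorem card_stab2 : ∀ i j : Fin 5, i ≠ j → (Finset.univ.filter fun σ : Equiv.Perm (Fin 5) =>
    σ i = i ∧ σ j = j).card = 6 := by decide +kernel

theorem natCard_stab2 {i j : Fin 5} (hij : i ≠ j) : Nat.card (stab2 i j) = 6 := by
  rw [← card_stab2 i j hij, ← Set.ncard_coe_finset, ← SetLike.coe_sort_coe, Nat.card_coe_set_eq]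
  congr 1
  ext π
  rw [SetLike.mem_coe, mem_stab2, Finset.mem_coe, Finset.mem_filter]
  exact ⟨fun h => ⟨Finset.mem_univ _, h⟩, fun h => h.2⟩

theorem eight_dvd {Q : Subgroup (Equiv.Perm (Fin 5))} (hQ : ¬ 2 ∣ Q.index) : 8 ∣ Nat.card Q := by
  have h2 := Q.card_mul_index
  rw [Nat.card_eq_fintype_card (α := Equiv.Perm (Fin 5)), Fintype.card_perm, Fintype.card_fin] at h2
  have h3 : Nat.factorial 5 = 120 := rfl
  rw [h3] at h2
  have h5 : Nat.Coprime (2 ^ 3) Q.index := Nat.Coprime.pow_left 3 ((Nat.prime_two.coprime_iff_not_dvd).2 hQ)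
  exact Nat.Coprime.dvd_of_dvd_mul_right (n := Q.index) h5 (by rw [h2]; norm_num)

/-- no Sylow 2-subgroup of `S₅` stabilises a pair -/
theorem not_stab {Q : Subgroup (Equiv.Perm (Fin 5))} (hQ : ¬ 2 ∣ Q.index) {i j : Fin 5} (hij : i ≠ j)
    (h : Q ≤ stab i j) : False := by
  have h1 := (eight_dvd hQ).trans (Subgroup.card_dvd_of_le h)
  rw [natCard_stab hij] at h1
  norm_num at h1

/-- a subgroup of odd index which fixes `i` is transitive on the other points -/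
theorem trans_of {Q : Subgroup (Equiv.Perm (Fin 5))} (hQ : ¬ 2 ∣ Q.index) {i : Fin 5} (hi : ∀ σ ∈ Q, σ i = i)
    {j k : Fin 5} (hj : j ≠ i) (hk : k ≠ i) : ∃ σ ∈ Q, σ j = k := by
  classical
  have h8 := eight_dvd hQ
  have h1 := MulAction.card_orbit_mul_card_stabilizer_eq_card_group Q j
  rw [← Nat.card_eq_fintype_card, ← Nat.card_eq_fintype_card, ← Nat.card_eq_fintype_card] at h1
  have h2 : Nat.card (MulAction.stabilizer Q j) ∣ 6 := by
    rw [← natCard_stab2 (Ne.symm hj)]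
    refine (Subgroup.card_dvd_of_injective
      ((Q.subtype.comp (MulAction.stabilizer Q j).subtype).codRestrict (stab2 i j) ?_) ?_)
    · intro s
      exact ⟨hi _ s.1.2, s.2⟩
    · intro s t hst
      have h3 := congrArg Subtype.val hst
      exact Subtype.ext (Subtype.ext h3)
  have h3 : 4 ∣ Nat.card (MulAction.orbit Q j) := by
    have h4 : 8 ∣ Nat.card (MulAction.orbit Q j) * 6 := (by rw [← h1] at h8; exact h8.trans (mul_dvd_mul_left _ h2))
    omega
  have h4 : (MulAction.orbit Q j) ⊆ ({i}ᶜ : Set (Fin 5)) := by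
    rintro _ ⟨s, rfl⟩ h5
    apply hj
    have h6 : (s : Equiv.Perm (Fin 5)) j = i := h5
    apply (s : Equiv.Perm (Fin 5)).injective
    rw [h6, hi _ s.2]
  have h5 : Set.ncard ({i}ᶜ : Set (Fin 5)) = 4 := by
    rw [Set.ncard_compl, Set.ncard_singleton, Nat.card_eq_fintype_card, Fintype.card_fin]
  have h6 : 0 < Nat.card (MulAction.orbit Q j) := by
    have : Nonempty (MulAction.orbit Q j) := ⟨⟨j, MulAction.mem_orbit_self j⟩⟩
    exact Nat.card_pos
  have h7 : MulAction.orbit Q j = ({i}ᶜ : Set (Fin 5)) := by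
    apply Set.eq_of_subset_of_ncard_le h4
    rw [h5, ← Nat.card_coe_set_eq]
    exact Nat.le_of_dvd h6 h3
  have h8 : k ∈ MulAction.orbit Q j := by rw [h7]; exact hk
  obtain ⟨s, hs⟩ := h8
  exact ⟨s, s.2, hs⟩

/-- a subgroup `R` of order prime to 5 which contains `Q` fixes `i` -/
theorem fix_of {Q R : Subgroup (Equiv.Perm (Fin 5))} (hQ : ¬ 2 ∣ Q.index) {i : Fin 5} (hi : ∀ σ ∈ Q, σ i = i)
    (hQR : Q ≤ R) (hR : ¬ 5 ∣ Nat.card R) : ∀ σ ∈ R, σ i = i := by
  classical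
  intro σ hσ
  by_contra hne
  apply hR
  have h1 : MulAction.orbit R i = Set.univ := by
    rw [Set.eq_univ_iff_forall]
    intro k
    by_cases hk : k = i
    · rw [hk]; exact MulAction.mem_orbit_self i
    · obtain ⟨τ, hτ, h2⟩ := trans_of hQ hi hne hk
      exact ⟨⟨τ * σ, R.mul_mem (hQR hτ) hσ⟩, h2⟩
  have h2 := MulAction.card_orbit_mul_card_stabilizer_eq_card_group R i
  rw [← Nat.card_eq_fintype_card, ← Nat.card_eq_fintype_card, ← Nat.card_eq_fintype_card] at h2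
  have h3 : Nat.card (MulAction.orbit R i) = 5 := by
    rw [h1, Nat.card_univ, Nat.card_eq_fintype_card, Fintype.card_fin]
  rw [h3] at h2
  exact ⟨_, h2.symm⟩

section five

variable {G : Type u} [Group G] [Finite G] {L V T P : Subgroup G} {φ : L →* Equiv.Perm (Fin 5)}
  {e : Fin 5 → Fin 5 → G}

omit [Finite G] in
theorem e_comm (F : Frame L V φ e) (t : L) {i j : Fin 5} (hij : i ≠ j) (h : (t : G) * e i j = e i j * t) :
    φ t ∈ stab i j := by
  have h1 := F.conj t i j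
  rw [h, mul_inv_cancel_right] at h1
  rcases F.e_inj hij h1 with ⟨h1, h2⟩ | ⟨h1, h2⟩
  · exact Or.inl ⟨h1.symm, h2.symm⟩
  · exact Or.inr ⟨h2.symm, h1.symm⟩

/-- **FIVE, case A1** -/
theorem five_comm (F : Frame L V φ e) (hT : ¬ 2 ∣ T.relIndex L) (hTP : T ≤ P) (hPL : P ≤ L)
    (hP : ¬ 5 ∣ Nat.card P) {x z : G} (hx : x ∈ P) (hz : z ∈ V) (hzT : ∀ t ∈ T, t * z = z * t) :
    x * z = z * x := by
  obtain ⟨Q, hQ⟩ : ∃ Q, Q = (T.subgroupOf L).map φ := ⟨_, rfl⟩
  obtain ⟨R, hR⟩ : ∃ R, R = (P.subgroupOf L).map φ := ⟨_, rfl⟩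
  have hQ2 : ¬ 2 ∣ Q.index := fun h1 => hT (h1.trans (by
    rw [hQ]
    exact Subgroup.index_map_dvd _ F.surj))
  have hQR : Q ≤ R := by
    rw [hQ, hR]
    exact Subgroup.map_mono (Subgroup.comap_mono hTP)
  have hR5 : ¬ 5 ∣ Nat.card R := fun h1 => hP (h1.trans (by
    rw [hR]
    refine (Subgroup.card_map_dvd _ _).trans ?_
    rw [Nat.card_congr (Subgroup.subgroupOfEquivOfLe hPL).toEquiv]))
  have hTm : ∀ σ ∈ Q, ∃ t : L, (t : G) ∈ T ∧ φ t = σ := by
    intro σ hσ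
    rw [hQ] at hσ
    obtain ⟨t, ht, rfl⟩ := hσ
    exact ⟨t, ht, rfl⟩
  rcases F.cls hz with rfl | ⟨i, j, hij, rfl⟩ | ⟨i, rfl⟩
  · rw [mul_one, one_mul]
  · exfalso
    refine not_stab hQ2 hij fun σ hσ => ?_
    obtain ⟨t, ht, rfl⟩ := hTm σ hσ
    exact e_comm F t hij (hzT t ht)
  · have hi : ∀ σ ∈ Q, σ i = i := by
      intro σ hσ
      obtain ⟨t, ht, rfl⟩ := hTm σ hσ
      have h1 := F.conj_sg t i
      rw [hzT t ht, mul_inv_cancel_right] at h1
      exact (F.sg_inj h1).symm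
    have h1 := fix_of hQ2 hi hQR hR5 (φ ⟨x, hPL hx⟩) (by
      rw [hR]
      exact ⟨⟨x, hPL hx⟩, hx, rfl⟩)
    have h2 := F.conj_sg ⟨x, hPL hx⟩ i
    rw [h1] at h2
    exact mul_inv_eq_iff_eq_mul.1 h2

end five

/-! ### SEVEN, `|V| = 8` -/

section seven

variable {H V : Type*} [Group H] [CommGroup V] {ρ : H →* MulAut V}

/-- an element of order 7 fixes no `q ≠ 1` -/
theorem fix_seven (h : OutB ρ) {y : H} (hy : orderOf y = 7) {q : V} (hq : ρ y q = q) : q = 1 := by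
  have hfin : Finite V := Nat.finite_of_card_ne_zero (by rw [h.cardV]; norm_num)
  have hf7 : Fact (Nat.Prime 7) := ⟨by norm_num⟩
  by_contra hq1
  let _ : MulAction H V := MulAction.compHom V ρ
  have hP : IsPGroup 7 (zpowers y) := IsPGroup.of_card (n := 1) (by rw [Nat.card_zpowers, hy, pow_one])
  have h1 := hP.card_modEq_card_fixedPoints V
  obtain ⟨F, hF⟩ : ∃ F : Subgroup V, ∀ v, v ∈ F ↔ ρ y v = v :=
    ⟨{ carrier := {v | ρ y v = v}
       one_mem' := map_one _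
       mul_mem' := fun {a b} ha hb => by
         show ρ y (a * b) = a * b
         rw [map_mul]
         exact congrArg₂ (· * ·) ha hb
       inv_mem' := fun {a} ha => by
         show ρ y a⁻¹ = a⁻¹
         rw [map_inv]
         exact congrArg (·⁻¹) ha }, fun v => Iff.rfl⟩
  have h2 : (MulAction.fixedPoints (zpowers y) V) = (F : Set V) := by
    ext v
    rw [SetLike.mem_coe, hF, MulAction.mem_fixedPoints]
    constructor
    · intro h3
      exact h3 ⟨y, mem_zpowers y⟩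
    · rintro h3 ⟨g, hg⟩
      have h4 : zpowers y ≤ MulAction.stabilizer H v := by
        rw [zpowers_le]
        exact h3
      exact h4 hg
  have h3 : Nat.card (MulAction.fixedPoints (zpowers y) V) = Nat.card F := by rw [h2]; rfl
  rw [h3, h.cardV] at h1
  have h4 : Nat.card F ∣ 8 := by rw [← h.cardV]; exact Subgroup.card_subgroup_dvd_card F
  have h5 : 1 < Nat.card F := by
    rw [Subgroup.one_lt_card_iff_ne_bot]
    rintro rfl
    exact hq1 ((Subgroup.mem_bot).1 ((hF q).2 hq))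
  have h6 : Nat.card F = 8 := by
    have h7 : Nat.card F ≤ 8 := Nat.le_of_dvd (by norm_num) h4
    have h8 : 8 % 7 = Nat.card F % 7 := h1
    omega
  have h7 : F = ⊤ := Subgroup.eq_top_of_card_eq F (by rw [h6, h.cardV])
  have h8 : ρ y = 1 := by
    ext v
    exact (hF v).1 (by rw [h7]; trivial)
  have h9 : y = 1 := h.bij.1 (by rw [h8, map_one])
  rw [h9, orderOf_one] at hy
  norm_num at hy

/-- the stabiliser of a point is maximal -/
theorem top_of_outB (h : OutB ρ) {A : Subgroup H} {p : V} (hp : p ≠ 1) (hA : ∀ g, ρ g p = p → g ∈ A) {x : H}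
    (hx : x ∈ A) (hxp : ρ x p ≠ p) : A = ⊤ := by
  classical
  have hfin : Finite V := Nat.finite_of_card_ne_zero (by rw [h.cardV]; norm_num)
  have hfinH : Finite H := Nat.finite_of_card_ne_zero (by rw [h.cardH]; norm_num)
  have hf7 : Fact (Nat.Prime 7) := ⟨by norm_num⟩
  let _ : MulAction H V := MulAction.compHom V ρ
  obtain ⟨y, hy⟩ := exists_prime_orderOf_dvd_card' (G := H) 7 (by rw [h.cardH]; norm_num)
  have hsub : MulAction.orbit H p ⊆ ({1}ᶜ : Set V) := by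
    rintro _ ⟨g, rfl⟩ h1
    have h2 : ρ g p = 1 := h1
    exact hp ((map_eq_one_iff _ (ρ g).injective).1 h2)
  have hc : Set.ncard ({1}ᶜ : Set V) = 7 := by
    rw [Set.ncard_compl, Set.ncard_singleton, h.cardV]
  have h7 : Nat.card (MulAction.orbit (zpowers y) p) = 7 := by
    have h1 : Nat.card (MulAction.orbit (zpowers y) p) ∣ 7 := by
      have h2 := Nat.card_congr (MulAction.orbitProdStabilizerEquivGroup (zpowers y) p)
      rw [Nat.card_prod, Nat.card_zpowers, hy] at h2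
      exact ⟨_, h2.symm⟩
    rcases (Nat.dvd_prime hf7.out).1 h1 with h2 | h2
    · exfalso
      have h3 : Subsingleton (MulAction.orbit (zpowers y) p) := (Nat.card_eq_one_iff_unique.1 h2).1
      have h4 : (⟨y, mem_zpowers y⟩ : zpowers y) • p = p := by
        have h5 := h3.elim ⟨(⟨y, mem_zpowers y⟩ : zpowers y) • p, MulAction.mem_orbit _ _⟩
          ⟨p, MulAction.mem_orbit_self p⟩
        exact congrArg Subtype.val h5
      exact hp (fix_seven h hy h4)
    · exact h2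
  have h8 : MulAction.orbit (zpowers y) p ⊆ MulAction.orbit H p := by
    rintro _ ⟨g, rfl⟩
    exact ⟨g, rfl⟩
  have h9 : Nat.card (MulAction.orbit H p) = 7 := by
    apply le_antisymm
    · rw [Nat.card_coe_set_eq, ← hc]
      exact Set.ncard_le_ncard hsub
    · rw [← h7, Nat.card_coe_set_eq, Nat.card_coe_set_eq]
      exact Set.ncard_le_ncard h8
  have h10 : (MulAction.stabilizer H p).index = 7 := by
    rw [MulAction.index_stabilizer, ← Nat.card_coe_set_eq]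
    exact h9
  have h11 : MulAction.stabilizer H p ≤ A := fun g hg => hA g hg
  have h12 : A.index ∣ 7 := by rw [← h10]; exact Subgroup.index_dvd_of_le h11
  rcases (Nat.dvd_prime hf7.out).1 h12 with h13 | h13
  · exact Subgroup.index_eq_one.1 h13
  · exfalso
    apply hxp
    have h14 : Nat.card (MulAction.stabilizer H p) * 7 = Nat.card A * 7 := by
      conv_lhs => rw [← h10]
      rw [← h13, Subgroup.card_mul_index, Subgroup.card_mul_index]
    have h15 : MulAction.stabilizer H p = A :=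
      Subgroup.eq_of_le_of_card_ge h11 (Nat.eq_of_mul_eq_mul_right (by norm_num) h14).ge
    rw [← h15] at hx
    exact hx

end seven

section sevenG

variable {G : Type u} [Group G] {L V A : Subgroup G} {H Y : Type*} [Group H] [CommGroup Y] {ρ : H →* MulAut Y}

/-- **SEVEN, `|V| = 8`, case A1** -/
theorem seven_le (h : OutB ρ) (f : L →* H) (hf : Function.Surjective f) (ι : Y →* G) (hι : Function.Injective ι)
    (hc : ∀ (l : L) (v : Y), ι (ρ (f l) v) = (l : G) * ι v * (l : G)⁻¹) {p x : G} (hp : p ∈ ι.range) (hp1 : p ≠ 1)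
    (hC : ∀ l ∈ L, l * p = p * l → l ∈ A) (hx : x ∈ L) (hxA : x ∈ A) (hxp : x * p ≠ p * x) : L ≤ A := by
  obtain ⟨v, rfl⟩ := hp
  have hv1 : v ≠ 1 := by rintro rfl; exact hp1 (map_one ι)
  have hst : ∀ l : L, ρ (f l) v = v ↔ (l : G) * ι v = ι v * l := by
    intro l
    rw [← hι.eq_iff, hc, mul_inv_eq_iff_eq_mul]
  have hk : ∀ l : L, f l = 1 → (l : G) ∈ A := by
    intro l hl
    apply hC l l.2
    rw [← hst, hl, map_one]
    rfl
  have h1 : (A.subgroupOf L).map f = ⊤ := by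
    apply top_of_outB h hv1 (x := f ⟨x, hx⟩)
    · intro g hg
      obtain ⟨l, rfl⟩ := hf g
      exact ⟨l, hC l l.2 ((hst l).1 hg), rfl⟩
    · exact ⟨⟨x, hx⟩, hxA, rfl⟩
    · intro h2
      exact hxp ((hst ⟨x, hx⟩).1 h2)
  intro l hl
  have h2 : f ⟨l, hl⟩ ∈ (A.subgroupOf L).map f := by rw [h1]; trivial
  obtain ⟨a, ha, h3⟩ := h2
  have h4 : f (a⁻¹ * ⟨l, hl⟩) = 1 := by rw [map_mul, map_inv, h3, inv_mul_cancel]
  have h5 := A.mul_mem ha (hk _ h4)
  have h6 : (a : G) * ((a⁻¹ * (⟨l, hl⟩ : L) : L) : G) = l := by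
    show (a : G) * ((a : G)⁻¹ * l) = l
    rw [mul_inv_cancel_left]
  have h7 : (a : G) * ((a⁻¹ * (⟨l, hl⟩ : L) : L) : G) ∈ A := h5
  rwa [h6] at h7

end sevenG

/-! ### the versions with `RedRep.Rep` -/

section rep

variable {G : Type u} [Group G] [Finite G] {L V T P A : Subgroup G} {H W : Type u} [Group H] [CommGroup W]
  {r : L →* H} {ρ : H →* MulAut W} {ι : W →* G}

/-- **FIVE, case A1**: `ξ ∈ P₁` centralises `C_V(T)` -/
theorem five_rep [Finite W] (R : RedRep.Rep L V r ρ ι) (hL : L = normalizer (V : Set G)) (hsq : ∀ v : W, v * v = 1)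
    {e : H ≃* Equiv.Perm (Fin 5)}
    (h : Five ρ e) (hT : ¬ 2 ∣ T.relIndex L) (hTP : T ≤ P) (hPL : P ≤ L) (hP : ¬ 5 ∣ Nat.card P) {x z : G}
    (hx : x ∈ P) (hz : z ∈ V) (hzT : ∀ t ∈ T, t * z = z * t) : x * z = z * x := by
  obtain ⟨φ, f, F⟩ := EmpO4.exists_frame R hL hsq h
  exact five_comm F hT hTP hPL hP hx hz hzT

/-- **SEVEN, `|V| = 8`, case A1** -/
theorem seven_rep (R : RedRep.Rep L V r ρ ι) (h : OutB ρ) {p x : G} (hp : p ∈ V) (hp1 : p ≠ 1)
    (hC : ∀ l ∈ L, l * p = p * l → l ∈ A) (hx : x ∈ L) (hxA : x ∈ A) (hxp : x * p ≠ p * x) : L ≤ A :=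
  seven_le h r R.surj ι R.iinj R.act (by rw [R.range]; exact hp) hp1 hC hx hxA hxp

end rep

end Cfsg.Agent.OddCyclic.BcAOne
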