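import Cfsg.Agent.OddCyclic.Bc.EndLib
import Cfsg.Agent.OddCyclic.L32.ConfE
import Cfsg.Agent.SmallSimple.PSLTwoPart
import Cfsg.Agent.OddCyclic.JFacts

/-!
# S0342, leaf [Bc], type (b), case A2: (CK) for nonabelian normal simple subgroups

If `K ⊴ H = L₀/C(V)` is simple, nonabelian and contains `ξ`, then `C_V(K) = 1`: otherwise the preimage of `K` is
contained in `C_G(z) ≤ N_G(L₁)`, `1 ≠ z ∈ C_Z(K)`, so `K` is a section of `L₁/O₂(L₁)`, so `|K| = 168` and
`L₁ ≤ L₀`.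
-/

set_option autoImplicit false
set_option linter.unusedSectionVars false

namespace Cfsg.Agent.OddCyclic.Bc.AaCk

open Subgroup Cfsg Cfsg.Agent.ZN Cfsg.Agent.ZN.ChoiceBase Cfsg.Agent.MinSimple Cfsg.Agent.MinSimple.EmptySix
open Cfsg.Agent.MinSimple.EmptyE.Closed (LL vv_comm jj_le_centralizer_vv)
open Cfsg.Agent.OddCyclic.T1Defs Cfsg.Agent.OddCyclic.T1Module Cfsg.Agent.OddCyclic.FFBasic
  Cfsg.Agent.OddCyclic.FFRed Cfsg.Agent.OddCyclic.RedRep Cfsg.Agent.OddCyclic.CompStart Cfsg.Agent.OddCyclic.CompBasic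
open Cfsg.Agent.OddCyclic.L32
open Cfsg.Agent.OddCyclic.Bc.Inst

universe u

/-- a group of the list of order divisible by 3 and dividing 168 has order 168 -/
theorem card_eq {K : Type*} [Group K] [Finite K] (h : PumpMain.KZero K) (h3 : 3 ∣ Nat.card K)
    (hd : Nat.card K ∣ 168) : Nat.card K = 168 := by
  rcases h with ⟨F, iF, iF', hp, h5, ⟨e⟩⟩ | ⟨F, iF, iF', f, hf, hF, ⟨e⟩⟩ | h | ⟨h, k, hk⟩
  · rw [Nat.card_congr e.toEquiv] at hd ⊢
    have hodd : Odd (Fintype.card F) := hp.odd_of_ne_two (by omega)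
    have h1 := SmallSimple.PSLTwoPart.card_psl_two_odd hodd
    have h7 : Fintype.card F = 7 := by
      have h2 : Fintype.card F ∣ 2 * 168 :=
        ((Dvd.intro _ h1.symm : Fintype.card F ∣ _)).trans (mul_dvd_mul_left 2 hd)
      have h3 : Fintype.card F ∣ 2 ^ 4 * (3 * 7) := by norm_num at h2 ⊢; exact h2
      rcases (Nat.Prime.dvd_mul hp).1 h3 with h4 | h4
      · have := (Nat.prime_dvd_prime_iff_eq hp Nat.prime_two).1 (hp.dvd_of_dvd_pow h4)
        omega
      · rcases (Nat.Prime.dvd_mul hp).1 h4 with h4 | h4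
        · have := (Nat.prime_dvd_prime_iff_eq hp Nat.prime_three).1 h4
          omega
        · exact (Nat.prime_dvd_prime_iff_eq hp (by norm_num)).1 h4
    rw [h7] at h1
    omega
  · exfalso
    rw [Nat.card_congr e.toEquiv, SmallSimple.PSLTwoPart.card_psl_two_even (by
      rw [hF]; exact (Nat.even_pow.2 ⟨even_two, by omega⟩)), hF] at hd
    have h1 : 2 ^ f ∣ 168 := (Dvd.intro _ rfl).trans hd
    have h2 : f ≤ 3 := by
      by_contra hcon
      have h3 : 2 ^ 4 ∣ 168 := (pow_dvd_pow 2 (by omega)).trans h1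
      revert h3; norm_num
    have h4 : f = 2 ∨ f = 3 := by omega
    rcases h4 with rfl | rfl
    · revert hd; norm_num
    · revert hd; norm_num
  · exact absurd h3 (T1Socle.not_three_dvd h)
  · rw [JFacts.card_of_local h hk] at hd
    revert hd; norm_num

/-- sections -/
theorem card_dvd {K₁ K Q : Type*} [Group K₁] [Group K] [Group Q] [Finite Q] (f : K₁ →* K)
    (hf : Function.Surjective f) (g : K₁ →* Q) (hk : g.ker ≤ f.ker) :
    Nat.card K ∣ Nat.card Q ∧ (Nat.card K = Nat.card Q → Function.Surjective g) := by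
  have h1 : Nat.card K = f.ker.index := by
    rw [Subgroup.index_ker, MonoidHom.range_eq_top.2 hf, Subgroup.card_top]
  have h2 : Nat.card g.range = g.ker.index := (Subgroup.index_ker g).symm
  have h3 : f.ker.index ∣ g.ker.index := Subgroup.index_dvd_of_le hk
  rw [← h1, ← h2] at h3
  refine ⟨h3.trans (Subgroup.card_subgroup_dvd_card _), fun h4 => ?_⟩
  rw [h4] at h3
  have h5 := Nat.le_of_dvd Nat.card_pos h3
  exact MonoidHom.range_eq_top.1 (Subgroup.eq_top_of_le_card _ h5)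

variable {G : Type u} [Group G] [Finite G] {S : Sylow 2 G} {T L O₁ O A : Subgroup G} {ξ x : G}
variable {H V : Type u} [Group H] [CommGroup V] {r : LL (S : Subgroup G) →* H} {ρ : H →* MulAut V} {ι : V →* G}

theorem o2_le (c : Conf S T L O₁ O A ξ x) : o2 L ≤ T := by
  have hoM : o2 L ≤ o2 (normalizer (L : Set G)) :=
    Block.le_o2 (Block.o2_isPGroup L) ((Block.o2_le L).trans le_normalizer) (L32.normalizer_le_normalizer_o2 L)
  have hT : T ≤ normalizer (L : Set G) := by rw [c.T_eq]; exact inf_le_right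
  exact hoM.trans (VModule.o2_le_of_sylow (S.isPGroup'.to_le (T_le c)) c.syl)

/-- `x ∉ L₀` -/
theorem x_not (c : Conf S T L O₁ O A ξ x) (hG : OddCyc G) (hξ : ∃ v ∈ vv (S : Subgroup G), ξ * v ≠ v * ξ) :
    x ∉ LL (S : Subgroup G) := by
  intro hx
  have hA : A ≤ centralizer (vv (S : Subgroup G) : Set G) := (A_le_jj c).trans jj_le_centralizer_vv
  have h1 : A ⊔ A.map (MulAut.conj x).toMonoidHom ≤ centralizer (vv (S : Subgroup G) : Set G) := by
    refine sup_le hA ?_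
    rintro _ ⟨a, ha, rfl⟩
    rw [mem_centralizer_iff]
    intro v hv
    change v * (x * a * x⁻¹) = x * a * x⁻¹ * v
    have h2 : x⁻¹ * v * x ∈ vv (S : Subgroup G) := (mem_normalizer_iff''.1 hx v).1 hv
    have h3 := (mem_centralizer_iff.1 (hA ha)) _ h2
    calc v * (x * a * x⁻¹) = x * (x⁻¹ * v * x * a) * x⁻¹ := by group
      _ = x * (a * (x⁻¹ * v * x)) * x⁻¹ := by rw [h3]
      _ = _ := by group
  refine not_three c hG hξ ?_
  rw [← c.x3]
  exact Subgroup.orderOf_dvd_natCard _ (h1 c.gen_x)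

/-- **(CK) in case A2** -/
theorem ck [Finite H] [Finite V] (c : Conf S (S : Subgroup G) L O₁ O A ξ x) (hG : OddCyc G) (hz : SecZero G)
    (hL : LL (S : Subgroup G) ≠ ⊤) (hξ : ∃ v ∈ vv (S : Subgroup G), ξ * v ≠ v * ξ)
    (hr : Rep (LL (S : Subgroup G)) (vv (S : Subgroup G)) r ρ ι) (K : Subgroup H) (hK : K.Normal)
    (hs : IsSimpleGroup K) (hn : ∃ a b : K, a * b ≠ b * a) (hξK : r ⟨ξ, ξ_mem_LL c⟩ ∈ K) : CS ρ K = ⊥ := by
  have : Fact (Nat.Prime 2) := ⟨Nat.prime_two⟩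
  by_contra hne
  obtain ⟨w, hw, hwS, hw1⟩ := EmpFFAbs.exists_fixed (sq_of hr) (isPGroup_im r) hne
    (fun t _ w hw => EmpFFAbs.CS_inv t hw)
  obtain ⟨z, hz'⟩ : ∃ z, z = ι w := ⟨_, rfl⟩
  have hzZ : z ∈ zc (S : Subgroup G) := by rw [hz']; exact (mem_CS_S hr w).1 hwS
  have hz1 : z ≠ 1 := by rw [hz']; exact fun h1 => hw1 (hr.iinj (by rw [h1, map_one]))
  have hcz : ∀ g : LL (S : Subgroup G), r g ∈ K → (g : G) * z = z * g := by
    intro g hg
    rw [hz']
    exact (hr.fix (x := g)).1 (hw _ hg)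
  have hξz : ξ * z = z * ξ := hcz ⟨ξ, ξ_mem_LL c⟩ hξK
  -- `C_G(z) ≤ N_G(L₁)`
  have hLz : L ≤ centralizer ({z} : Set G) := by
    intro l hl
    have h1 := c.rz_cent z hzZ l hl
    rw [(Cases.rz_of_comm (Cases.zc_sq hzZ) hξz).1] at h1
    exact mem_centralizer_singleton_iff.2 h1
  have hSz : (S : Subgroup G) ≤ centralizer ({z} : Set G) := GenI.S_le_cent hzZ
  have hCN : centralizer ({z} : Set G) ≤ normalizer (L : Set G) :=
    c.uniq _ (EmpTI.o2_ne_bot_of_isTwoLocal (GenI.isTwoLocal_cent hzZ hz1)) hLz ((ChoiceBase.jj_le _).trans hSz)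
  have hKN : ∀ g : LL (S : Subgroup G), r g ∈ K → (g : G) ∈ normalizer (L : Set G) := fun g hg =>
    hCN (mem_centralizer_singleton_iff.2 (hcz g hg))
  -- the homomorphisms
  obtain ⟨K₁, hK₁⟩ : ∃ K₁ : Subgroup (LL (S : Subgroup G)), K₁ = K.comap r ⊓ L.subgroupOf (LL (S : Subgroup G)) :=
    ⟨_, rfl⟩
  have hK₁r : ∀ k ∈ K₁, r k ∈ K := fun k hk => by rw [hK₁] at hk; exact hk.1
  have hK₁L : ∀ k ∈ K₁, (k : G) ∈ L := fun k hk => by rw [hK₁] at hk; exact mem_subgroupOf.1 hk.2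
  have hmem : ∀ k : LL (S : Subgroup G), r k ∈ K → (k : G) ∈ L → k ∈ K₁ := fun k h1 h2 => by
    rw [hK₁]; exact ⟨h1, mem_subgroupOf.2 h2⟩
  let f : K₁ →* K := (r.comp K₁.subtype).codRestrict K fun k => hK₁r k k.2
  let j : K₁ →* L := ((LL (S : Subgroup G)).subtype.comp K₁.subtype).codRestrict L fun k => hK₁L k k.2
  let g : K₁ →* L ⧸ pCore 2 L := (QuotientGroup.mk' (pCore 2 L)).comp j
  have hξ3 : orderOf (r ⟨ξ, ξ_mem_LL c⟩) = 3 := orderOf_ξ hr c hξ
  have hξ1 : r ⟨ξ, ξ_mem_LL c⟩ ≠ 1 := by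
    intro h1
    rw [h1, orderOf_one] at hξ3
    omega
  -- `f` is surjective
  have hfs : Function.Surjective f := by
    have hn : f.range.Normal := by
      refine ⟨?_⟩
      rintro _ ⟨k, rfl⟩ a
      obtain ⟨b, hb⟩ := hr.surj a
      have hbK : r b ∈ K := by rw [hb]; exact a.2
      refine ⟨⟨b * k * b⁻¹, hmem _ ?_ ?_⟩, ?_⟩
      · rw [map_mul, map_mul, map_inv]
        exact mul_mem (mul_mem hbK (hK₁r k k.2)) (inv_mem hbK)
      · exact (mem_normalizer_iff.1 (hKN b hbK) _).1 (hK₁L k k.2)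
      · apply Subtype.ext
        change r (b * k * b⁻¹) = a * r k * (a : H)⁻¹
        rw [map_mul, map_mul, map_inv, hb]
    rcases hs.eq_bot_or_eq_top_of_normal _ hn with h1 | h1
    · exfalso
      have h2 : f ⟨⟨ξ, ξ_mem_LL c⟩, hmem _ hξK c.ξL⟩ ∈ f.range := ⟨_, rfl⟩
      rw [h1, mem_bot] at h2
      exact hξ1 (congrArg Subtype.val h2)
    · exact MonoidHom.range_eq_top.1 h1
  -- the kernel
  have hker : g.ker ≤ f.ker := by
    obtain ⟨D, hD⟩ : ∃ D : Subgroup K, D = g.ker.map f := ⟨_, rfl⟩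
    have hmg : ∀ k : K₁, k ∈ g.ker ↔ ((k : LL (S : Subgroup G)) : G) ∈ o2 L := by
      intro k
      rw [MonoidHom.mem_ker]
      change ((j k : L) : L ⧸ pCore 2 L) = 1 ↔ _
      rw [QuotientGroup.eq_one_iff, o2, mem_map]
      constructor
      · intro h1
        exact ⟨j k, h1, rfl⟩
      · rintro ⟨l, hl, hlk⟩
        have h2 : l = j k := Subtype.ext hlk
        rwa [h2] at hl
    have hDn : D.Normal := by rw [hD]; exact (MonoidHom.normal_ker g).map f hfs
    have hD2 : IsPGroup 2 D := by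
      rw [hD]
      refine IsPGroup.map ?_ f
      have h1 : IsPGroup 2 (g.ker.map j) := by
        refine (Lib.Cores.pCore_isPGroup 2 (G := L)).to_le ?_
        rintro _ ⟨k, hk, rfl⟩
        rw [SetLike.mem_coe, MonoidHom.mem_ker] at hk
        exact (QuotientGroup.eq_one_iff _).1 hk
      have hj : Function.Injective j := by
        intro a b hab
        exact Subtype.ext (Subtype.ext (congrArg (fun l : L => (l : G)) hab))
      exact h1.of_equiv (g.ker.equivMapOfInjective j hj).symm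
    rcases hs.eq_bot_or_eq_top_of_normal _ hDn with h1 | h1
    · intro k hk
      rw [MonoidHom.mem_ker]
      have h2 : f k ∈ D := by rw [hD]; exact ⟨k, hk, rfl⟩
      rwa [h1, mem_bot] at h2
    · exfalso
      rw [h1] at hD2
      obtain ⟨n, hn⟩ := hD2 ⟨⟨r ⟨ξ, ξ_mem_LL c⟩, hξK⟩, trivial⟩
      have h2 : (r ⟨ξ, ξ_mem_LL c⟩) ^ 2 ^ n = 1 := congrArg (fun a : (⊤ : Subgroup K) => ((a : K) : H)) hn
      have h3 := orderOf_dvd_of_pow_eq_one h2
      rw [hξ3] at h3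
      exact absurd (Nat.prime_three.dvd_of_dvd_pow h3) (by norm_num)
  obtain ⟨h1, h2⟩ := card_dvd f hfs g hker
  rw [c.sev.card] at h1 h2
  have h3 : 3 ∣ Nat.card K := by
    have := Subgroup.orderOf_dvd_natCard K hξK
    rwa [hξ3] at this
  have h4 := h2 (card_eq (FFSec.kzero_of_image hz hL r hr.surj K hs hn) h3 h1)
  -- `L₁ ≤ L₀`
  refine x_not c hG hξ ?_
  obtain ⟨k, hk⟩ := h4 ((⟨x, c.xL⟩ : L) : L ⧸ pCore 2 L)
  change ((j k : L) : L ⧸ pCore 2 L) = _ at hk
  rw [QuotientGroup.eq] at hk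
  have h5 : ((k : LL (S : Subgroup G)) : G)⁻¹ * x ∈ o2 L := ⟨_, hk, rfl⟩
  have h6 := S_le_LL S (o2_le c h5)
  have h7 := mul_mem (k : LL (S : Subgroup G)).2 h6
  rwa [mul_inv_cancel_left] at h7

end Cfsg.Agent.OddCyclic.Bc.AaCk
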