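import Cfsg.Agent.OddCyclic.Bc.Defs
import Cfsg.Agent.OddCyclic.EmpFFList
import Cfsg.Agent.OddCyclic.RedSevenA
import Cfsg.Agent.ZN.Block

/-!
# S0342, leaf [Bc], type (b), case A2: offenders (blueprints/S0342-Bc-helper108.md, sections 2, 4)

`T = S`, `r ∈ C_V(S)#` is fixed by `ξ`, `p ∈ C_V(S)` is moved by `ξ`. If `H` has an FF-offender on `V` then `⟨ξ⟩` is
normal in `H` and `|V : C_V(ξ)| = 4`.
-/

set_option autoImplicit false
set_option linter.unusedSectionVars false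

namespace Cfsg.Agent.OddCyclic.Bc.AaFF

open Subgroup
open Cfsg.Agent.OddCyclic.T1Defs Cfsg.Agent.OddCyclic.T1Module Cfsg.Agent.OddCyclic.FFBasic
  Cfsg.Agent.OddCyclic.FFRed Cfsg.Agent.OddCyclic.RedFFDefs
open Cfsg.Agent.OddCyclic.FFThree (IsFour Mod Par)

universe u

variable {H V : Type u} [Group H] [CommGroup V] {ρ : H →* MulAut V} {S A K : Subgroup H} {ξ : H} {p r : V}

/-! ### permutations -/

section perm

open Equiv

theorem sq_of_fix : ∀ i : Fin 5, ∀ σ : Perm (Fin 5), Perm.sign σ = 1 → σ i = i → σ ^ 4 = 1 → σ * σ = 1 := by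
  decide +kernel

theorem card_klein : ∀ i : Fin 5, (Finset.univ.filter fun σ : Perm (Fin 5) =>
    Perm.sign σ = 1 ∧ σ i = i ∧ σ * σ = 1).card = 4 := by decide +kernel

theorem card_stab : ∀ i : Fin 5, (Finset.univ.filter fun σ : Perm (Fin 5) =>
    Perm.sign σ = 1 ∧ σ i = i).card = 12 := by decide +kernel

theorem klein_mem : ∀ i j k l m : Fin 5, i ≠ j → i ≠ k → i ≠ l → i ≠ m → j ≠ k → l ≠ m → j ≠ l → j ≠ m → k ≠ l → k ≠ m →
    Perm.sign (swap j k * swap l m) = 1 ∧ (swap j k * swap l m) i = i ∧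
      (swap j k * swap l m) * (swap j k * swap l m) = 1 := by decide +kernel

theorem even_cases : ∀ i : Fin 5, ∀ σ : Perm (Fin 5), Perm.sign σ = 1 → σ i = i → σ * σ = 1 ∨
    ∃ j k l : Fin 5, i ≠ j ∧ i ≠ k ∧ i ≠ l ∧ j ≠ k ∧ k ≠ l ∧ j ≠ l ∧ σ = swap j k * swap k l := by decide +kernel

theorem exists_two : ∀ i j k : Fin 5, i ≠ j → i ≠ k → j ≠ k → ∃ l m : Fin 5, i ≠ l ∧ i ≠ m ∧ l ≠ m ∧ j ≠ l ∧ j ≠ m ∧
    k ≠ l ∧ k ≠ m := by decide +kernel

theorem tri : ∀ i l m : Fin 5, i ≠ l → i ≠ m → l ≠ m → swap l m * swap l i ≠ 1 ∧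
    (swap l m * swap l i) * (swap l m * swap l i) * (swap l m * swap l i) = 1 := by decide +kernel

theorem conj1 : ∀ i j k m : Fin 5, i ≠ j → i ≠ k → m ≠ j → m ≠ k → swap m i * swap j k * (swap m i)⁻¹ = swap j k := by
  decide +kernel

theorem conj2 : ∀ i l m : Fin 5, i ≠ l → i ≠ m → l ≠ m → swap m i * swap l m * (swap m i)⁻¹ = swap l i := by
  decide +kernel

/-- `V₄` and `A₄` -/
def kl (i : Fin 5) : Subgroup (Perm (Fin 5)) :=
  { carrier := {σ | Perm.sign σ = 1 ∧ σ i = i}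
    one_mem' := ⟨map_one _, rfl⟩
    mul_mem' := by
      rintro a b ⟨ha, ha'⟩ ⟨hb, hb'⟩
      exact ⟨by rw [map_mul, ha, hb, one_mul], by rw [Perm.mul_apply, hb', ha']⟩
    inv_mem' := by
      rintro a ⟨ha, ha'⟩
      exact ⟨by rw [map_inv, ha, inv_one], by rw [Perm.inv_eq_iff_eq]; exact ha'.symm⟩ }

theorem mem_kl {i : Fin 5} {σ : Perm (Fin 5)} : σ ∈ kl i ↔ Perm.sign σ = 1 ∧ σ i = i := Iff.rfl

theorem natCard_kl (i : Fin 5) : Nat.card (kl i) = 12 := by
  rw [← card_stab i, ← Set.ncard_coe_finset, ← SetLike.coe_sort_coe, Nat.card_coe_set_eq]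
  congr 1
  ext π
  rw [SetLike.mem_coe, mem_kl, Finset.mem_coe, Finset.mem_filter]
  exact ⟨fun h => ⟨Finset.mem_univ _, h⟩, fun h => h.2⟩

/-- a Sylow 2-subgroup of `A₅` -/
theorem exists_fixed_point {P : Subgroup (Perm (Fin 5))} (hP : ∀ σ ∈ P, Perm.sign σ = 1) (hc : Nat.card P = 4) :
    ∃ i, ∀ σ : Perm (Fin 5), Perm.sign σ = 1 → σ i = i → σ * σ = 1 → σ ∈ P := by
  have hf2 : Fact (Nat.Prime 2) := ⟨Nat.prime_two⟩
  have hP2 : IsPGroup 2 P := IsPGroup.of_card (n := 2) (by rw [hc]; norm_num)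
  obtain ⟨i, hi⟩ : ∃ i : Fin 5, i ∈ MulAction.fixedPoints P (Fin 5) := by
    have h1 := hP2.card_modEq_card_fixedPoints (Fin 5)
    have h2 : Nat.card (MulAction.fixedPoints P (Fin 5)) ≠ 0 := by
      intro h3
      rw [h3, Nat.card_eq_fintype_card, Fintype.card_fin] at h1
      exact absurd h1 (by decide)
    obtain ⟨⟨x, hx⟩⟩ := (Nat.card_ne_zero.1 h2).1
    exact ⟨x, hx⟩
  refine ⟨i, ?_⟩
  obtain ⟨D, hD⟩ : ∃ D : Finset (Perm (Fin 5)), D = Finset.univ.filter fun σ : Perm (Fin 5) =>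
    Perm.sign σ = 1 ∧ σ i = i ∧ σ * σ = 1 := ⟨_, rfl⟩
  have h1 : (P : Set (Perm (Fin 5))) ⊆ (D : Set (Perm (Fin 5))) := by
    intro σ hσ
    have h4 : σ ^ 4 = 1 := by
      have h5 : (⟨σ, hσ⟩ : P) ^ 4 = 1 := by rw [← hc]; exact pow_card_eq_one'
      exact congrArg Subtype.val h5
    have h6 : σ i = i := hi ⟨σ, hσ⟩
    rw [hD, Finset.mem_coe, Finset.mem_filter]
    exact ⟨Finset.mem_univ _, hP σ hσ, h6, sq_of_fix i σ (hP σ hσ) h6 h4⟩
  have h2 : (P : Set (Perm (Fin 5))) = (D : Set (Perm (Fin 5))) := by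
    apply Set.eq_of_subset_of_ncard_le h1
    rw [Set.ncard_coe_finset, hD, card_klein, ← hc]
    exact (Nat.card_coe_set_eq _).le
  intro σ h3 h4 h5
  have h6 : σ ∈ (D : Set (Perm (Fin 5))) := by
    rw [hD, Finset.mem_coe, Finset.mem_filter]
    exact ⟨Finset.mem_univ _, h3, h4, h5⟩
  rw [← h2] at h6
  exact h6

end perm

/-- the data of case A2 -/
structure Aa (ρ : H →* MulAut V) (S : Subgroup H) (ξ : H) (p r : V) : Prop where
  cyc : OddCyc H
  core : ∀ D : Subgroup H, D.Normal → IsPGroup 2 D → D = ⊥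
  inj : Function.Injective ρ
  sq : ∀ v : V, v * v = 1
  two : IsPGroup 2 S
  index : ¬ 2 ∣ S.index
  ξ3 : orderOf ξ = 3
  pS : p ∈ CS ρ S
  rS : r ∈ CS ρ S
  r1 : r ≠ 1
  ξr : ρ ξ r = r
  ξp : ρ ξ p ≠ p
  ck : ∀ K : Subgroup H, K.Normal → IsSimpleGroup K → (∃ x y : K, x * y ≠ y * x) → ξ ∈ K → CS ρ K = ⊥

/-- the stabiliser -/
def stab (ρ : H →* MulAut V) (v : V) : Subgroup H where
  carrier := {g | ρ g v = v}
  one_mem' := by show ρ 1 v = v; rw [map_one]; rfl
  mul_mem' := by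
    intro a b ha hb
    have ha' : ρ a v = v := ha
    have hb' : ρ b v = v := hb
    show ρ (a * b) v = v
    rw [map_mul, MulAut.mul_apply, hb', ha']
  inv_mem' := by
    intro a ha
    have ha' : ρ a v = v := ha
    show ρ a⁻¹ v = v
    rw [map_inv]
    conv_lhs => rw [← ha']
    exact (ρ a).symm_apply_apply v

theorem mem_stab {v : V} {g : H} : g ∈ stab ρ v ↔ ρ g v = v := Iff.rfl

namespace Aa

variable (h : Aa ρ S ξ p r)

include h

/-- a subgroup of prime index of `K ∋ ξ` does not centralise `p` and `r` -/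
theorem false_of [Finite H] {N : Subgroup H} (hK : K.Normal) (hs : IsSimpleGroup K) (hn : ∃ x y : K, x * y ≠ y * x) (hξ : ξ ∈ K)
    (hNK : N ≤ K) (hN : (N.relIndex K).Prime) (hp : ∀ g ∈ N, ρ g p = p) (hr : ∀ g ∈ N, ρ g r = r) : False := by
  have h1 : N ≤ stab ρ r ⊓ K := le_inf hr hNK
  have h2 := Subgroup.relIndex_mul_relIndex N (stab ρ r ⊓ K) K h1 inf_le_right
  have hξs : ξ ∈ stab ρ r ⊓ K := ⟨h.ξr, hξ⟩
  rcases (Nat.dvd_prime hN).1 ⟨_, h2.symm⟩ with h3 | h3
  · rw [Subgroup.relIndex_eq_one] at h3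
    exact h.ξp (hp ξ (h3 hξs))
  · rw [h3] at h2
    have h4 : (stab ρ r ⊓ K).relIndex K = 1 := by
      have := hN.pos
      exact Nat.eq_of_mul_eq_mul_left this (by rw [h2, mul_one])
    rw [Subgroup.relIndex_eq_one] at h4
    apply h.r1
    have h5 : r ∈ CS ρ K := fun g hg => (h4 hg).1
    rw [h.ck K hK hs hn hξ] at h5
    exact h5

theorem three_mem [Finite H] (hK : K.Normal) (h3 : 3 ∣ Nat.card K) : ξ ∈ K :=
  CompBasic.mem_of_orderOf h.cyc Nat.prime_three (by norm_num) hK h3 h.ξ3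

theorem ne {k : H} (hk : k ≠ 1) : ∃ v, ρ k v ≠ v := by
  by_contra hcon
  push Not at hcon
  apply hk
  apply h.inj
  rw [map_one]
  ext v
  exact hcon v

/-- `S₃` -/
theorem outS3 [Finite H] (ho : OutS3 ρ A) : (zpowers ξ).Normal ∧ (fx ρ ξ).index = 4 := by
  obtain ⟨y, hy, hyn, -, -, -, hi⟩ := ho
  have h1 : ξ ∈ zpowers y := h.three_mem hyn (by rw [Nat.card_zpowers, hy])
  have h2 : zpowers ξ = zpowers y := by
    apply Subgroup.eq_of_le_of_card_ge (zpowers_le.2 h1)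
    rw [Nat.card_zpowers, Nat.card_zpowers, hy, h.ξ3]
  refine ⟨by rw [h2]; exact hyn, ?_⟩
  rw [← hi]
  congr 1
  apply le_antisymm
  · intro v hv
    have h3 : y ∈ zpowers ξ := by rw [h2]; exact mem_zpowers y
    obtain ⟨n, hn⟩ := h3
    show ρ y v = v
    rw [← hn]
    exact FFPsl.fx_zpow ρ hv n
  · intro v hv
    obtain ⟨n, hn⟩ := h1
    show ρ ξ v = v
    rw [← hn]
    exact FFPsl.fx_zpow ρ hv n

/-- `SL₂(q)` -/
theorem outLin [Finite H] [Finite V] (hA : BO ρ A) (ho : OutLin ρ A) : False := by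
  obtain ⟨L, hL, hAL, F, i1, i2, i3, h4, ⟨e⟩, hAc, hi, hiA, hfix⟩ := ho
  have hs : IsSimpleGroup L := by
    have := isSimpleGroup_sl2 (F := F) h4
    exact e.isSimpleGroup
  have hn := COneXL.ncomm_sl2 h4 e
  have h3 : 3 ∣ Nat.card L := by
    rw [Nat.card_congr e.toEquiv, T1Sl2.card_sl2]
    obtain ⟨n, hn, hq⟩ := T1Sl2.card_pow F
    have h5 : Fintype.card F % 3 = 1 ∨ Fintype.card F % 3 = 2 := by
      rw [hq]
      clear hn hq
      induction n with
      | zero => left; rfl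
      | succ n ih => rw [pow_succ]; omega
    rcases h5 with h5 | h5
    · exact Dvd.dvd.mul_left (by omega) _
    · exact Dvd.dvd.mul_right (Dvd.dvd.mul_right (by omega) _) _
  have hξ := h.three_mem hL h3
  have hnat := COneXL.isNat_of_lin h.sq h.inj hA.sq hAL h4 e hAc hiA
  have h5 := COneXL.fpf_of_nat e hnat hξ (by rw [h.ξ3]; decide) (by
    rintro rfl
    have := h.ξ3
    rw [orderOf_one] at this
    omega)
  rw [h.ck L hL hs hn hξ] at h5
  exact h.r1 (h5 h.ξr)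

/-- `S` as a Sylow subgroup -/
theorem exists_syl [Finite H] (K : Subgroup H) [K.Normal] : ∃ T : Sylow 2 K, (T : Subgroup K) = S.subgroupOf K := by
  obtain ⟨TH, hTH⟩ : ∃ TH : Sylow 2 H, (TH : Subgroup H) = S := ⟨h.two.toSylow h.index, rfl⟩
  refine ⟨(Lib.SylowNormalInf.isPGroup_subgroupOf TH K).toSylow (Lib.SylowNormalInf.not_dvd_relIndex TH K), ?_⟩
  rw [← hTH]
  rfl

/-- `L₃(2)` -/
theorem outSeven [Finite H] [Finite V] (hA : BO ρ A) (hA1 : A ≠ ⊥) (ho : OutSeven A) : False := by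
  have hf2 : Fact (Nat.Prime 2) := ⟨Nat.prime_two⟩
  obtain ⟨L, hL, hAL, hs, hcard⟩ := ho
  have hn : ∃ x y : L, x * y ≠ y * x := EmpFFList.ncomm_of_card hs (by rw [hcard]; norm_num)
  have hξ := h.three_mem hL (by rw [hcard]; norm_num)
  have hmod : Mod (ρ.comp L.subtype) :=
    ⟨COneSeven.l32 hs hcard, h.sq, fun _ hy => h.ne fun h1 => hy (Subtype.ext h1)⟩
  have hr : A ≤ L.subtype.range := by rw [Subgroup.range_subtype]; exact hAL
  have hbo : BO (ρ.comp L.subtype) (A.subgroupOf L) := FFLoc.bo_comap hA L.subtype_injective hr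
  have hne : A.subgroupOf L ≠ ⊥ := by
    intro h1
    apply hA1
    rw [Subgroup.subgroupOf_eq_bot] at h1
    rw [eq_bot_iff]
    exact (le_inf le_rfl hAL).trans (disjoint_iff.1 h1).le
  obtain ⟨T, hT⟩ := h.exists_syl L
  obtain ⟨C, hC, hCT, hCfix⟩ : ∃ C : Subgroup L, IsFour C ∧ C ≤ T ∧
      ∀ a ∈ C, a ≠ 1 → fx (ρ.comp L.subtype) a = CS (ρ.comp L.subtype) C := by
    rcases FFThree.main hmod hbo hne with h1 | ⟨-, h2, h3⟩
    · exact FFThree.Alpha.exists_axis hmod h1 T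
    · have h2' : IsPGroup 2 (A.subgroupOf L) := IsPGroup.of_card (n := 2) (by rw [h2.card]; norm_num)
      obtain ⟨Q, hQ⟩ := h2'.exists_le_sylow
      obtain ⟨g, hg⟩ := MulAction.exists_smul_eq L Q T
      refine ⟨(A.subgroupOf L).map (MulAut.conj g).toMonoidHom, RedSevenA.isFour_map h2 _ (MulAut.conj g).injective, ?_, ?_⟩
      · rw [← hg]
        rintro _ ⟨a, ha, rfl⟩
        exact ⟨a, hQ ha, rfl⟩
      · rintro _ ⟨a, ha, rfl⟩ ha1
        have ha1' : a ≠ 1 := by rintro rfl; exact ha1 (map_one _)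
        rw [EmpFFSeven.CS_conj, ← h3 a ha ha1']
        exact fx_conj _ g a
  obtain ⟨B, hB⟩ := FFThree.par hmod.l32 T hC hCT hCfix
  have hfixT : ∀ v ∈ CS ρ S, v ∈ CS (ρ.comp L.subtype) (T : Subgroup L) := by
    intro v hv t ht
    have h1 : t ∈ (T : Subgroup L) := ht
    rw [hT, mem_subgroupOf] at h1
    exact hv _ h1
  refine h.false_of (N := (normalizer (B : Set L)).map L.subtype) hL hs hn hξ (map_subtype_le _) ?_ ?_ ?_
  · have h1 : ((normalizer (B : Set L)).map L.subtype).relIndex L = (normalizer (B : Set L)).index := by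
      rw [Subgroup.relIndex, Subgroup.subgroupOf, Subgroup.comap_map_eq_self_of_injective L.subtype_injective]
    rw [h1]
    have h2 := (normalizer (B : Set L)).card_mul_index
    rw [RedSevenA.card_normalizer hmod.l32 T hB.four hB.le, hcard] at h2
    have h3 : (normalizer (B : Set L)).index = 7 := by omega
    rw [h3]
    norm_num
  · rintro _ ⟨g, hg, rfl⟩
    exact hB.cent g hg p (hfixT p h.pS)
  · rintro _ ⟨g, hg, rfl⟩
    exact hB.cent g hg r (hfixT r h.rS)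

theorem range_two {a : H} (ha : (fx ρ a).index = 2) [Finite V] {u w : V} (hu : u ∈ (cm ρ a).range) (hu1 : u ≠ 1)
    (hw : w ∈ (cm ρ a).range) : w = 1 ∨ w = u := by
  have hc := card_range_cm ρ a
  rw [ha] at hc
  obtain ⟨p, q, hpq, hall⟩ := Nat.card_eq_two_iff.1 hc
  have h1 : ∀ t : (cm ρ a).range, t = p ∨ t = q := by
    intro t
    have : t ∈ ({p, q} : Set _) := by rw [hall]; trivial
    simpa using this
  by_contra hcon
  push Not at hcon
  have e1 : (⟨u, hu⟩ : (cm ρ a).range) ≠ 1 := fun h => hu1 (congrArg Subtype.val h)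
  have e2 : (⟨w, hw⟩ : (cm ρ a).range) ≠ 1 := fun h => hcon.1 (congrArg Subtype.val h)
  have e3 : (⟨w, hw⟩ : (cm ρ a).range) ≠ ⟨u, hu⟩ := fun h => hcon.2 (congrArg Subtype.val h)
  rcases h1 1 with h2 | h2 <;> rcases h1 ⟨u, hu⟩ with h3 | h3 <;> rcases h1 ⟨w, hw⟩ with h4 | h4
  · exact e1 (h3.trans h2.symm)
  · exact e1 (h3.trans h2.symm)
  · exact e2 (h4.trans h2.symm)
  · exact e3 (h4.trans h3.symm)
  · exact e3 (h4.trans h3.symm)
  · exact e2 (h4.trans h2.symm)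
  · exact e1 (h3.trans h2.symm)
  · exact e1 (h3.trans h2.symm)

/-- an involution centralises `[V, a]` -/
theorem fix_range {a : H} (haa : a * a = 1) {w : V} (hw : w ∈ (cm ρ a).range) : ρ a w = w := by
  obtain ⟨v, rfl⟩ := hw
  rw [cm_apply, map_mul, map_inv, ← MulAut.mul_apply, ← map_mul, haa, map_one, MulAut.one_apply]
  have h1 := h.sq (v * (ρ a v)⁻¹)
  have h2 : v * (ρ a v)⁻¹ = (v * (ρ a v)⁻¹)⁻¹ := eq_inv_of_mul_eq_one_left h1
  rw [h2, mul_inv, inv_inv, mul_comm]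

/-- transpositions are determined by their centres -/
theorem swap_fix [Finite H] [Finite V] {K : Subgroup H} (e : K ≃* Equiv.Perm (Fin 5))
    (hsw : ∀ i j : Fin 5, i ≠ j → (fx ρ (e.symm (Equiv.swap i j) : H)).index = 2) {i j k l m : Fin 5}
    (h1 : i ≠ j) (h2 : i ≠ k) (h3 : i ≠ l) (h4 : i ≠ m) (h5 : j ≠ k) (h6 : l ≠ m) (h7 : j ≠ l) (h8 : j ≠ m) (h9 : k ≠ l)
    (h10 : k ≠ m) {v : V} (hv : ρ (e.symm (Equiv.swap j k * Equiv.swap l m) : H) v = v) :
    ρ (e.symm (Equiv.swap j k) : H) v = v := by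
  by_contra hcon
  have hinv : ∀ a b : Fin 5, ((e.symm (Equiv.swap a b) : K) : H) * (e.symm (Equiv.swap a b) : K) = 1 := by
    intro a b
    rw [← Subgroup.coe_mul, ← map_mul, Equiv.swap_mul_self, map_one, Subgroup.coe_one]
  obtain ⟨w, hw⟩ : ∃ w, w = cm ρ (e.symm (Equiv.swap j k) : H) v := ⟨_, rfl⟩
  have hw1 : w ≠ 1 := by
    rw [hw, cm_apply]
    intro h0
    exact hcon (mul_inv_eq_one.1 h0)
  have hwj : w ∈ (cm ρ (e.symm (Equiv.swap j k) : H)).range := ⟨v, hw.symm⟩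
  have hwl : w ∈ (cm ρ (e.symm (Equiv.swap l m) : H)).range := by
    refine ⟨v, ?_⟩
    rw [hw, cm_apply, cm_apply]
    congr 1
    have h11 : ρ (e.symm (Equiv.swap j k) : H) (ρ (e.symm (Equiv.swap l m) : H) v) = v := by
      rw [← MulAut.mul_apply, ← map_mul, ← Subgroup.coe_mul, ← map_mul]
      exact hv
    calc ρ (e.symm (Equiv.swap l m) : H) v
        = ρ ((e.symm (Equiv.swap j k) : H) * (e.symm (Equiv.swap j k) : K)) (ρ (e.symm (Equiv.swap l m) : H) v) := by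
          rw [hinv, map_one, MulAut.one_apply]
      _ = ρ (e.symm (Equiv.swap j k) : H) (ρ (e.symm (Equiv.swap j k) : H) (ρ (e.symm (Equiv.swap l m) : H) v)) := by
          rw [map_mul, MulAut.mul_apply]
      _ = ρ (e.symm (Equiv.swap j k) : H) v := by rw [h11]
  -- `w ∈ [V, (l i)]`
  have hc1 : ((e.symm (Equiv.swap m i) : K) : H) * (e.symm (Equiv.swap j k) : K) * ((e.symm (Equiv.swap m i) : K) : H)⁻¹ =
      (e.symm (Equiv.swap j k) : K) := by
    rw [← Subgroup.coe_mul, ← Subgroup.coe_inv, ← Subgroup.coe_mul, ← map_mul, ← map_inv, ← map_mul,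
      conj1 i j k m h1 h2 h8.symm h10.symm]
  have hc2 : ((e.symm (Equiv.swap m i) : K) : H) * (e.symm (Equiv.swap l m) : K) * ((e.symm (Equiv.swap m i) : K) : H)⁻¹ =
      (e.symm (Equiv.swap l i) : K) := by
    rw [← Subgroup.coe_mul, ← Subgroup.coe_inv, ← Subgroup.coe_mul, ← map_mul, ← map_inv, ← map_mul,
      conj2 i l m h3 h4 h6]
  have hsw1 : ρ (e.symm (Equiv.swap m i) : H) w = w := by
    have h11 := FFThree.range_cm_conj (e.symm (Equiv.swap m i) : H) _ w hwj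
    rw [hc1] at h11
    rcases h.range_two (hsw j k h5) hwj hw1 h11 with h12 | h12
    · exfalso
      apply hw1
      rw [← map_one (ρ (e.symm (Equiv.swap m i) : H))] at h12
      exact (ρ (e.symm (Equiv.swap m i) : H)).injective h12
    · exact h12
  have hwi : w ∈ (cm ρ (e.symm (Equiv.swap l i) : H)).range := by
    have h11 := FFThree.range_cm_conj (e.symm (Equiv.swap m i) : H) _ w hwl
    rwa [hc2, hsw1] at h11
  -- the 3-cycle acts trivially
  obtain ⟨g, hg⟩ : ∃ g : H, g = (e.symm (Equiv.swap l m * Equiv.swap l i) : H) := ⟨_, rfl⟩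
  have hgm : g = (e.symm (Equiv.swap l m) : H) * (e.symm (Equiv.swap l i) : H) := by
    rw [hg, map_mul, Subgroup.coe_mul]
  have hstep : ∀ a : H, (fx ρ a).index = 2 → w ∈ (cm ρ a).range → ∀ u, ρ a u = u ∨ ρ a u = w * u := by
    intro a ha hwa u
    rcases h.range_two ha hwa hw1 (w := cm ρ a u) ⟨u, rfl⟩ with h11 | h11
    · left
      rw [cm_apply] at h11
      exact mul_inv_eq_one.1 h11
    · right
      rw [cm_apply] at h11
      rw [← h11, inv_mul_cancel_right]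
  have hgu : ∀ u, ρ g u = u ∨ ρ g u = w * u := by
    intro u
    rw [hgm, map_mul, MulAut.mul_apply]
    have e1 := h.fix_range (hinv l m) hwl
    rcases hstep _ (hsw l i h3.symm) hwi u with h11 | h11 <;>
      rcases hstep _ (hsw l m h6) hwl u with h12 | h12
    · left; rw [h11, h12]
    · right; rw [h11, h12]
    · right; rw [h11, map_mul, e1, h12]
    · left; rw [h11, map_mul, e1, h12, ← mul_assoc, h.sq, one_mul]
  have hgw : ρ g w = w := by
    rw [hgm, map_mul, MulAut.mul_apply, h.fix_range (hinv l i) hwi, h.fix_range (hinv l m) hwl]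
  have hgg : g * g * g = 1 := by
    rw [hg, ← Subgroup.coe_mul, ← Subgroup.coe_mul, ← map_mul, ← map_mul, (tri i l m h3 h4 h6).2, map_one,
      Subgroup.coe_one]
  have hg1 : g ≠ 1 := by
    rw [hg]
    intro h11
    have h12 : e.symm (Equiv.swap l m * Equiv.swap l i) = 1 := Subtype.ext h11
    rw [map_eq_one_iff e.symm e.symm.injective] at h12
    exact (tri i l m h3 h4 h6).1 h12
  obtain ⟨u, hu⟩ := h.ne hg1
  have h11 := (hgu u).resolve_left hu
  have h12 : ρ g (ρ g u) = u := by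
    rw [h11, map_mul, hgw, h11, ← mul_assoc, h.sq, one_mul]
  have h13 : ρ (g * g * g) u = ρ g u := by
    rw [mul_assoc, map_mul, MulAut.mul_apply, map_mul, MulAut.mul_apply, h12]
  rw [hgg, map_one, MulAut.one_apply] at h13
  exact hu h13.symm

/-- `S₅` -/
theorem outFive [Finite H] [Finite V] (ho : OutFive ρ A) : False := by
  have hf2 : Fact (Nat.Prime 2) := ⟨Nat.prime_two⟩
  obtain ⟨K, -, e, hn, hsw, -⟩ := ho
  have hn' : (COneXL.alt K e).Normal := hn
  have hs := COneXL.simple_alt (e := e)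
  have hcard := COneXL.card_alt (e := e)
  have hξ := h.three_mem hn' (by rw [hcard]; norm_num)
  obtain ⟨T, hT⟩ := h.exists_syl (COneXL.alt K e)
  -- the image of `S ∩ A₅`
  obtain ⟨P, hP⟩ : ∃ P : Subgroup (Equiv.Perm (Fin 5)),
      P = (((S ⊓ COneXL.alt K e).subgroupOf K).map e.toMonoidHom) := ⟨_, rfl⟩
  have hPmem : ∀ σ, σ ∈ P ↔ ((e.symm σ : K) : H) ∈ S ∧ Equiv.Perm.sign σ = 1 := by
    intro σ
    rw [hP]
    constructor
    · rintro ⟨k, hk, rfl⟩
      have hk' := mem_subgroupOf.1 hk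
      have h1 := (COneXL.mem_alt (e := e) k.2).1 hk'.2
      refine ⟨?_, ?_⟩
      · change ((e.symm (e k) : K) : H) ∈ S
        rw [e.symm_apply_apply]; exact hk'.1
      · exact Equiv.Perm.mem_alternatingGroup.1 h1
    · rintro ⟨h1, h2⟩
      refine ⟨e.symm σ, mem_subgroupOf.2 ⟨h1, ?_⟩, e.apply_symm_apply σ⟩
      refine (COneXL.mem_alt (e := e) (e.symm σ).2).2 ?_
      rw [Equiv.Perm.mem_alternatingGroup]
      change Equiv.Perm.sign (e (e.symm σ)) = 1
      rw [e.apply_symm_apply]; exact h2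
  have hPc : Nat.card P = 4 := by
    have h1 : Nat.card P = Nat.card (T : Subgroup (COneXL.alt K e)) := by
      rw [hP, Subgroup.card_map_of_injective e.injective, hT, Nat.card_congr (Subgroup.subgroupOfEquivOfLe
        (inf_le_right.trans COneXL.alt_le)).toEquiv, ← Subgroup.inf_subgroupOf_right,
        Nat.card_congr (Subgroup.subgroupOfEquivOfLe inf_le_right).toEquiv]
    rw [h1, T.card_eq_multiplicity, hcard]
    have h2 : (60 : ℕ).factorization 2 = 2 := by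
      rw [show (60 : ℕ) = 2 ^ 2 * 15 by norm_num, Nat.factorization_mul (by norm_num) (by norm_num),
        Nat.factorization_pow]
      simp [Nat.Prime.factorization Nat.prime_two, Nat.factorization_eq_zero_of_not_dvd (show ¬ 2 ∣ 15 by norm_num)]
    rw [h2]; norm_num
  obtain ⟨i, hi⟩ := exists_fixed_point (fun σ hσ => ((hPmem σ).1 hσ).2) hPc
  -- `A₄` centralises `C_V(S)`
  have hcent : ∀ v ∈ CS ρ S, ∀ σ ∈ kl i, ρ ((e.symm σ : K) : H) v = v := by
    intro v hv σ hσ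
    have hk : ∀ τ : Equiv.Perm (Fin 5), Equiv.Perm.sign τ = 1 → τ i = i → τ * τ = 1 → ρ ((e.symm τ : K) : H) v = v :=
      fun τ h1 h2 h3 => hv _ ((hPmem τ).1 (hi τ h1 h2 h3)).1
    have hsv : ∀ j k : Fin 5, i ≠ j → i ≠ k → j ≠ k → ρ ((e.symm (Equiv.swap j k) : K) : H) v = v := by
      intro j k h1 h2 h3
      obtain ⟨l, m, g1, g2, g3, g4, g5, g6, g7⟩ := exists_two i j k h1 h2 h3
      obtain ⟨k1, k2, k3⟩ := klein_mem i j k l m h1 h2 g1 g2 h3 g3 g4 g5 g6 g7
      exact h.swap_fix e hsw h1 h2 g1 g2 h3 g3 g4 g5 g6 g7 (hk _ k1 k2 k3)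
    rcases even_cases i σ hσ.1 hσ.2 with h1 | ⟨j, k, l, h1, h2, h3, h4, h5, h6, h7⟩
    · exact hk σ hσ.1 hσ.2 h1
    · rw [h7, map_mul, Subgroup.coe_mul, map_mul, MulAut.mul_apply, hsv k l h2 h3 h5, hsv j k h1 h2 h4]
  refine h.false_of (N := ((kl i).comap e.toMonoidHom).map K.subtype) hn' hs COneXL.alt_ncomm hξ ?_ ?_ ?_ ?_
  · rintro _ ⟨g, hg, rfl⟩
    refine (COneXL.mem_alt (e := e) g.2).2 ?_
    rw [Equiv.Perm.mem_alternatingGroup]
    exact hg.1
  · have h1 : Nat.card (((kl i).comap e.toMonoidHom).map K.subtype : Subgroup H) = 12 := by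
      rw [Subgroup.card_map_of_injective K.subtype_injective, ← natCard_kl i]
      exact Nat.card_congr ((e.subgroupMap ((kl i).comap e.toMonoidHom)).toEquiv.trans
        (Equiv.subtypeEquivRight (fun σ => by
          rw [Subgroup.mem_map]
          constructor
          · rintro ⟨k, hk, rfl⟩; exact hk
          · intro hσ
            exact ⟨e.symm σ, by rw [Subgroup.mem_comap]; change e (e.symm σ) ∈ kl i; rwa [e.apply_symm_apply],
              e.apply_symm_apply σ⟩)))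
    have h2 := ZN.Block.card_mul_relIndex' (K := ((kl i).comap e.toMonoidHom).map K.subtype) (L := COneXL.alt K e) (by
      rintro _ ⟨g, hg, rfl⟩
      refine (COneXL.mem_alt (e := e) g.2).2 ?_
      rw [Equiv.Perm.mem_alternatingGroup]
      exact hg.1)
    rw [h1, hcard] at h2
    have h3 : (((kl i).comap e.toMonoidHom).map K.subtype).relIndex (COneXL.alt K e) = 5 := by omega
    rw [h3]; norm_num
  · rintro _ ⟨g, hg, rfl⟩
    have h1 := hcent p h.pS (e g) hg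
    rw [e.symm_apply_apply] at h1
    exact h1
  · rintro _ ⟨g, hg, rfl⟩
    have h1 := hcent r h.rS (e g) hg
    rw [e.symm_apply_apply] at h1
    exact h1

/-- **FF in case A2** -/
theorem main [Finite H] [Finite V] (hF : FFC H)
    (hFF : ∃ A : Subgroup H, A ≠ ⊥ ∧ (∀ a ∈ A, a * a = 1) ∧ Nat.card V ≤ Nat.card A * Nat.card (CS ρ A)) :
    (zpowers ξ).Normal ∧ (fx ρ ξ).index = 4 := by
  obtain ⟨A, hA, hA1⟩ := EmpFFList.exists_bo hFF
  rcases hF V h.sq ρ h.inj h.core A hA hA1 with ho | ho | ho | ho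
  · exact h.outS3 ho
  · exact (h.outLin hA ho).elim
  · exact (h.outFive ho).elim
  · exact (h.outSeven hA hA1 ho).elim

end Aa

end Cfsg.Agent.OddCyclic.Bc.AaFF
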