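import Cfsg.Agent.OddCyclic.Bc.MFZero
import Cfsg.Agent.OddCyclic.L32.Conf
import Cfsg.Agent.OddCyclic.L32.FD
import Cfsg.Agent.OddCyclic.EmpFF

/-!
# S0342, leaf [Bc], type (b): the module frame of `V = ⟨Z^{N_G(J)}⟩`

`V = vv S`, `L₀ = N_G(V) = LL S`, `H = L₀/C_G(V)`.

* `dt_of`: the data `FD.Dt` for `V ≤ Ω₁Z(J)` normalised by `T`;
* `lift_three`: elements of order 3 of `H` lift to elements of order 3;
* `mf_of`: `MF` for `V`.
-/

set_option autoImplicit false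
set_option linter.unusedSectionVars false

namespace Cfsg.Agent.OddCyclic.Bc.Inst

open Subgroup Cfsg Cfsg.Agent.ZN Cfsg.Agent.ZN.ChoiceBase Cfsg.Agent.MinSimple Cfsg.Agent.MinSimple.EmptySix
open Cfsg.Agent.MinSimple.EmptyE.Closed (LL vv_comm vv_sq vv_mul_self vv_le jj_le_centralizer_vv conj_mem_vv
  card_le_mm')
open Cfsg.Agent.OddCyclic.T1Defs Cfsg.Agent.OddCyclic.T1Module Cfsg.Agent.OddCyclic.FFBasic
  Cfsg.Agent.OddCyclic.FFRed Cfsg.Agent.OddCyclic.RedRep Cfsg.Agent.OddCyclic.CompStart Cfsg.Agent.OddCyclic.CompBasic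
open Cfsg.Agent.OddCyclic.L32

universe u

variable {G : Type u} [Group G] [Finite G] {S : Sylow 2 G} {T L O₁ O A : Subgroup G} {ξ x : G}

theorem isElementaryAbelian_of {B : Subgroup G} (h : ∀ b ∈ B, b * b = 1) : IsElementaryAbelian 2 B :=
  ⟨⟨⟨fun a b => Subtype.ext (FD.comm_of_sq h a.2 b.2)⟩⟩, fun a ha => by rw [pow_two]; exact h a ha⟩

theorem A_le_jj (c : Conf S T L O₁ O A ξ x) : A ≤ jj (S : Subgroup G) := le_jj c.A_mem

theorem jj_le_T (c : Conf S T L O₁ O A ξ x) : jj (S : Subgroup G) ≤ T := c.J_le.trans c.O₁_le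

theorem T_le (c : Conf S T L O₁ O A ξ x) : T ≤ (S : Subgroup G) := by
  rw [c.T_eq]; exact inf_le_left

theorem A_sq (c : Conf S T L O₁ O A ξ x) : ∀ a ∈ A, a * a = 1 := fun a ha => by
  rw [← pow_two]; exact c.A_mem.1.2 a ha

/-- the data of `FD` for a subgroup `V ≤ Ω₁Z(J)` normalised by `T` -/
theorem dt_of (c : Conf S T L O₁ O A ξ x) {V : Subgroup G} (hV : V ≤ zj (S : Subgroup G))
    (hT : T ≤ normalizer (V : Set G)) : FD.Dt V A O x where
  vsq := fun v hv => by rw [← pow_two]; exact (ChoiceBase.mem_zj.1 (hV hv)).2.1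
  asq := A_sq c
  comm := by
    intro v hv a ha
    exact ((ChoiceBase.mem_zj.1 (hV hv)).2.2 a (A_le_jj c ha)).symm
  max := by
    intro B hB
    refine (card_le_mm' S (isElementaryAbelian_of hB)).trans ?_
    exact (mem_AA_iff.1 c.A_mem).2.2
  ON := c.O_le.trans hT
  xO := c.O_x
  x3 := by rw [← c.x3]; exact pow_orderOf_eq_one x
  gen := c.gen_x
  nle := c.A_not
  two := by
    have h1 : (A ⊓ O).relIndex A = O.relIndex A := by rw [inf_comm, Subgroup.inf_relIndex_right]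
    rw [h1, ← c.O_rel]
    exact Subgroup.relIndex_le_of_le_right ((A_le_jj c).trans (jj_le_T c))
      (by rw [Subgroup.relIndex]; exact Subgroup.index_ne_zero_of_finite)
  swap := by
    intro a ha haO
    have h1 := c.inv a (jj_le_T c (A_le_jj c ha)) haO
    have h2 := (mem_normalizer_iff.1 c.O_x _).1 h1
    exact ⟨_, h2, by group⟩

/-! ### `L₀ = N_G(V)` -/

theorem S_le_LL (S : Sylow 2 G) : (S : Subgroup G) ≤ LL (S : Subgroup G) :=
  (le_normalizer.trans (Basic.normalizer_le_normalizer_jj _)).trans (normalizer_jj_le_vv _)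

theorem T_le_LL (c : Conf S T L O₁ O A ξ x) : T ≤ LL (S : Subgroup G) := (T_le c).trans (S_le_LL S)

theorem O_le_LL (c : Conf S T L O₁ O A ξ x) : O ≤ LL (S : Subgroup G) := c.O_le.trans (T_le_LL c)

theorem O₁_le_LL (c : Conf S T L O₁ O A ξ x) : O₁ ≤ LL (S : Subgroup G) := c.O₁_le.trans (T_le_LL c)

theorem ξ_mem_LL (c : Conf S T L O₁ O A ξ x) : ξ ∈ LL (S : Subgroup G) := normalizer_jj_le_vv _ c.ξJ

/-- `dt` for `V = vv S` -/
theorem dt (c : Conf S T L O₁ O A ξ x) : FD.Dt (vv (S : Subgroup G)) A O x :=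
  dt_of c (vv_le_zj _) (T_le_LL c)

/-- `C_G(V)` is a `3'`-group -/
theorem not_three (c : Conf S T L O₁ O A ξ x) (hG : OddCyc G) (hξ : ∃ v ∈ vv (S : Subgroup G), ξ * v ≠ v * ξ) :
    ¬ 3 ∣ Nat.card (centralizer (vv (S : Subgroup G) : Set G)) := by
  intro h3
  have hle : centralizer (vv (S : Subgroup G) : Set G) ≤ LL (S : Subgroup G) := centralizer_le_normalizer _
  have hn : ((centralizer (vv (S : Subgroup G) : Set G)).subgroupOf (LL (S : Subgroup G))).Normal := by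
    refine ⟨fun k hk g => ?_⟩
    rw [mem_subgroupOf, mem_centralizer_iff] at hk ⊢
    intro v hv
    have h1 : (g : G)⁻¹ * v * g ∈ vv (S : Subgroup G) := by
      have := conj_mem_vv (S := (S : Subgroup G)) (inv_mem g.2) hv
      rwa [inv_inv] at this
    have h2 := hk _ h1
    change v * ((g : G) * k * (g : G)⁻¹) = (g : G) * k * (g : G)⁻¹ * v
    calc v * ((g : G) * k * (g : G)⁻¹) = g * ((g : G)⁻¹ * v * g * k) * (g : G)⁻¹ := by group
      _ = g * (k * ((g : G)⁻¹ * v * g)) * (g : G)⁻¹ := by rw [h2]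
      _ = _ := by group
  have hcard : 3 ∣ Nat.card ((centralizer (vv (S : Subgroup G) : Set G)).subgroupOf (LL (S : Subgroup G))) := by
    rwa [Nat.card_congr (Subgroup.subgroupOfEquivOfLe hle).toEquiv]
  have h1 := mem_of_orderOf (oddCyc_subgroup hG (LL (S : Subgroup G))) Nat.prime_three (by norm_num) hn hcard
    (x := ⟨ξ, ξ_mem_LL c⟩) (by rw [Subgroup.orderOf_mk]; exact c.ξ3)
  obtain ⟨v, hv, hne⟩ := hξ
  exact hne ((mem_centralizer_iff.1 (mem_subgroupOf.1 h1)) v hv).symm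

variable {H V : Type u} [Group H] [CommGroup V] {r : LL (S : Subgroup G) →* H} {ρ : H →* MulAut V} {ι : V →* G}

/-- elements of order 3 lift -/
theorem lift_three (hr : Rep (LL (S : Subgroup G)) (vv (S : Subgroup G)) r ρ ι)
    (h3 : ¬ 3 ∣ Nat.card (centralizer (vv (S : Subgroup G) : Set G))) {y : H} (hy : orderOf y = 3) :
    ∃ g : LL (S : Subgroup G), r g = y ∧ orderOf (g : G) = 3 := by
  obtain ⟨g₀, hg₀⟩ := hr.surj y
  obtain ⟨a, m, hm, hn⟩ := Nat.exists_eq_pow_mul_and_not_dvd (orderOf_pos g₀).ne' 3 (by norm_num)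
  obtain ⟨k, hk⟩ : ∃ k : ℕ, m * k % 3 = 1 := by
    have h1 : m % 3 = 1 ∨ m % 3 = 2 := by
      have h2 : m % 3 < 3 := Nat.mod_lt _ (by norm_num)
      have h3 : m % 3 ≠ 0 := fun h => hm (Nat.dvd_of_mod_eq_zero h)
      omega
    rcases h1 with h1 | h1
    · exact ⟨1, by rw [mul_one]; exact h1⟩
    · exact ⟨2, by rw [Nat.mul_mod, h1]⟩
  set g := g₀ ^ (m * k) with hg
  have hrg : r g = y := by
    have h1 : m * k = 3 * (m * k / 3) + 1 := by
      have := Nat.div_add_mod (m * k) 3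
      omega
    have h2 : y ^ 3 = 1 := by rw [← hy]; exact pow_orderOf_eq_one y
    rw [hg, map_pow, hg₀, h1, pow_succ, pow_mul, h2, one_pow, one_mul]
  have h1 : g ^ 3 ^ a = 1 := by
    rw [hg, ← pow_mul]
    have h2 : m * k * 3 ^ a = orderOf g₀ * k := by rw [hn]; ring
    rw [h2, pow_mul, pow_orderOf_eq_one, one_pow]
  have h2 : r (g ^ 3) = 1 := by
    rw [map_pow, hrg, ← hy]; exact pow_orderOf_eq_one y
  have h4 : ((g ^ 3 : LL (S : Subgroup G)) : G) ∈ centralizer (vv (S : Subgroup G) : Set G) := by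
    rw [hr.r_eq_one] at h2
    rw [mem_centralizer_iff]
    intro v hv
    exact (h2 v hv).symm
  have h5 : (((g ^ 3 : LL (S : Subgroup G)) : G)) ^ 3 ^ a = 1 := by
    rw [← Subgroup.coe_pow, ← pow_mul, mul_comm, pow_mul, h1, one_pow, Subgroup.coe_one]
  have h6 : ((g ^ 3 : LL (S : Subgroup G)) : G) = 1 := by
    have h7 := orderOf_dvd_of_pow_eq_one h5
    have h8 : orderOf ((g ^ 3 : LL (S : Subgroup G)) : G) ∣
        Nat.card (centralizer (vv (S : Subgroup G) : Set G)) := by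
      rw [← Subgroup.orderOf_mk _ h4]
      exact orderOf_dvd_natCard _
    have h9 : (3 ^ a).Coprime (Nat.card (centralizer (vv (S : Subgroup G) : Set G))) :=
      Nat.Coprime.pow_left _ ((Nat.Prime.coprime_iff_not_dvd Nat.prime_three).2 h3)
    exact orderOf_eq_one_iff.1 (Nat.eq_one_of_dvd_coprimes h9 h7 h8)
  refine ⟨g, hrg, ?_⟩
  refine orderOf_eq_prime ?_ ?_
  · rw [← Subgroup.coe_pow]; exact h6
  · intro h7
    have h8 : g = 1 := Subtype.ext h7
    rw [h8, map_one] at hrg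
    rw [← hrg, orderOf_one] at hy
    omega

/-- `C_V(S̄) = Z` -/
theorem mem_CS_S (hr : Rep (LL (S : Subgroup G)) (vv (S : Subgroup G)) r ρ ι) (v : V) :
    v ∈ CS ρ (im (LL (S : Subgroup G)) (S : Subgroup G) r) ↔ ι v ∈ zc (S : Subgroup G) := by
  constructor
  · intro hv
    refine ChoiceBase.mem_zc.2 ⟨vv_le (hr.mem v), vv_sq (hr.mem v), fun s hs => ?_⟩
    have h1 := hv _ (mem_im (S_le_LL S) hs)
    exact (hr.fix (x := ⟨s, S_le_LL S hs⟩)).1 h1
  · rintro hv _ ⟨g, hg, rfl⟩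
    rw [hr.fix]
    exact (ChoiceBase.mem_zc.1 hv).2.2 g (mem_subgroupOf.1 hg)

/-- `V = ⟨Z^{L₀}⟩` -/
theorem gen_of (hr : Rep (LL (S : Subgroup G)) (vv (S : Subgroup G)) r ρ ι) (W : Subgroup V)
    (hZW : CS ρ (im (LL (S : Subgroup G)) (S : Subgroup G) r) ≤ W) (hW : ∀ h : H, ∀ w ∈ W, ρ h w ∈ W) : W = ⊤ := by
  have h1 : vv (S : Subgroup G) ≤ W.map ι := by
    have h2 : zl (S : Subgroup G) (LL (S : Subgroup G)) ≤ W.map ι := by
      refine iSup_le fun g => ?_
      rintro _ ⟨z, hz, rfl⟩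
      obtain ⟨v, rfl⟩ := hr.exists_v (zc_le_vv _ hz)
      exact ⟨ρ (r g) v, hW _ v (hZW ((mem_CS_S hr v).2 hz)), hr.act g v⟩
    rwa [zl_normalizer_vv] at h2
  rw [eq_top_iff]
  intro v _
  obtain ⟨w, hw, hwv⟩ := h1 (hr.mem v)
  rwa [← hr.iinj hwv]

theorem sq_of (hr : Rep (LL (S : Subgroup G)) (vv (S : Subgroup G)) r ρ ι) (v : V) : v * v = 1 := by
  apply hr.iinj
  rw [map_mul, map_one]
  exact vv_mul_self (hr.mem v)

theorem isPGroup_im (r : LL (S : Subgroup G) →* H) : IsPGroup 2 (im (LL (S : Subgroup G)) (S : Subgroup G) r) := by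
  rw [im]
  exact (S.isPGroup'.comap_of_injective _ (LL (S : Subgroup G)).subtype_injective).map r

theorem index_im (hr : Rep (LL (S : Subgroup G)) (vv (S : Subgroup G)) r ρ ι) :
    ¬ 2 ∣ (im (LL (S : Subgroup G)) (S : Subgroup G) r).index := by
  intro hdvd
  have h1 : ((S : Subgroup G).subgroupOf (LL (S : Subgroup G))).index ∣ (S : Subgroup G).index := by
    change (S : Subgroup G).relIndex _ ∣ _
    exact Subgroup.relIndex_dvd_index_of_le (S_le_LL S)
  have h2 := Subgroup.index_map_dvd ((S : Subgroup G).subgroupOf (LL (S : Subgroup G))) hr.surj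
  exact S.not_dvd_index (hdvd.trans (h2.trans h1))

/-- a normal 2-subgroup is contained in every Sylow 2-subgroup -/
theorem le_of_normal {P D : Subgroup H} [Finite H] (hP : IsPGroup 2 P) (hPi : ¬ 2 ∣ P.index) (hD : D.Normal)
    (hD2 : IsPGroup 2 D) : D ≤ P := by
  have : Fact (Nat.Prime 2) := ⟨Nat.prime_two⟩
  have h3 : IsPGroup 2 (D ⊔ P : Subgroup H) := hD2.to_sup_of_normal_left hP
  have h4 : P.relIndex (D ⊔ P) = 1 := by
    obtain ⟨n, hn⟩ := (IsPGroup.iff_card (p := 2)).1 h3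
    have h6 : P.relIndex (D ⊔ P) ∣ 2 ^ n := by
      rw [← hn]; exact Subgroup.relIndex_dvd_card P (D ⊔ P)
    obtain ⟨m, -, hm⟩ := (Nat.dvd_prime_pow Nat.prime_two).1 h6
    rcases Nat.eq_zero_or_pos m with h7 | h7
    · rw [hm, h7, pow_zero]
    · exfalso
      apply hPi
      rw [← Subgroup.relIndex_mul_index (show P ≤ D ⊔ P from le_sup_right), hm]
      exact (dvd_pow_self 2 h7.ne').mul_right _
  rw [Subgroup.relIndex_eq_one] at h4
  exact le_sup_left.trans h4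

/-- `O₂(H) = 1` -/
theorem core_of [Finite H] (hr : Rep (LL (S : Subgroup G)) (vv (S : Subgroup G)) r ρ ι) (D : Subgroup H)
    (hD : D.Normal) (hD2 : IsPGroup 2 D) : D = ⊥ := by
  have h1 := le_of_normal (isPGroup_im r) (index_im hr) hD hD2
  have h2 := gen_of hr _ (CS_anti h1) (fun g w hw => EmpFFAbs.CS_inv g hw)
  rw [eq_bot_iff]
  intro d hd
  rw [Subgroup.mem_bot]
  apply hr.inj
  rw [map_one]
  ext v
  have h3 : v ∈ CS ρ D := by rw [h2]; trivial
  exact h3 d hd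

/-! ### images -/

theorem im_mono {X A B : Subgroup G} {r : X →* H} (h : A ≤ B) : im X A r ≤ im X B r :=
  Subgroup.map_mono (Subgroup.comap_mono h)

theorem mem_normalizer_im {X B : Subgroup G} {r : X →* H} {g : X} (hg : (g : G) ∈ normalizer (B : Set G)) :
    r g ∈ normalizer (im X B r : Set H) := by
  have h1 : g ∈ normalizer (B.subgroupOf X : Set X) := by
    rw [mem_normalizer_iff] at hg ⊢
    intro n
    rw [mem_subgroupOf, mem_subgroupOf]
    exact hg n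
  exact Subgroup.le_normalizer_map r ⟨g, h1, rfl⟩

theorem im_le_normalizer {X A B : Subgroup G} {r : X →* H} (h : A ≤ normalizer (B : Set G)) :
    im X A r ≤ normalizer (im X B r : Set H) := by
  rintro _ ⟨g, hg, rfl⟩
  exact mem_normalizer_im (h (mem_subgroupOf.1 hg))

variable (hr : Rep (LL (S : Subgroup G)) (vv (S : Subgroup G)) r ρ ι)

include hr

theorem orderOf_ξ (c : Conf S T L O₁ O A ξ x) (hξ : ∃ v ∈ vv (S : Subgroup G), ξ * v ≠ v * ξ) :
    orderOf (r ⟨ξ, ξ_mem_LL c⟩) = 3 := by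
  refine orderOf_eq_prime ?_ ?_
  · rw [← map_pow]
    have h1 : (⟨ξ, ξ_mem_LL c⟩ : LL (S : Subgroup G)) ^ 3 = 1 := by
      apply Subtype.ext
      rw [Subgroup.coe_pow, Subgroup.coe_one, ← c.ξ3]
      exact pow_orderOf_eq_one ξ
    rw [h1, map_one]
  · intro h1
    rw [hr.r_eq_one] at h1
    obtain ⟨v, hv, hne⟩ := hξ
    exact hne (h1 v hv)

/-- elements of `T` inducing the same action as elements of `O₁` are in `O₁` -/
theorem key (c : Conf S T L O₁ O A ξ x) (hξ : ∃ v ∈ vv (S : Subgroup G), ξ * v ≠ v * ξ) {t : LL (S : Subgroup G)}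
    (ht : (t : G) ∈ T) (h : r t ∈ im (LL (S : Subgroup G)) O₁ r) : (t : G) ∈ O₁ := by
  by_contra hn
  obtain ⟨o, ho, hrt⟩ := of_mem_im h
  have ht' : (o : G)⁻¹ * t ∈ T := mul_mem (inv_mem (c.O₁_le ho)) ht
  have hn' : (o : G)⁻¹ * t ∉ O₁ := fun h1 => hn (by
    have := mul_mem ho h1
    rwa [mul_inv_cancel_left] at this)
  have h1 := c.inv₁ _ ht' hn'
  set ξ' : LL (S : Subgroup G) := ⟨ξ, ξ_mem_LL c⟩ with hξ'
  have h2 : r (o⁻¹ * t) = 1 := by rw [map_mul, map_inv, hrt, inv_mul_cancel]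
  have h3 : r ((o⁻¹ * t) * ξ' * (o⁻¹ * t)⁻¹ * ξ') ∈ im (LL (S : Subgroup G)) O₁ r :=
    ⟨_, mem_subgroupOf.2 h1, rfl⟩
  rw [map_mul, map_mul, map_mul, map_inv, h2, inv_one, one_mul, mul_one] at h3
  have ho3 := orderOf_ξ hr c hξ
  have hO2 : IsPGroup 2 (im (LL (S : Subgroup G)) O₁ r) :=
    (isPGroup_im r).to_le (im_mono (c.O₁_le.trans (T_le c)))
  obtain ⟨k, hk⟩ := hO2 ⟨_, h3⟩
  have h4 : (r ξ' * r ξ') ^ 2 ^ k = 1 := congrArg Subtype.val hk
  rw [← pow_two, ← pow_mul] at h4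
  have h5 := orderOf_dvd_of_pow_eq_one h4
  rw [ho3] at h5
  have h6 : (3 : ℕ) ∣ 2 ^ (k + 1) := by rw [pow_succ, mul_comm]; exact h5
  have h7 : (3 : ℕ) ∣ 2 := Nat.prime_three.dvd_of_dvd_pow h6
  omega

/-- `|T̄ : Ō₁| = 2` -/
theorem rel_of (c : Conf S T L O₁ O A ξ x) (hξ : ∃ v ∈ vv (S : Subgroup G), ξ * v ≠ v * ξ) :
    (im (LL (S : Subgroup G)) O₁ r).relIndex (im (LL (S : Subgroup G)) T r) = 2 := by
  obtain ⟨a, ha, hab⟩ := relIndex_eq_two_iff.1 c.O₁_rel
  rw [relIndex_eq_two_iff]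
  refine ⟨_, mem_im (T_le_LL c) ha, ?_⟩
  intro b hb
  obtain ⟨b, hb', rfl⟩ := of_mem_im hb
  have h1 : r b * r ⟨a, T_le_LL c ha⟩ ∈ im (LL (S : Subgroup G)) O₁ r ↔ (b : G) * a ∈ O₁ := by
    rw [← map_mul]
    constructor
    · exact fun h => key hr c hξ (t := b * ⟨a, T_le_LL c ha⟩) (mul_mem hb' ha) h
    · exact fun h => ⟨_, mem_subgroupOf.2 h, rfl⟩
  have h2 : r b ∈ im (LL (S : Subgroup G)) O₁ r ↔ (b : G) ∈ O₁ := by
    constructor
    · exact fun h => key hr c hξ hb' h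
    · exact fun h => ⟨_, mem_subgroupOf.2 h, rfl⟩
  rw [h1, h2]
  exact hab _ hb'

omit hr in
/-- `T` normalises `V ∩ V^x` -/
theorem T_le_F (c : Conf S T L O₁ O A ξ x) :
    T ≤ normalizer ((vv (S : Subgroup G) ⊓ FD.cj x (vv (S : Subgroup G)) : Subgroup G) : Set G) := by
  intro t ht
  by_cases htO : t ∈ O
  · exact (dt c).O_le_F htO
  · obtain ⟨a, ha, haO⟩ := SetLike.not_le_iff_exists.1 c.A_not
    have haT := jj_le_T c (A_le_jj c ha)
    have h1 : t * a⁻¹ ∈ O := by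
      have h2 : (O.subgroupOf T).index = 2 := c.O_rel
      have h3 := (Subgroup.mul_mem_iff_of_index_two h2 (a := ⟨t, ht⟩) (b := ⟨a⁻¹, inv_mem haT⟩)).2 (by
        rw [mem_subgroupOf, mem_subgroupOf]
        constructor
        · exact fun h => absurd h htO
        · intro h
          exact absurd (by simpa using inv_mem h : a ∈ O) haO)
      exact mem_subgroupOf.1 h3
    have h2 : t = (t * a⁻¹) * a := by group
    rw [h2]
    exact mul_mem ((dt c).O_le_F h1) ((dt c).A_le_F ha)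

/-- `C_{L₀}(V)` is the kernel -/
theorem ker_eq : r.ker = (centralizer (vv (S : Subgroup G) : Set G)).subgroupOf (LL (S : Subgroup G)) := by
  ext g
  rw [MonoidHom.mem_ker, hr.r_eq_one, mem_subgroupOf, mem_centralizer_iff]
  exact ⟨fun h v hv => (h v hv).symm, fun h v hv => (h v hv).symm⟩

/-- `|Ē| = |E : C_E(V)|` -/
theorem card_im {E : Subgroup G} (hE : E ≤ LL (S : Subgroup G)) : Nat.card (im (LL (S : Subgroup G)) E r) =
    (E ⊓ centralizer (vv (S : Subgroup G) : Set G)).relIndex E := by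
  rw [im, ← relIndex_ker, ker_eq hr, relIndex_subgroupOf hE, inf_comm, Subgroup.inf_relIndex_right]

/-- **the module frame** without `ck` -/
theorem mf0_of [Finite H] [Finite V] (c : Conf S T L O₁ O A ξ x) (hG : OddCyc G) (hz : SecZero G)
    (hL : LL (S : Subgroup G) ≠ ⊤) (hξ : ∃ v ∈ vv (S : Subgroup G), ξ * v ≠ v * ξ) :
    MFZero.MF0 ρ (im (LL (S : Subgroup G)) (S : Subgroup G) r) (im (LL (S : Subgroup G)) T r)
      (im (LL (S : Subgroup G)) O₁ r) (im (LL (S : Subgroup G)) (FD.cj x A ⊓ O) r) (r ⟨ξ, ξ_mem_LL c⟩)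
      ((vv (S : Subgroup G) ⊓ FD.cj x (vv (S : Subgroup G))).comap ι) where
  cyc := T1Structure.oddCyc_of_surjective
    (T1Structure.oddCyc_of_injective hG (LL (S : Subgroup G)).subtype (LL (S : Subgroup G)).subtype_injective)
    r hr.surj
  simple := FFSec.kzero_of_image hz hL r hr.surj
  core := core_of hr
  inj := hr.inj
  sq := sq_of hr
  two := isPGroup_im r
  index := index_im hr
  T_le := im_mono (T_le c)
  O_le := im_mono c.O₁_le
  T_norm := im_le_normalizer c.O₁_T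
  ξ_norm := mem_normalizer_im c.O₁_ξ
  ξ3 := orderOf_ξ hr c hξ
  rel := rel_of hr c hξ
  inv := by
    intro t ht htO
    obtain ⟨t, ht', rfl⟩ := of_mem_im ht
    have h1 : (t : G) ∉ O₁ := fun h => htO ⟨t, mem_subgroupOf.2 h, rfl⟩
    have h2 := c.inv₁ _ ht' h1
    refine ⟨t * ⟨ξ, ξ_mem_LL c⟩ * t⁻¹ * ⟨ξ, ξ_mem_LL c⟩, mem_subgroupOf.2 h2, ?_⟩
    rw [map_mul, map_mul, map_mul, map_inv]
  E_le := im_mono (inf_le_right.trans c.O_le)
  E_sq := by
    rintro _ ⟨e, he, rfl⟩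
    have h1 := (dt c).asq' x e (mem_subgroupOf.1 he).1
    rw [← map_mul]
    have h2 : e * e = 1 := Subtype.ext h1
    rw [h2, map_one]
  E_not := by
    intro h
    apply c.E_not
    intro e he
    have h1 := mem_im (r := r) ((inf_le_right.trans (O_le_LL c)) : FD.cj x A ⊓ O ≤ LL (S : Subgroup G)) he
    exact key hr c hξ (t := ⟨e, _⟩) (c.O_le he.2) (h h1)
  H₁_le := by
    rintro v hv _ ⟨e, he, rfl⟩
    rw [hr.fix]
    exact ((mem_centralizer_iff.1 ((dt c).E_le (mem_subgroupOf.1 he))) (ι v) hv).symm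
  H₁_T := by
    intro t ht v hv
    obtain ⟨t, ht', rfl⟩ := of_mem_im ht
    rw [mem_comap, hr.act]
    exact (mem_normalizer_iff.1 (T_le_F c ht') (ι v)).1 hv
  ind := by
    rw [index_comap, hr.range, card_im hr ((inf_le_right.trans (O_le_LL c)))]
    exact (dt c).index_le'
  three := by
    intro y hy F hF hyF v hv
    obtain ⟨g, rfl, hg⟩ := lift_three hr (not_three c hG hξ) hy
    have hD : F.map ι ≤ vv (S : Subgroup G) ⊓ FD.cj x (vv (S : Subgroup G)) := by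
      rintro _ ⟨w, hw, rfl⟩
      exact hF hw
    have hgD : (g : G) ∈ normalizer ((F.map ι : Subgroup G) : Set G) := by
      refine CompStandard.mem_normalizer_of_forall ?_
      rintro _ ⟨w, hw, rfl⟩
      exact ⟨ρ (r g) w, hyF w hw, hr.act g w⟩
    rw [hr.fix]
    refine (dt c).three hG ?_ hD hg hgD ⟨v, hv, rfl⟩
    intro h1
    have := c.x3
    rw [h1, orderOf_one] at this
    omega
  gen := gen_of hr

/-- **the module frame** -/
theorem mf_of [Finite H] [Finite V] (c : Conf S T L O₁ O A ξ x) (hG : OddCyc G) (hz : SecZero G)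
    (hL : LL (S : Subgroup G) ≠ ⊤) (hξ : ∃ v ∈ vv (S : Subgroup G), ξ * v ≠ v * ξ)
    (hck : ∀ K : Subgroup H, K.Normal → IsSimpleGroup K → r ⟨ξ, ξ_mem_LL c⟩ ∈ K → CS ρ K = ⊥) :
    Defs.MF ρ (im (LL (S : Subgroup G)) (S : Subgroup G) r) (im (LL (S : Subgroup G)) T r)
      (im (LL (S : Subgroup G)) O₁ r) (im (LL (S : Subgroup G)) (FD.cj x A ⊓ O) r) (r ⟨ξ, ξ_mem_LL c⟩)
      ((vv (S : Subgroup G) ⊓ FD.cj x (vv (S : Subgroup G))).comap ι) :=
  let h := mf0_of hr c hG hz hL hξ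
  { cyc := h.cyc, simple := h.simple, core := h.core, inj := h.inj, sq := h.sq, two := h.two, index := h.index,
    T_le := h.T_le, O_le := h.O_le, T_norm := h.T_norm, ξ_norm := h.ξ_norm, ξ3 := h.ξ3, rel := h.rel, inv := h.inv,
    E_le := h.E_le, E_sq := h.E_sq, E_not := h.E_not, H₁_le := h.H₁_le, H₁_T := h.H₁_T, ind := h.ind,
    three := h.three, gen := h.gen, ck := hck }

end Cfsg.Agent.OddCyclic.Bc.Inst
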