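import Cfsg.Agent.OddCyclic.Bc.NF
import Cfsg.Agent.OddCyclic.EmpFFList

/-!
# S0342, leaf [Bc], (1.2) of blueprints/S0342-Bc-helper108.md

`le_centralizer`: in the NFF setting `E` centralises the components isomorphic to Suzuki groups.
-/

set_option autoImplicit false
set_option linter.unusedSectionVars false

namespace Cfsg.Agent.OddCyclic.Bc.NFSz

open Subgroup Cfsg Cfsg.Agent.OddCyclic.T1Defs Cfsg.Agent.OddCyclic.T1Module Cfsg.Agent.OddCyclic.FFBasic
  Cfsg.Agent.OddCyclic.FFRed Cfsg.Agent.OddCyclic.CompBasic Cfsg.Agent.OddCyclic.FFSl2 Cfsg.Agent.OddCyclic.Bc.NF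
  Cfsg.Agent.OddCyclic.FFInner
open Cfsg.Agent.OddCyclic.PumpMain (KZero)

variable {H V : Type*} [Group H] [CommGroup V] {ρ : H →* MulAut V} {S O T E A K : Subgroup H} {x : H}

/-- Suzuki groups have no offenders -/
theorem card_lt {J W : Type*} [Group J] [Finite J] [CommGroup W] [Finite W] (h : Cfsg.Lie.IsoSuzuki J)
    (hW : ∀ v : W, v * v = 1) (σ : J →* MulAut W) (hσ : ∃ g v, σ g v ≠ v) {P : Subgroup J} (hP : P ≠ ⊥)
    (hP2 : ∀ a ∈ P, a * a = 1) : Nat.card P < (CS σ P).index := by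
  by_contra hcon
  push Not at hcon
  obtain ⟨A, hA, hA1⟩ := EmpFFList.exists_bo (ρ := σ) ⟨P, hP, hP2, by
    rw [← (CS σ P).card_mul_index, mul_comm]; exact Nat.mul_le_mul_right _ hcon⟩
  exact hA1 (FFSz.main h hW σ hσ hA)

/-- `A` induces inner automorphisms on `K` -/
structure Inn (K A : Subgroup H) : Prop where
  cen : ∀ z ∈ K, z ∈ centralizer (K : Set H) → z = 1
  sq : ∀ a ∈ A, a * a = 1
  dec : ∀ a ∈ A, ∃ g ∈ K, g⁻¹ * a ∈ centralizer (K : Set H)

namespace Inn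

variable (h : Inn K A)

include h

/-- the fixed points -/
theorem CS_eq {W : Subgroup V} (hst : ∀ k ∈ K, ∀ w ∈ W, ρ k w ∈ W) (hW : W ≤ CS ρ (cp K A)) :
    CS (res ρ K W hst) (pr K A) = (CS ρ A).subgroupOf W := by
  ext w
  rw [Subgroup.mem_subgroupOf]
  constructor
  · intro hw a ha
    obtain ⟨g, hg, hc⟩ := h.dec a ha
    have h1 : g * (g⁻¹ * a) = a := by group
    have h2 : g⁻¹ * a ∈ cp K A := ⟨hc, g, hg, by rw [h1]; exact ha⟩
    have h3 : (⟨g, hg⟩ : K) ∈ pr K A := ⟨g⁻¹ * a, hc, by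
      change g * (g⁻¹ * a) ∈ A
      rw [h1]; exact ha⟩
    have h4 : ρ g w = w := congrArg Subtype.val (hw _ h3)
    rw [← h1, map_mul, MulAut.mul_apply, hW w.2 _ h2, h4]
  · rintro hw g ⟨c, hc, h1⟩
    apply Subtype.ext
    change ρ g w = w
    have h2 : c ∈ cp K A := ⟨hc, g, g.2, h1⟩
    have h3 : ρ ((g : H) * c) w = w := hw _ h1
    rwa [map_mul, MulAut.mul_apply, hW w.2 _ h2] at h3

theorem rel_eq {W : Subgroup V} (hst : ∀ k ∈ K, ∀ w ∈ W, ρ k w ∈ W) (hW : W ≤ CS ρ (cp K A)) :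
    (CS ρ A).relIndex W = (CS (res ρ K W hst) (pr K A)).index := by
  rw [h.CS_eq hst hW]; rfl

theorem pr_sq : ∀ g ∈ pr K A, g * g = 1 := by
  rintro g ⟨c, hc, h1⟩
  exact Subtype.ext (sq_eq h.cen h.sq g.2 hc h1).1

theorem cp_sq : ∀ c ∈ cp K A, c * c = 1 := by
  rintro c ⟨hc, g, hg, h1⟩
  exact (sq_eq h.cen h.sq hg hc h1).2

theorem card_eq [Finite H] : Nat.card A = Nat.card (A ⊓ centralizer (K : Set H) : Subgroup H) *
    Nat.card (pr K A) := by
  classical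
  let f : A → K := fun a => ⟨(h.dec a a.2).choose, (h.dec a a.2).choose_spec.1⟩
  have hf : ∀ a : A, (f a : H)⁻¹ * a ∈ centralizer (K : Set H) := fun a => (h.dec a a.2).choose_spec.2
  have hfu : ∀ (a : A) (g : K) (c : H), c ∈ centralizer (K : Set H) → (a : H) = g * c → f a = g := by
    intro a g c hc h1
    apply Subtype.ext
    refine unique h.cen (f a).2 g.2 (hf a) hc ?_
    rw [← h1]; group
  let π : A →* K :=
    { toFun := f
      map_one' := hfu 1 1 1 (one_mem _) (by simp)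
      map_mul' := by
        intro a b
        refine hfu (a * b) (f a * f b) (((f a : H)⁻¹ * a) * ((f b : H)⁻¹ * b)) (mul_mem (hf a) (hf b)) ?_
        rw [Subgroup.coe_mul, Subgroup.coe_mul]
        have h1 := comm_of (hf a) (f b).2
        calc (a : H) * b = (f a : H) * (((f a : H)⁻¹ * a) * (f b : H)) * ((f b : H)⁻¹ * b) := by group
          _ = (f a : H) * ((f b : H) * ((f a : H)⁻¹ * a)) * ((f b : H)⁻¹ * b) := by rw [h1]
          _ = _ := by group }
  have hπ : ∀ a, π a = f a := fun _ => rfl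
  have hrange : π.range = pr K A := by
    ext g
    constructor
    · rintro ⟨a, rfl⟩
      refine ⟨(f a : H)⁻¹ * a, hf a, ?_⟩
      have : ((π a : K) : H) * ((f a : H)⁻¹ * a) = a := by rw [hπ]; group
      rw [this]
      exact a.2
    · rintro ⟨c, hc, h1⟩
      exact ⟨⟨_, h1⟩, hfu _ g c hc rfl⟩
  have hker : π.ker = (A ⊓ centralizer (K : Set H)).subgroupOf A := by
    ext a
    rw [MonoidHom.mem_ker, Subgroup.mem_subgroupOf, Subgroup.mem_inf, hπ]
    constructor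
    · intro h1
      have h2 := hf a
      rw [h1, Subgroup.coe_one, inv_one, one_mul] at h2
      exact ⟨a.2, h2⟩
    · rintro ⟨-, h1⟩
      exact hfu a 1 a h1 (by rw [Subgroup.coe_one, one_mul])
  have h1 := π.ker.card_mul_index
  rw [Subgroup.index_ker, hrange, hker] at h1
  rw [← h1]
  congr 1
  exact Nat.card_congr (Subgroup.subgroupOfEquivOfLe inf_le_left).toEquiv

end Inn

/-- `E` induces inner automorphisms on Suzuki components -/
theorem inn_of [Finite H] (hc : OddCyc H) (h2 : pCore 2 H = ⊥) {K : Subgroup H}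
    (hK : IsComponent K) (hs : Cfsg.Lie.IsoSuzuki K) (hA : ∀ a ∈ A, a * a = 1) : Inn K A := by
  have hn := FFStruct.component_normal hc hK
  refine ⟨FFStruct.inter_centralizer hc h2 hK, hA, ?_⟩
  intro a ha
  obtain ⟨F, iF, iF', m, hm, hF, ⟨R⟩⟩ := Cfsg.Agent.ThreePrime.SzRel.exists_rel hs
  obtain ⟨j, hj⟩ := R.inner hm hF (MulAut.conjNormal a) ⟨1, by
    rw [pow_one, pow_two, ← map_mul, hA a ha, map_one]⟩
  refine ⟨j, j.2, ?_⟩
  rw [mem_centralizer_iff]
  intro k hk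
  have h1 := congrArg (fun α : MulAut K => ((α ⟨k, hk⟩ : K) : H)) hj
  have h3 : a * k * a⁻¹ = j * k * (j : H)⁻¹ := by simpa [MulAut.conjNormal_apply] using h1
  have h4 : a * k = j * k * (j : H)⁻¹ * a := by rw [← h3]; group
  calc k * ((j : H)⁻¹ * a) = (j : H)⁻¹ * (j * k * (j : H)⁻¹ * a) := by group
    _ = (j : H)⁻¹ * (a * k) := by rw [h4]
    _ = _ := by group

/-- `[V, K]` -/
def vk (ρ : H →* MulAut V) (K : Subgroup H) : Subgroup V := closure {w | ∃ k ∈ K, ∃ v, w = ρ k v * v⁻¹}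

theorem mem_vk {k : H} (hk : k ∈ K) (v : V) : ρ k v * v⁻¹ ∈ vk ρ K := subset_closure ⟨k, hk, v, rfl⟩

theorem vk_inv [hK : K.Normal] (g : H) : ∀ w ∈ vk ρ K, ρ g w ∈ vk ρ K := by
  intro w hw
  have h2 : vk ρ K ≤ (vk ρ K).comap (ρ g : V ≃* V).toMonoidHom := by
    rw [vk, closure_le]
    rintro _ ⟨k, hk, v, rfl⟩
    change ρ g (ρ k v * v⁻¹) ∈ vk ρ K
    refine subset_closure ⟨g * k * g⁻¹, hK.conj_mem k hk g, ρ g v, ?_⟩
    rw [map_mul (ρ g), map_inv (ρ g), ← MulAut.mul_apply, ← MulAut.mul_apply, ← map_mul, ← map_mul,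
      inv_mul_cancel_right]
  exact h2 hw

theorem vk_le {W : Subgroup V} (h : ∀ k ∈ K, ∀ v, ρ k v * v⁻¹ ∈ W) : vk ρ K ≤ W := by
  rw [vk, closure_le]
  rintro _ ⟨k, hk, v, rfl⟩
  exact h k hk v

/-- the kernel on `V / W` -/
def km (ρ : H →* MulAut V) (W : Subgroup V) : Subgroup H where
  carrier := {g | ∀ v, ρ g v * v⁻¹ ∈ W}
  mul_mem' := by
    intro a b ha hb v
    have h1 : ρ (a * b) v * v⁻¹ = (ρ a (ρ b v) * (ρ b v)⁻¹) * (ρ b v * v⁻¹) := by
      rw [map_mul, MulAut.mul_apply]; group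
    rw [h1]
    exact mul_mem (ha _) (hb _)
  one_mem' := by
    intro v
    rw [map_one, MulAut.one_apply, mul_inv_cancel]
    exact one_mem _
  inv_mem' := by
    intro a ha v
    have h1 := inv_mem (ha (ρ a⁻¹ v))
    have h2 : ρ a (ρ a⁻¹ v) = v := by
      rw [← MulAut.mul_apply, ← map_mul, mul_inv_cancel, map_one]; rfl
    rw [h2, mul_inv_rev, inv_inv] at h1
    exact h1

theorem km_conj {W : Subgroup V} (hW : ∀ g, ∀ w ∈ W, ρ g w ∈ W) {a : H} (ha : a ∈ km ρ W) (g : H) :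
    g * a * g⁻¹ ∈ km ρ W := by
  intro v
  have h1 := hW g _ (ha (ρ g⁻¹ v))
  have h2 : ρ g (ρ g⁻¹ v) = v := by
    rw [← MulAut.mul_apply, ← map_mul, mul_inv_cancel, map_one]; rfl
  have h3 : ρ (g * a * g⁻¹) v * v⁻¹ = ρ g (ρ a (ρ g⁻¹ v) * (ρ g⁻¹ v)⁻¹) := by
    rw [map_mul (ρ g), map_inv (ρ g), h2, map_mul, map_mul, MulAut.mul_apply, MulAut.mul_apply]
  rw [h3]
  exact h1

theorem sup_eq_top [Finite V] {C W : Subgroup V} (h : C.index ≤ C.relIndex W) : W ⊔ C = ⊤ := by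
  have h3 : C.relIndex (W ⊔ C) * (W ⊔ C).index = C.index := Subgroup.relIndex_mul_index le_sup_right
  rw [Subgroup.relIndex_sup_right] at h3
  have h4 : 0 < C.relIndex W := Nat.pos_of_ne_zero (by
    rw [Subgroup.relIndex]; exact Subgroup.index_ne_zero_of_finite)
  rw [← Subgroup.index_eq_one]
  have h5 : (W ⊔ C).index ≠ 0 := Subgroup.index_ne_zero_of_finite
  have h6 : C.relIndex W * (W ⊔ C).index ≤ C.relIndex W * 1 := by
    rw [h3, mul_one]; exact h
  have h7 := Nat.le_of_mul_le_mul_left h6 h4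
  omega

theorem pow_two_le {P W : Type*} [Group P] [Finite P] [CommGroup W] [Finite W] (hP : ∀ a : P, a * a = 1)
    (hW : ∀ v : W, v * v = 1) {C : Subgroup W} (h : Nat.card P < C.index) : 2 * Nat.card P ≤ C.index := by
  have : Fact (Nat.Prime 2) := ⟨Nat.prime_two⟩
  obtain ⟨m, hm⟩ := index_pow hW C
  obtain ⟨n, hn⟩ := (IsPGroup.iff_card (p := 2)).1 (show IsPGroup 2 P from fun b => ⟨1, by
    rw [pow_one, pow_two]; exact hP b⟩)
  rw [hm, hn] at h ⊢
  have h3 : n < m := (Nat.pow_lt_pow_iff_right (by norm_num)).1 h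
  calc 2 * 2 ^ n = 2 ^ (n + 1) := by ring
    _ ≤ 2 ^ m := Nat.pow_le_pow_right (by norm_num) h3

/-- **(1.2)** -/
theorem le_centralizer0 [Finite H] [Finite V] (h : Nff0 ρ S O T E x) {K : Subgroup H} (hK : IsComponent K)
    (hs : Cfsg.Lie.IsoSuzuki K) : E ≤ centralizer (K : Set H) := by
  by_contra hnot
  have hn : K.Normal := FFStruct.component_normal h.cyc hK
  have hCn : (centralizer (K : Set H)).Normal := inferInstance
  have hin := inn_of h.cyc h.core hK hs h.E_sq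
  have hsimp := FFStruct.simple_component h.cyc h.core hK
  obtain ⟨p, hp, hp2, hpK⟩ := FFStruct.exists_odd_prime
    (Cfsg.Agent.SignalizersComponents.Components.quasisimple_not_isSolvable hK.2)
  have : Fact p.Prime := ⟨hp⟩
  obtain ⟨y, hy⟩ := exists_prime_orderOf_dvd_card' (G := K) p hpK
  have hy' : orderOf (y : H) = p := by rw [Subgroup.orderOf_coe]; exact hy
  have hodd : Odd (orderOf (y : H)) := by rw [hy']; exact hp.odd_of_ne_two hp2
  have hyne : ∃ v, ρ (y : H) v ≠ v := h.ne (by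
    intro h1
    rw [h1, orderOf_one] at hy'
    exact hp.one_lt.ne hy')
  set C := cp K E with hC
  have hC2 : IsPGroup 2 C := fun c => ⟨1, by
    rw [pow_one, pow_two]; exact Subtype.ext (hin.cp_sq c c.2)⟩
  have hCK : ∀ c ∈ C, ∀ k ∈ K, k * c = c * k := fun c hc k hk => comm_of hc.1 hk
  set W := CS ρ C with hW
  have hst : ∀ k ∈ K, ∀ w ∈ W, ρ k w ∈ W := by
    intro k hk w hw c hc
    have h1 : ρ (c * k) w = ρ (k * c) w := by rw [hCK c hc k hk]
    rw [map_mul, MulAut.mul_apply, map_mul, MulAut.mul_apply, hw c hc] at h1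
    exact h1
  have hPne : pr K E ≠ ⊥ := by
    intro h0
    apply hnot
    intro a ha
    obtain ⟨g, hg, hc⟩ := hin.dec a ha
    have h1 : (⟨g, hg⟩ : K) ∈ pr K E := ⟨g⁻¹ * a, hc, by
      change g * (g⁻¹ * a) ∈ E
      rw [mul_inv_cancel_left]; exact ha⟩
    rw [h0, Subgroup.mem_bot] at h1
    have h2 : g = 1 := congrArg Subtype.val h1
    rwa [h2, inv_one, one_mul] at hc
  -- the lower bound
  have low : ∀ W' : Subgroup V, W' ≤ W → (∀ k ∈ K, ∀ w ∈ W', ρ k w ∈ W') → (∃ w ∈ W', ρ (y : H) w ≠ w) →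
      2 * Nat.card (pr K E) ≤ (CS ρ E).relIndex W' := by
    intro W' hW' hst' hne'
    rw [hin.rel_eq hst' hW']
    have hW2 : ∀ v : W', v * v = 1 := fun v => Subtype.ext (h.sq v)
    have hP2 : ∀ a : pr K E, a * a = 1 := fun a => Subtype.ext (hin.pr_sq a a.2)
    refine pow_two_le hP2 hW2 ?_
    refine card_lt hs hW2 _ ?_ hPne hin.pr_sq
    obtain ⟨w, hw, hw'⟩ := hne'
    exact ⟨y, ⟨w, hw⟩, fun h1 => hw' (congrArg Subtype.val h1)⟩
  have hcard := hin.card_eq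
  set E₀ := E ⊓ centralizer (K : Set H) with hE₀
  have hE₀E : E₀ ≤ E := inf_le_left
  have hE₀C : E₀ ≤ C := fun a ha => ⟨ha.2, 1, one_mem _, by rw [one_mul]; exact ha.1⟩
  have hWW := low W le_rfl hst (by
    obtain ⟨v, hv, hv'⟩ := axb (ρ := ρ) h.sq hC2 hodd (fun c hc => (hCK c hc y y.2).symm) hyne
    exact ⟨v, hv, hv'⟩)
  have h0 : E₀ = ⊥ := by
    by_contra h0
    have h1 := h.nff2 h0 (fun a ha => h.E_sq a (hE₀E ha))
    have h2 : (CS ρ E).relIndex W ≤ (CS ρ E).relIndex (CS ρ E₀) :=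
      Subgroup.relIndex_le_of_le_right (CS_anti hE₀C) (by
        rw [Subgroup.relIndex]; exact Subgroup.index_ne_zero_of_finite)
    have h3 : (CS ρ E).relIndex (CS ρ E₀) * (CS ρ E₀).index = (CS ρ E).index :=
      Subgroup.relIndex_mul_index (CS_anti hE₀E)
    have h4 : (2 * Nat.card (pr K E)) * (2 * Nat.card E₀) ≤ 2 * (Nat.card E₀ * Nat.card (pr K E)) := by
      rw [← hcard, ← h.ind, ← h3]
      exact Nat.mul_le_mul (hWW.trans h2) h1
    have h5 : 0 < Nat.card E₀ * Nat.card (pr K E) := Nat.mul_pos Nat.card_pos Nat.card_pos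
    have h6 : (2 * Nat.card (pr K E)) * (2 * Nat.card E₀) = 4 * (Nat.card E₀ * Nat.card (pr K E)) := by ring
    omega
  rw [h0, Subgroup.card_bot, one_mul] at hcard
  have top : ∀ W' : Subgroup V, W' ≤ W → (∀ k ∈ K, ∀ w ∈ W', ρ k w ∈ W') → (∃ w ∈ W', ρ (y : H) w ≠ w) →
      W' ⊔ CS ρ E = ⊤ := by
    intro W' hW' hst' hne'
    apply sup_eq_top
    rw [h.ind, hcard]
    exact low W' hW' hst' hne'
  have hWtop := top W le_rfl hst (by
    obtain ⟨v, hv, hv'⟩ := axb (ρ := ρ) h.sq hC2 hodd (fun c hc => (hCK c hc y y.2).symm) hyne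
    exact ⟨v, hv, hv'⟩)
  -- `C` centralises `[V, K]`
  have hVK : ∀ c ∈ C, vk ρ K ≤ fx ρ c := by
    intro c hc
    obtain ⟨hcK, g, hg, hgc⟩ := id hc
    by_cases hg1 : g = 1
    · rw [hg1, one_mul] at hgc
      have h1 : c ∈ E₀ := ⟨hgc, hcK⟩
      rw [h0, Subgroup.mem_bot] at h1
      rw [h1, fx_one]
      exact le_top
    · have hcc := hin.cp_sq c hc
      have hinvV : ∀ v : V, v⁻¹ = v := inv_eq_self h.sq
      -- `c` commutes with `E`
      have hcE : ∀ b ∈ E, b * c = c * b := by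
        intro b hb
        obtain ⟨g', hg', hc'⟩ := hin.dec b hb
        have h1 : g'⁻¹ * b ∈ C := ⟨hc', g', hg', by rw [mul_inv_cancel_left]; exact hb⟩
        have h2 : (g'⁻¹ * b) * c = c * (g'⁻¹ * b) := comm_of_sq hin.cp_sq h1 hc
        have h3 := hCK c hc g' hg'
        calc b * c = g' * ((g'⁻¹ * b) * c) := by group
          _ = g' * (c * (g'⁻¹ * b)) := by rw [h2]
          _ = (g' * c) * (g'⁻¹ * b) := by group
          _ = (c * g') * (g'⁻¹ * b) := by rw [h3]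
          _ = c * b := by group
      have hU1 : ∀ u ∈ (cm ρ c).range, ρ (g * c) u = u := by
        rintro _ ⟨v, rfl⟩
        have hv : v ∈ W ⊔ CS ρ E := by rw [hWtop]; trivial
        obtain ⟨w, hw, u', hu', rfl⟩ := Subgroup.mem_sup.1 hv
        have h1 : cm ρ c (w * u') = ρ c u' * u'⁻¹ := by
          rw [cm_apply, map_mul, hw c hc]
          rw [mul_inv, mul_mul_mul_comm, mul_inv_cancel, one_mul]
        rw [h1]
        have h2 : ρ c u' ∈ CS ρ E := by
          intro b hb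
          rw [← MulAut.mul_apply, ← map_mul, hcE b hb, map_mul, MulAut.mul_apply, hu' b hb]
        exact mul_mem h2 (inv_mem hu') _ hgc
      have hU2 : ∀ u ∈ (cm ρ c).range, ρ c u = u := by
        rintro _ ⟨v, rfl⟩
        have h1 : ρ c (ρ c v) = v := by
          rw [← MulAut.mul_apply, ← map_mul, hcc, map_one]; rfl
        rw [cm_apply, map_mul, map_inv, h1, hinvV, hinvV, mul_comm]
      have hU3 : ∀ u ∈ (cm ρ c).range, ρ g u = u := by
        intro u hu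
        have h1 := hU1 u hu
        rwa [map_mul, MulAut.mul_apply, hU2 u hu] at h1
      have hU4 := Cfsg.Agent.OddCyclic.BTwoLin.SocleGen.fix_of_one (ρ := ρ) hsimp
        (W := (cm ρ c).range) (fun k hk w hw => apply_mem_range ρ (hCK c hc k hk) hw) hg hg1 hU3
      apply vk_le
      intro k hk v
      change ρ c (ρ k v * v⁻¹) = ρ k v * v⁻¹
      have h1 : ρ k (ρ c v * v⁻¹) = ρ c v * v⁻¹ := hU4 k hk _ ⟨v, rfl⟩
      have h2 : ρ k (ρ c v) = ρ c (ρ k v) := by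
        rw [← MulAut.mul_apply, ← map_mul, hCK c hc k hk, map_mul, MulAut.mul_apply]
      rw [map_mul, map_inv, h2, mul_inv_eq_iff_eq_mul] at h1
      rw [map_mul, map_inv, h1, mul_inv_eq_iff_eq_mul, mul_assoc, mul_assoc, mul_comm v⁻¹ (ρ k v),
        mul_left_comm, mul_comm (ρ c v) v⁻¹]
  have hV'W : vk ρ K ≤ W := fun v hv c hc => hVK c hc hv
  have hV'top := top (vk ρ K) hV'W (fun k _ w hw => vk_inv k w hw) (by
    obtain ⟨v, hv⟩ := hyne
    refine ⟨ρ (y : H) v * v⁻¹, mem_vk y.2 v, fun h1 => hv ?_⟩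
    have h2 := eq_one_of_fix h.sq hodd (w := ρ (y : H) v * v⁻¹) ⟨v, rfl⟩ h1
    rwa [mul_inv_eq_one] at h2)
  have hEkm : E ≤ km ρ (vk ρ K) := by
    intro e he v
    have hv : v ∈ vk ρ K ⊔ CS ρ E := by rw [hV'top]; trivial
    obtain ⟨w, hw, u, hu, rfl⟩ := Subgroup.mem_sup.1 hv
    have h1 : ρ e (w * u) * (w * u)⁻¹ = ρ e w * w⁻¹ := by
      rw [map_mul, hu e he, mul_inv, mul_mul_mul_comm, mul_inv_cancel, mul_one]
    rw [h1]
    exact mul_mem (vk_inv e w hw) (inv_mem hw)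
  -- the element of order 3
  obtain ⟨e, he, heO⟩ := h.exists_e
  obtain ⟨z, -, hz, hez⟩ := h.exists_inv he heO
  have hz3 : z * z * z = 1 := by
    have := pow_orderOf_eq_one z
    rwa [hz, pow_succ, pow_two] at this
  have hzi : z⁻¹ * z⁻¹ = z := by
    have h1 : z⁻¹ = z * z := inv_eq_of_mul_eq_one_left (by rw [hz3])
    calc z⁻¹ * z⁻¹ = z⁻¹ * (z * z) := by rw [← h1]
      _ = z := by group
  have hzc : z = e * (z * e⁻¹ * z⁻¹) := by
    calc z = z⁻¹ * z⁻¹ := hzi.symm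
      _ = (e * z * e⁻¹) * z⁻¹ := by rw [hez]
      _ = _ := by group
  obtain ⟨g, hg, c, hc, hgc⟩ : ∃ g ∈ K, ∃ c ∈ centralizer (K : Set H), e = g * c := by
    obtain ⟨g, hg, hc⟩ := hin.dec e he
    exact ⟨g, hg, g⁻¹ * e, hc, by group⟩
  have hcC : c ∈ C := ⟨hc, g, hg, by rw [← hgc]; exact he⟩
  have hzK : z ∈ centralizer (K : Set H) := by
    set c₁ := c * (z * c⁻¹ * z⁻¹) with hc₁
    set g₁ := z * g⁻¹ * z⁻¹ with hg₁
    have hc₁C : c₁ ∈ centralizer (K : Set H) := mul_mem hc (hCn.conj_mem _ (inv_mem hc) z)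
    have hg₁K : g₁ ∈ K := hn.conj_mem _ (inv_mem hg) z
    have h1 : z = (g * g₁) * c₁ := by
      have h2 : g₁ * c₁ = c₁ * g₁ := comm_of hc₁C hg₁K
      rw [mul_assoc, h2]
      nth_rewrite 1 [hzc]
      rw [hgc, hc₁, hg₁]; group
    set k₁ := g * g₁ with hk₁
    have hk₁K : k₁ ∈ K := mul_mem hg hg₁K
    have hcomm : Commute k₁ c₁ := comm_of hc₁C hk₁K
    have h2 : k₁ ^ 3 * c₁ ^ 3 = 1 := by
      rw [← hcomm.mul_pow, ← h1, ← hz]; exact pow_orderOf_eq_one z
    have h3 : k₁ ^ 3 = 1 := hin.cen _ (pow_mem hk₁K 3) (by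
      rw [eq_inv_of_mul_eq_one_left h2]; exact inv_mem (pow_mem hc₁C 3))
    have h4 : k₁ = 1 := by
      by_contra hne
      apply T1Socle.not_three_dvd hs
      have h5 : orderOf (⟨k₁, hk₁K⟩ : K) = 3 := by
        rw [Subgroup.orderOf_mk]
        exact orderOf_eq_prime h3 hne
      rw [← h5]
      exact orderOf_dvd_natCard _
    rw [h1, h4, one_mul]
    exact hc₁C
  have hcz : c * z * c⁻¹ = z⁻¹ := by
    have h1 : c * z * c⁻¹ ∈ centralizer (K : Set H) := mul_mem (mul_mem hc hzK) (inv_mem hc)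
    have h2 := comm_of h1 hg
    rw [← hez, hgc]
    have h3 : g * c * z * (g * c)⁻¹ = g * (c * z * c⁻¹) * g⁻¹ := by group
    rw [h3, h2]; group
  have hzc' : z = c * (z * c⁻¹ * z⁻¹) := by
    calc z = z⁻¹ * z⁻¹ := hzi.symm
      _ = (c * z * c⁻¹) * z⁻¹ := by rw [hcz]
      _ = _ := by group
  have hfix : ∀ v ∈ vk ρ K, ρ z v = v := by
    intro v hv
    have h1 : ρ c⁻¹ (ρ z⁻¹ v) = ρ z⁻¹ v := fx_inv ρ (hVK c hcC (vk_inv z⁻¹ v hv))
    have h2 : ρ z (ρ z⁻¹ v) = v := by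
      rw [← MulAut.mul_apply, ← map_mul, mul_inv_cancel, map_one]; rfl
    have h3 : ρ (c * (z * c⁻¹ * z⁻¹)) v = v := by
      rw [map_mul, map_mul, map_mul, MulAut.mul_apply, MulAut.mul_apply, MulAut.mul_apply, h1, h2]
      exact hVK c hcC hv
    rwa [← hzc'] at h3
  have hzkm : z ∈ km ρ (vk ρ K) := by
    rw [hzc]
    exact mul_mem (hEkm he) (km_conj (fun g w hw => vk_inv g w hw) (inv_mem (hEkm he)) z)
  obtain ⟨v, hv⟩ := h.ne (k := z) (by
    intro h1
    rw [h1, orderOf_one] at hz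
    omega)
  apply hv
  have h1 := eq_one_of_fix h.sq (y := z) (by rw [hz]; decide) (w := ρ z v * v⁻¹) ⟨v, rfl⟩ (hfix _ (hzkm v))
  rwa [mul_inv_eq_one] at h1

/-- (1.2) for `Nff` -/
theorem le_centralizer [Finite H] [Finite V] (h : Nff ρ S O T E x) {K : Subgroup H} (hK : IsComponent K)
    (hs : Cfsg.Lie.IsoSuzuki K) : E ≤ centralizer (K : Set H) :=
  le_centralizer0 h.toNff0 hK hs

end Cfsg.Agent.OddCyclic.Bc.NFSz
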