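import Cfsg.Agent.OddCyclic.Bc.NFFive
import Cfsg.Agent.OddCyclic.Bc.NFSz

/-!
# S0342, leaf [Bc], (1.3) and (1.4) of blueprints/S0342-Bc-helper108.md

`cases`: in the NFF setting one has `OutA ρ E x e` or `OutB E x K`.
-/

set_option autoImplicit false
set_option linter.unusedSectionVars false

namespace Cfsg.Agent.OddCyclic.Bc.NFCases

open Subgroup Cfsg Cfsg.Agent.OddCyclic.T1Defs Cfsg.Agent.OddCyclic.T1Module Cfsg.Agent.OddCyclic.FFBasic
  Cfsg.Agent.OddCyclic.FFRed Cfsg.Agent.OddCyclic.CompBasic Cfsg.Agent.OddCyclic.FFSl2 Cfsg.Agent.OddCyclic.Bc.NF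
  Cfsg.Agent.OddCyclic.FFStruct
open Cfsg.Agent.OddCyclic.PumpMain (KZero)
open Cfsg.Agent.SignalizersComponents.Components

variable {H : Type*} [Group H] [Finite H]

/-- subgroups of a cyclic normal subgroup are normal -/
theorem conj_mem_zpowers {F : Subgroup H} (hn : F.Normal) (hcyc : IsCyclic F) {u : H} (hu : u ∈ F) (g : H) :
    g * u * g⁻¹ ∈ zpowers u := by
  have h1 : g * u * g⁻¹ ∈ F := hn.conj_mem u hu g
  have h3 : orderOf (⟨g * u * g⁻¹, h1⟩ : F) = orderOf (⟨u, hu⟩ : F) := by
    rw [Subgroup.orderOf_mk, Subgroup.orderOf_mk]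
    exact (MulAut.conj g).orderOf_eq u
  have h4 := zpowers_eq_of_cyclic h3
  have h6 : (⟨g * u * g⁻¹, h1⟩ : F) ∈ zpowers (⟨u, hu⟩ : F) := by
    rw [← h4]; exact mem_zpowers _
  obtain ⟨k, hk⟩ := h6
  exact ⟨k, congrArg Subtype.val hk⟩

/-- elements act on a cyclic normal subgroup by powers -/
theorem exists_power {F : Subgroup H} (hn : F.Normal) (hcyc : IsCyclic F) (g : H) :
    ∃ k : ℤ, ∀ u ∈ F, g * u * g⁻¹ = u ^ k := by
  obtain ⟨k, hk⟩ := MonoidHom.map_cyclic (MulAut.conjNormal g : F ≃* F).toMonoidHom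
  refine ⟨k, fun u hu => ?_⟩
  have := congrArg Subtype.val (hk ⟨u, hu⟩)
  exact this

/-- commutators centralise a cyclic normal subgroup -/
theorem comm_comm {F : Subgroup H} (hn : F.Normal) (hcyc : IsCyclic F) (g e : H) {u : H} (hu : u ∈ F) :
    (g * e * g⁻¹ * e⁻¹) * u = u * (g * e * g⁻¹ * e⁻¹) := by
  obtain ⟨k, hk⟩ := exists_power hn hcyc g
  obtain ⟨l, hl⟩ := exists_power hn hcyc e
  -- `g e` and `e g` act in the same way
  have h1 : ∀ w ∈ F, (g * e) * w * (g * e)⁻¹ = (e * g) * w * (e * g)⁻¹ := by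
    intro w hw
    have e1 : (g * e) * w * (g * e)⁻¹ = g * (e * w * e⁻¹) * g⁻¹ := by group
    have e2 : (e * g) * w * (e * g)⁻¹ = e * (g * w * g⁻¹) * e⁻¹ := by group
    rw [e1, e2, hl w hw, hk w hw, hk _ (zpow_mem hw l), hl _ (zpow_mem hw k), ← zpow_mul, ← zpow_mul, mul_comm]
  have h2 : (e * g)⁻¹ * u * (e * g) ∈ F := by
    have := hn.conj_mem u hu (e * g)⁻¹
    rwa [inv_inv] at this
  have h3 := h1 _ h2
  have e3 : (e * g) * ((e * g)⁻¹ * u * (e * g)) * (e * g)⁻¹ = u := by group
  rw [e3] at h3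
  have e4 : (g * e) * ((e * g)⁻¹ * u * (e * g)) * (g * e)⁻¹ =
      (g * e * g⁻¹ * e⁻¹) * u * (g * e * g⁻¹ * e⁻¹)⁻¹ := by group
  rw [e4, mul_inv_eq_iff_eq_mul] at h3
  exact h3

/-- an element centralising `F*(H)` is in `F(H)` -/
theorem mem_fitting_of {a : H} (h1 : ∀ x ∈ fittingSubgroup H, a * x = x * a)
    (h3 : ∀ K : Subgroup H, IsComponent K → a ∈ centralizer (K : Set H)) : a ∈ fittingSubgroup H := by
  set C := centralizer (generalizedFittingSubgroup H : Set H) with hC
  have hFn : (generalizedFittingSubgroup H).Normal := Cfsg.Agent.Lib.GenFitting.genFitting_normal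
  have hCn : C.Normal := by rw [hC]; infer_instance
  have hle : C ≤ generalizedFittingSubgroup H := Cfsg.Agent.Lib.GenFitting.centralizer_genFitting_le
  have haC : a ∈ C := by
    rw [hC, mem_centralizer_iff]
    have h4 : generalizedFittingSubgroup H ≤ centralizer ({a} : Set H) := by
      rw [Cfsg.Agent.Lib.GenFitting.genFitting_def, sup_le_iff]
      constructor
      · rw [layer_le_iff]
        intro K hK k hk
        rw [mem_centralizer_singleton_iff]
        exact (mem_centralizer_iff.mp (h3 K hK)) k hk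
      · intro x hx
        rw [mem_centralizer_singleton_iff]
        exact (h1 x hx).symm
    intro x hx
    exact mem_centralizer_singleton_iff.mp (h4 hx)
  have hab : ∀ u ∈ C, ∀ v ∈ C, u * v = v * u := by
    intro u hu v hv
    exact ((mem_centralizer_iff.mp hv) u (hle hu))
  have hnil : Group.IsNilpotent C := by
    let _ : CommGroup C := { (inferInstance : Group C) with mul_comm := fun u v => Subtype.ext (hab u u.2 v v.2) }
    infer_instance
  exact Cfsg.Agent.Lib.Cores.le_fittingSubgroup hCn hnil haC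

variable {V : Type*} [CommGroup V] [Finite V] {ρ : H →* MulAut V} {S O T E : Subgroup H} {x : H}

theorem kzero0 (h : Nff0 ρ S O T E x) {K : Subgroup H} (hK : IsComponent K) : KZero K := by
  refine h.kz K (simple_component h.cyc h.core hK) ?_
  by_contra hcon
  push Not at hcon
  exact quasisimple_not_isMulCommutative hK.2 ⟨⟨hcon⟩⟩

/-- the subgroup of elements of `F(H)` inverted by `e` -/
def inverted (F : Subgroup H) (hab : ∀ u ∈ F, ∀ v ∈ F, u * v = v * u) (e : H) : Subgroup H where
  carrier := {u | u ∈ F ∧ e * u * e⁻¹ = u⁻¹}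
  mul_mem' := by
    rintro a b ⟨ha, ha'⟩ ⟨hb, hb'⟩
    refine ⟨mul_mem ha hb, ?_⟩
    have h1 : e * (a * b) * e⁻¹ = (e * a * e⁻¹) * (e * b * e⁻¹) := by group
    rw [h1, ha', hb', ← mul_inv_rev, hab a ha b hb]
  one_mem' := ⟨one_mem _, by group⟩
  inv_mem' := by
    rintro a ⟨ha, ha'⟩
    refine ⟨inv_mem ha, ?_⟩
    have h1 : e * a⁻¹ * e⁻¹ = (e * a * e⁻¹)⁻¹ := by group
    rw [h1, ha']

/-- (A) -/
theorem outA_of0 (h : Nff0 ρ S O T E x) {a : H} (ha : a ∈ E) {u : H} (hu : u ∈ fittingSubgroup H)
    (hau : a * u ≠ u * a) : OutA ρ E x a := by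
  obtain ⟨r, y, hr, hr2, hyF, hyo, hyn, hay, hay'⟩ := exists_inverted h.cyc h.core (h.E_sq a ha) hu hau
  have haa := h.E_sq a ha
  have hr3 : r = 3 := by
    by_contra hne
    have h5 : 5 ≤ r := by
      have h2 := hr.two_le
      by_contra hcon
      have : r = 4 := by omega
      subst this
      exact absurd hr (by norm_num)
    exact hay' (NFFive.five0 h hr h5 hyo hyn a ha)
  subst hr3
  have hcyc := isCyclic_fitting h.cyc h.core
  have hFn : (fittingSubgroup H).Normal := Cfsg.Agent.Lib.Cores.fittingSubgroup_normal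
  have hab : ∀ u ∈ fittingSubgroup H, ∀ v ∈ fittingSubgroup H, u * v = v * u := by
    intro u hu v hv
    have : IsMulCommutative (fittingSubgroup H) := IsCyclic.isMulCommutative
    exact congrArg Subtype.val (mul_comm' (⟨u, hu⟩ : fittingSubgroup H) ⟨v, hv⟩)
  have hxy : x ∈ zpowers y := mem_of_orderOf h.cyc Nat.prime_three (by norm_num) hyn (by
    rw [Nat.card_zpowers, hyo]) h.x3
  have hzz : zpowers x = zpowers y := by
    refine Subgroup.eq_of_le_of_card_ge (zpowers_le.2 hxy) ?_
    rw [Nat.card_zpowers, Nat.card_zpowers, hyo, h.x3]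
  have hxn : (zpowers x).Normal := by rw [hzz]; exact hyn
  have hxF : x ∈ fittingSubgroup H := (zpowers_le.2 hyF) hxy
  have hax : a * x * a⁻¹ = x⁻¹ := by
    obtain ⟨k, hk⟩ := hxy
    have hk' : y ^ k = x := hk
    rw [← hk', ← conj_zpow, hay, inv_zpow]
  have hax' : a * x ≠ x * a := by
    intro h1
    rw [h1, mul_inv_cancel_right] at hax
    have h2 : x * x = 1 := by
      nth_rewrite 1 [hax]; rw [inv_mul_cancel]
    have h3 : orderOf x ∣ 2 := orderOf_dvd_of_pow_eq_one (by rw [pow_two]; exact h2)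
    rw [h.x3] at h3
    norm_num at h3
  -- the components
  have hall : ∀ K : Subgroup H, IsComponent K → Cfsg.Lie.IsoSuzuki K := by
    intro K hK
    by_contra hn
    have h7 := three_dvd_of_kZero (kzero0 h hK) hn
    have h8 := mem_of_orderOf h.cyc Nat.prime_three (by norm_num) (component_normal h.cyc hK) h7 h.x3
    have h9 : x ∈ centralizer (K : Set H) := by
      rw [mem_centralizer_iff]
      intro k hk'
      have h10 := layer_le_centralizer_fitting (component_le_layer hK hk')
      exact ((mem_centralizer_iff.mp h10) x hxF).symm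
    exact h.x_ne (inter_centralizer h.cyc h.core hK x h8 h9)
  have hcK : ∀ K : Subgroup H, IsComponent K → E ≤ centralizer (K : Set H) :=
    fun K hK => NFSz.le_centralizer0 h hK (hall K hK)
  have hfaith : ∀ b ∈ E, b * x = x * b → b = 1 := by
    intro b hb hbx
    refine eq_one_of_centralizes h.core (h.E_sq b hb) ?_ (fun K hK => hcK K hK hb)
    intro w hw
    by_contra hbw
    obtain ⟨r', y', hr', hr2', hyF', hyo', hyn', -, hay''⟩ := exists_inverted h.cyc h.core (h.E_sq b hb) hw hbw
    have hr3' : r' = 3 := by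
      by_contra hne
      have h5 : 5 ≤ r' := by
        have h2 := hr'.two_le
        by_contra hcon
        have : r' = 4 := by omega
        subst this
        exact absurd hr' (by norm_num)
      exact hay'' (NFFive.five0 h hr' h5 hyo' hyn' b hb)
    subst hr3'
    have h9 : y' ∈ zpowers x := mem_of_orderOf h.cyc Nat.prime_three (by norm_num) hxn (by
      rw [Nat.card_zpowers, h.x3]) hyo'
    obtain ⟨k, hk'⟩ := h9
    apply hay''
    rw [← show x ^ k = y' from hk']
    exact (Commute.zpow_right (show Commute b x from hbx) k).eq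
  have ha1 : a ≠ 1 := by
    rintro rfl
    exact hax' (by rw [one_mul, mul_one])
  have hEa : ∀ b, b ∈ E ↔ b = 1 ∨ b = a := by
    intro b
    constructor
    · intro hb
      rcases eq_or_inv Nat.prime_three h.x3 (h.E_sq b hb) (hxn.conj_mem x (mem_zpowers x) b) with h1 | h1
      · left; exact hfaith b hb h1
      · right
        have h2 : (a * b) * x = x * (a * b) := by
          rw [← mul_inv_eq_iff_eq_mul]
          have h3 : (a * b) * x * (a * b)⁻¹ = a * (b * x * b⁻¹) * a⁻¹ := by group
          have h4 : a * x⁻¹ * a⁻¹ = (a * x * a⁻¹)⁻¹ := by group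
          rw [h3, h1, h4, hax, inv_inv]
        have h3 := hfaith _ (mul_mem ha hb) h2
        have h4 : b = a⁻¹ := eq_inv_of_mul_eq_one_right h3
        rw [h4]
        exact inv_eq_of_mul_eq_one_left haa
    · rintro (rfl | rfl)
      · exact one_mem _
      · exact ha
  have hcard : Nat.card E = 2 := by
    rw [Nat.card_eq_two_iff' (⟨1, one_mem _⟩ : E)]
    refine ⟨⟨a, ha⟩, fun h1 => ha1 (congrArg Subtype.val h1), ?_⟩
    rintro ⟨b, hb⟩ hb1
    rcases (hEa b).1 hb with h1 | h1
    · exact absurd (Subtype.ext h1) hb1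
    · exact Subtype.ext h1
  have hCS : CS ρ E = fx ρ a := by
    apply le_antisymm (CS_le_fx ha)
    intro v hv b hb
    rcases (hEa b).1 hb with rfl | rfl
    · rw [map_one]; rfl
    · exact hv
  have hind : (fx ρ a).index = 4 := by rw [← hCS, h.ind, hcard]
  have hidx : (fx ρ x).index = 4 ∨ (fx ρ x).index = 16 := by
    obtain ⟨d, hd, h5, h6⟩ := prim (ρ := ρ) h.sq Nat.prime_three (by norm_num) h.x3 (h.ne h.x_ne)
    obtain ⟨e, he⟩ := prim_even (ρ := ρ) h.sq (a := a) (y := x) haa (by rw [h.x3]; decide) hax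
    have h7 : d = 2 * e := by
      rw [h5, ← pow_mul] at he
      rw [Nat.pow_right_injective (le_refl 2) he, mul_comm]
    have h8 := half' ρ (a := a) (y := x) (by rw [h.x3]; decide) hax
    rw [hind, h5] at h8
    have h9 : d ≤ 4 := (Nat.pow_le_pow_iff_right (by norm_num : 1 < 2)).1 (by
      refine h8.trans (le_of_eq (by norm_num)))
    have h10 : d = 2 ∨ d = 4 := by omega
    rcases h10 with rfl | rfl
    · left; rw [h5]; norm_num
    · right; rw [h5]; norm_num
  -- the decomposition
  refine ⟨hxn, hEa, ha1, haa, hax, hind, hidx, inverted (fittingSubgroup H) hab a, ?_, ?_, ?_, ⟨hxF, hax⟩,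
    fun w hw => hw.2, ?_⟩
  · refine ⟨fun w hw g => ?_⟩
    have h1 := conj_mem_zpowers hFn hcyc hw.1 g
    exact (zpowers_le.2 hw) h1
  · have : Fact (Nat.Prime 3) := ⟨Nat.prime_three⟩
    rw [IsPGroup.iff_card]
    refine ⟨_, Nat.eq_prime_pow_of_unique_prime_dvd Nat.card_pos.ne' ?_⟩
    intro p hp hpd
    by_contra hp3
    have : Fact p.Prime := ⟨hp⟩
    obtain ⟨w, hw⟩ := exists_prime_orderOf_dvd_card' (G := inverted (fittingSubgroup H) hab a) p hpd
    have hw' : orderOf (w : H) = p := by rw [Subgroup.orderOf_coe]; exact hw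
    have hp2 : p ≠ 2 := by
      rintro rfl
      have h1 : orderOf (⟨w, w.2.1⟩ : fittingSubgroup H) = 2 := by rw [Subgroup.orderOf_mk]; exact hw'
      have h2 : 2 ∣ Nat.card (fittingSubgroup H) := by rw [← h1]; exact orderOf_dvd_natCard _
      exact (Nat.not_even_iff_odd.mpr (odd_card_fitting h.core)) (even_iff_two_dvd.mpr h2)
    have h5 : 5 ≤ p := by
      have h2 := hp.two_le
      by_contra hcon
      have : p = 4 := by omega
      subst this
      exact absurd hp (by norm_num)
    have hwn : (zpowers (w : H)).Normal := by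
      refine ⟨fun n hn g => ?_⟩
      obtain ⟨k, rfl⟩ := hn
      change g * (w : H) ^ k * g⁻¹ ∈ zpowers (w : H)
      rw [← conj_zpow]
      exact zpow_mem (conj_mem_zpowers hFn hcyc w.2.1 g) k
    have h6 := NFFive.five0 h hp h5 hw' hwn a ha
    have h7 := w.2.2
    rw [h6, mul_inv_cancel_right] at h7
    have h8 : (w : H) ^ 2 = 1 := by
      rw [pow_two]
      nth_rewrite 1 [h7]; rw [inv_mul_cancel]
    have h9 := orderOf_dvd_of_pow_eq_one h8
    rw [hw'] at h9
    have := Nat.le_of_dvd (by norm_num) h9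
    omega
  · exact isCyclic_of_injective (Subgroup.inclusion (show inverted (fittingSubgroup H) hab a ≤ fittingSubgroup H
      from fun w hw => hw.1)) (Subgroup.inclusion_injective _)
  · intro g
    have hai : a⁻¹ = a := inv_eq_of_mul_eq_one_left haa
    set w := g * a * g⁻¹ * a⁻¹ with hw
    have hwF : w ∈ fittingSubgroup H := by
      refine mem_fitting_of (fun v hv => comm_comm hFn hcyc g a hv) ?_
      intro K hK
      have hn := component_normal h.cyc hK
      have hCn : (centralizer (K : Set H)).Normal := inferInstance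
      exact mul_mem (hCn.conj_mem _ (hcK K hK ha) g) (inv_mem (hcK K hK ha))
    have hwi : a * w * a⁻¹ = w⁻¹ := by
      have h1 : a * w * a⁻¹ = a * g * a * g⁻¹ * (a * a)⁻¹ := by rw [hw]; group
      have h2 : w⁻¹ = a * g * a⁻¹ * g⁻¹ := by rw [hw]; group
      rw [h1, h2, haa, hai, inv_one, mul_one]
    have hodd : Odd (orderOf w) := by
      have h1 : orderOf w ∣ Nat.card (fittingSubgroup H) := by
        rw [← Subgroup.orderOf_mk _ hwF]
        exact orderOf_dvd_natCard _
      exact (odd_card_fitting h.core).of_dvd_nat h1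
    have hwR : w ∈ inverted (fittingSubgroup H) hab a := ⟨hwF, hwi⟩
    obtain ⟨m, hm⟩ := hodd
    have ho2 : w ^ (m + 1) * w ^ (m + 1) = w := by
      rw [← pow_add]
      have h1 : m + 1 + (m + 1) = orderOf w + 1 := by omega
      rw [h1, pow_succ, pow_orderOf_eq_one, one_mul]
    set o := w ^ (m + 1) with ho
    have hoR : o ∈ inverted (fittingSubgroup H) hab a := pow_mem hwR _
    refine ⟨o, hoR, o⁻¹ * g, ?_, by group⟩
    have h1 : a * o * a⁻¹ = o⁻¹ := hoR.2
    have h2 : a * o = o⁻¹ * a := by rw [← h1]; group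
    have h3 : g * a = w * a * g := by rw [hw]; group
    calc o⁻¹ * g * a = o⁻¹ * (g * a) := by group
      _ = o⁻¹ * (o * o) * a * g := by rw [h3, ho2]; group
      _ = o * a * g := by group
      _ = a * (o⁻¹ * g) := by
        have h4 : a * o⁻¹ = o * a := by
          calc a * o⁻¹ = (o⁻¹)⁻¹ * (o⁻¹ * a) * o⁻¹ := by group
            _ = (o⁻¹)⁻¹ * (a * o) * o⁻¹ := by rw [h2]
            _ = o * a := by group
        rw [← mul_assoc, h4]

/-- **(1.3)** -/
theorem cases0 (h : Nff0 ρ S O T E x) : (∃ e, OutA ρ E x e) ∨ ∃ K, OutB E x K := by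
  classical
  by_cases hF : ∃ a ∈ E, ∃ u ∈ fittingSubgroup H, a * u ≠ u * a
  · obtain ⟨a, ha, u, hu, hau⟩ := hF
    exact Or.inl ⟨a, outA_of0 h ha hu hau⟩
  · right
    push Not at hF
    obtain ⟨a₀, ha₀, ha₀O⟩ := h.exists_e
    have ha₀1 : a₀ ≠ 1 := fun h1 => ha₀O (by rw [h1]; exact one_mem _)
    obtain ⟨L, hL, haL⟩ : ∃ L : Subgroup H, IsComponent L ∧ a₀ ∉ centralizer (L : Set H) := by
      by_contra hcon
      push Not at hcon
      exact ha₀1 (eq_one_of_centralizes h.core (h.E_sq a₀ ha₀) (hF a₀ ha₀) hcon)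
    have hLs : ¬ Cfsg.Lie.IsoSuzuki L := fun h1 => haL (NFSz.le_centralizer0 h hL h1 ha₀)
    have h3L := three_dvd_of_kZero (kzero0 h hL) hLs
    -- the other components are centralised
    have hoth : ∀ K : Subgroup H, IsComponent K → K ≠ L → E ≤ centralizer (K : Set H) := by
      intro K hK hKL
      by_cases hs : Cfsg.Lie.IsoSuzuki K
      · exact NFSz.le_centralizer0 h hK hs
      · exact absurd (component_eq h.cyc h.core hK hL Nat.prime_three (by norm_num)
          (three_dvd_of_kZero (kzero0 h hK) hs) h3L) hKL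
    have hLo : ∀ K : Subgroup H, IsComponent K → K ≠ L → L ≤ centralizer (K : Set H) := by
      intro K hK hKL
      have h1 := component_commutator_eq_bot_of_ne hL hK hKL.symm
      rwa [Subgroup.commutator_eq_bot_iff_le_centralizer] at h1
    have hLF : ∀ g ∈ L, ∀ x ∈ fittingSubgroup H, g * x = x * g := by
      intro g hg x hx
      have h1 := layer_le_centralizer_fitting (component_le_layer hL hg)
      exact ((mem_centralizer_iff.mp h1) x hx).symm
    refine ⟨L, component_normal h.cyc hL, simple_component h.cyc h.core hL, kzero0 h hL, hLs,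
      mem_of_orderOf h.cyc Nat.prime_three (by norm_num) (component_normal h.cyc hL) h3L h.x3, ?_, ?_⟩
    · intro a ha hal
      refine eq_one_of_centralizes h.core (h.E_sq a ha) (hF a ha) ?_
      intro K hK
      by_cases hKL : K = L
      · subst hKL
        rw [mem_centralizer_iff]
        intro k hk'
        exact (hal k hk').symm
      · exact hoth K hK hKL ha
    · intro a ha g hg hag
      have hcL : g⁻¹ * a ∈ centralizer (L : Set H) := by
        rw [mem_centralizer_iff]
        intro k hk'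
        have h1 := hag k hk'
        have h3 : a * k = g * k * g⁻¹ * a := by rw [← h1]; group
        calc k * (g⁻¹ * a) = g⁻¹ * (g * k * g⁻¹ * a) := by group
          _ = g⁻¹ * (a * k) := by rw [h3]
          _ = _ := by group
      have h1 : g⁻¹ * a = 1 := by
        refine eq_one_of_centralizes h.core ?_ ?_ ?_
        · refine (FFInner.sq_eq (inter_centralizer h.cyc h.core hL) h.E_sq hg hcL ?_).2
          rw [mul_inv_cancel_left]; exact ha
        · intro x hx
          rw [mul_assoc, hF a ha x hx, ← mul_assoc, hLF g⁻¹ (inv_mem hg) x hx, mul_assoc]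
        · intro K hK
          by_cases hKL : K = L
          · subst hKL; exact hcL
          · exact mul_mem (hLo K hK hKL (inv_mem hg)) (hoth K hK hKL ha)
      rw [inv_mul_eq_one] at h1
      exact h1.symm

theorem kzero (h : Nff ρ S O T E x) {K : Subgroup H} (hK : IsComponent K) : KZero K := kzero0 h.toNff0 hK

/-- **(1.3)** for `Nff` -/
theorem cases (h : Nff ρ S O T E x) : (∃ e, OutA ρ E x e) ∨ ∃ K, OutB E x K := cases0 h.toNff0

end Cfsg.Agent.OddCyclic.Bc.NFCases
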