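import Cfsg.Agent.OddCyclic.Bc.XiNorm
import Cfsg.Agent.OddCyclic.Bc.Inst
import Cfsg.Agent.OddCyclic.Bc.NFCases

/-!
# S0342, leaf [Bc], type (b): the module frames without (CK)

In case A2 with `⟨ξ̄⟩ ⊴ H` the field `ck` of `Defs.MF` does not hold. `MF0`, `NF0`, `Nff0` are `MF`, `NF`, `Nff`
without it.

* `cases` : (1.3), (1.4) for `Nff0`;   `mf0_of` : the frame of `V = vv S`;
* `act`, `actA` : (b), (c) of `Bc/XiNorm.lean` for `MF0`;
* `MF0.mf` : `MF` if `⟨ξ⟩` is not normal and (CK) holds for nonabelian `K`.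

Most of the proofs are helper362's and helper217's.
-/

set_option autoImplicit false
set_option linter.unusedSectionVars false

namespace Cfsg.Agent.OddCyclic.Bc.AaZero

open Subgroup Cfsg
open Cfsg.Agent.OddCyclic.T1Defs Cfsg.Agent.OddCyclic.T1Module Cfsg.Agent.OddCyclic.FFBasic
  Cfsg.Agent.OddCyclic.FFRed Cfsg.Agent.OddCyclic.CompBasic Cfsg.Agent.OddCyclic.FFSl2
open Cfsg.Agent.OddCyclic.PumpMain (KZero)
open Cfsg.Agent.OddCyclic.Bc.NF (OutA OutB)

section nff

variable {H V : Type*} [Group H] [CommGroup V] {ρ : H →* MulAut V} {S O T E A : Subgroup H} {x : H}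
/-- the setting of the NFF theorem -/
structure Nff0 (ρ : H →* MulAut V) (S O T E : Subgroup H) (x : H) : Prop where
  cyc : OddCyc H
  kz : ∀ J : Subgroup H, IsSimpleGroup J → (∃ a b : J, a * b ≠ b * a) → KZero J
  core : pCore 2 H = ⊥
  sq : ∀ v : V, v * v = 1
  inj : Function.Injective ρ
  S_two : IsPGroup 2 S
  S_syl : ¬ 2 ∣ S.index
  gen : ∀ W : Subgroup V, CS ρ S ≤ W → (∀ h, ∀ w ∈ W, ρ h w ∈ W) → W = ⊤
  O_le : O ≤ T
  T_le : T ≤ S
  rel : O.relIndex T = 2
  x3 : orderOf x = 3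
  x_norm : x ∈ normalizer (O : Set H)
  inv : ∀ t ∈ T, t ∉ O → t * x * t⁻¹ * x ∈ O
  E_le : E ≤ T
  E_not : ¬ E ≤ O
  E_sq : ∀ a ∈ E, a * a = 1
  ind : (CS ρ E).index = 2 * Nat.card E
  nff : ∀ A : Subgroup H, A ≠ ⊥ → (∀ a ∈ A, a * a = 1) → Nat.card A < (CS ρ A).index
  three : ∀ y : H, orderOf y = 3 → ∀ F : Subgroup V, F ≤ CS ρ E → (∀ v ∈ F, ρ y v ∈ F) → ∀ v ∈ F, ρ y v = v

namespace Nff0

variable (h : Nff0 ρ S O T E x)

include h

theorem ne {k : H} (hk : k ≠ 1) : ∃ v, ρ k v ≠ v := by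
  by_contra hcon
  push Not at hcon
  apply hk
  apply h.inj
  rw [map_one]
  ext v
  exact hcon v

theorem T_two : IsPGroup 2 T := h.S_two.to_le h.T_le

theorem O_two : IsPGroup 2 O := h.T_two.to_le h.O_le

theorem x_ne : x ≠ 1 := by
  intro h1
  have := h.x3
  rw [h1, orderOf_one] at this
  omega

theorem comm {a b : H} (ha : a ∈ E) (hb : b ∈ E) : a * b = b * a := comm_of_sq h.E_sq ha hb

/-- `|V : C_V(A)| ≥ 2 |A|` -/
theorem nff2 [Finite V] {A : Subgroup H} (hA : A ≠ ⊥) (h2 : ∀ a ∈ A, a * a = 1) [Finite H] :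
    2 * Nat.card A ≤ (CS ρ A).index := by
  have h1 := h.nff A hA h2
  obtain ⟨m, hm⟩ := index_pow h.sq (CS ρ A)
  have hp : IsPGroup 2 A := fun b => ⟨1, by rw [pow_one, pow_two]; exact Subtype.ext (h2 b b.2)⟩
  have : Fact (Nat.Prime 2) := ⟨Nat.prime_two⟩
  obtain ⟨n, hn⟩ := (IsPGroup.iff_card (p := 2)).1 hp
  rw [hm, hn] at h1 ⊢
  have h3 : n < m := (Nat.pow_lt_pow_iff_right (by norm_num)).1 h1
  calc 2 * 2 ^ n = 2 ^ (n + 1) := by ring
    _ ≤ 2 ^ m := Nat.pow_le_pow_right (by norm_num) h3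

/-- (N2): elements of order 3 in `N_H(E)` centralise `C_V(E)` -/
theorem norm_three {y : H} (hy : orderOf y = 3) (hn : y ∈ normalizer (E : Set H)) {v : V} (hv : v ∈ CS ρ E) :
    ρ y v = v :=
  h.three y hy _ le_rfl (fun _ hw => CS_stable hn hw) v hv

/-- (N1): no element of order 3 centralises `E` -/
theorem no_three [Finite V] {y : H} (hy : orderOf y = 3) (hc : ∀ a ∈ E, a * y = y * a) : False := by
  have hy1 : y ≠ 1 := by
    rintro rfl
    rw [orderOf_one] at hy
    omega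
  have hp : IsPGroup 2 E := fun b => ⟨1, by rw [pow_one, pow_two]; exact Subtype.ext (h.E_sq b b.2)⟩
  obtain ⟨v, hv, hyv⟩ := axb (ρ := ρ) h.sq hp (by rw [hy]; decide) hc (h.ne hy1)
  apply hyv
  refine h.norm_three hy ?_ hv
  refine Subgroup.centralizer_le_normalizer _ ?_
  rw [Subgroup.mem_centralizer_iff]
  intro b hb
  exact hc b hb

theorem exists_e : ∃ e ∈ E, e ∉ O := by
  by_contra hcon
  push Not at hcon
  exact h.E_not hcon

theorem x_notMem : x ∉ O := by
  intro hx
  obtain ⟨k, hk⟩ := h.O_two ⟨x, hx⟩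
  have h1 : x ^ 2 ^ k = 1 := congrArg Subtype.val hk
  have h2 : orderOf x ∣ 2 ^ k := orderOf_dvd_of_pow_eq_one h1
  rw [h.x3] at h2
  have h3 : (3 : ℕ) ∣ 2 := Nat.prime_three.dvd_of_dvd_pow h2
  omega

/-- (inv): `e ∈ E - O` inverts an element of order 3 of `O⟨x⟩` -/
theorem exists_inv {e : H} (he : e ∈ E) (heO : e ∉ O) :
    ∃ y ∈ O ⊔ zpowers x, orderOf y = 3 ∧ e * y * e⁻¹ = y⁻¹ := by
  have hee := h.E_sq e he
  have he1 : e⁻¹ = e := inv_eq_of_mul_eq_one_left hee
  have ho := h.inv e (h.E_le he) heO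
  set o := e * x * e⁻¹ * x with hodef
  have hx3 : x * x * x = 1 := by
    have := pow_orderOf_eq_one x
    rwa [h.x3, pow_succ, pow_two] at this
  have hxi : x⁻¹ = x * x := inv_eq_of_mul_eq_one_left (by rw [hx3])
  set c := e * x * e⁻¹ * x⁻¹ with hc
  have hco : c = o * x := by
    rw [hc, hodef, hxi]; group
  have hcinv : e * c * e⁻¹ = c⁻¹ := by
    have h1 : e * c * e⁻¹ = (e * e) * x * e⁻¹ * x⁻¹ * e⁻¹ := by rw [hc]; group
    have h2 : c⁻¹ = x * e * x⁻¹ * e⁻¹ := by rw [hc]; group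
    rw [h1, h2, hee, he1, one_mul]
  have hxn := mem_normalizer_iff.1 h.x_norm
  have hc3 : c ^ 3 ∈ O := by
    have h1 : c ^ 3 = o * (x * o * x⁻¹) * (x * (x * o * x⁻¹) * x⁻¹) * (x * x * x) := by
      rw [hco, pow_succ, pow_two]; group
    rw [h1, hx3, mul_one]
    exact mul_mem (mul_mem ho ((hxn o).1 ho)) ((hxn _).1 ((hxn o).1 ho))
  have hcO : c ∉ O := by
    intro h1
    apply h.x_notMem
    have h2 := mul_mem (inv_mem ho) h1
    rwa [hco, inv_mul_cancel_left] at h2
  obtain ⟨k, hk⟩ := h.O_two ⟨c ^ 3, hc3⟩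
  have hk' : (c ^ 3) ^ 2 ^ k = 1 := congrArg Subtype.val hk
  refine ⟨c ^ 2 ^ k, ?_, ?_, ?_⟩
  · apply pow_mem
    rw [hco]
    exact mul_mem (le_sup_left (a := O) ho) (le_sup_right (a := O) (mem_zpowers x))
  · apply orderOf_eq_prime
    · rw [← pow_mul, mul_comm, pow_mul]
      exact hk'
    · intro h1
      apply hcO
      have h2 : orderOf c ∣ 2 ^ k := orderOf_dvd_of_pow_eq_one h1
      have h3 : (orderOf c).Coprime 3 := Nat.Coprime.coprime_dvd_left h2 (by
        apply Nat.Coprime.pow_left; norm_num)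
      obtain ⟨m, hm⟩ := exists_pow_eq_self_of_coprime h3.symm
      rw [← hm]
      exact pow_mem hc3 m
  · rw [← conj_pow, hcinv, inv_pow]

end Nff0

open Cfsg.Agent.OddCyclic.Bc.NFFive in
/-- **(1.1)** -/
theorem five [Finite H] [Finite V] (h : Nff0 ρ S O T E x) {y : H} {r : ℕ} (hr : r.Prime) (h5 : 5 ≤ r)
    (hy : orderOf y = r) (hyn : (zpowers y).Normal) : ∀ a ∈ E, a * y = y * a := by
  by_contra hcon
  push Not at hcon
  obtain ⟨a, ha, hay⟩ := hcon
  have hr2 : r ≠ 2 := by omega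
  have hy1 : y ≠ 1 := by
    rintro rfl
    rw [orderOf_one] at hy
    omega
  have hn : ∀ a ∈ E, a * y * a⁻¹ ∈ zpowers y := fun b _ => hyn.conj_mem y (mem_zpowers y) b
  obtain ⟨h1, h2⟩ := rel_four (ρ := ρ) h.sq h.E_sq hr h5 hy hn (h.ne hy1) ha hay
  set E₀ := E ⊓ centralizer {y} with hE₀
  have hle : E₀ ≤ E := inf_le_left
  have hcard := card_mul_relIndex hle
  rw [h1] at hcard
  have hidx : (CS ρ E).relIndex (CS ρ E₀) * (CS ρ E₀).index = (CS ρ E).index :=
    Subgroup.relIndex_mul_index (CS_anti hle)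
  by_cases h0 : E₀ = ⊥
  · -- `|E| = 2`
    rw [h0, Subgroup.card_bot] at hcard
    obtain ⟨e, he, heO⟩ := h.exists_e
    have he1 : e ≠ 1 := fun h' => heO (by rw [h']; exact one_mem _)
    have hEe : ∀ b ∈ E, b = 1 ∨ b = e := eq_or_of_card_two (by omega) he he1
    have hCS : CS ρ E = fx ρ e := by
      apply le_antisymm (CS_le_fx he)
      intro v hv b hb
      rcases hEe b hb with rfl | rfl
      · rw [map_one]; rfl
      · exact hv
    have hi : (fx ρ e).index = 4 := by
      rw [← hCS, h.ind, ← hcard]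
    have hae : a = e := by
      rcases hEe a ha with h' | h'
      · exfalso; apply hay; rw [h', one_mul, mul_one]
      · exact h'
    rw [hae] at hay
    have hee := h.E_sq e he
    have hinv : e * y * e⁻¹ = y⁻¹ := (eq_or_inv hr hy hee (hn e he)).resolve_left hay
    obtain ⟨d, hd, h3, h4⟩ := prim (ρ := ρ) h.sq hr hr2 hy (h.ne hy1)
    obtain ⟨k, hk⟩ := prim_even (ρ := ρ) h.sq hee (by rw [hy]; exact hr.odd_of_ne_two hr2) hinv
    have h6 : d = 2 * k := by
      rw [h3, ← pow_mul] at hk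
      rw [Nat.pow_right_injective (le_refl 2) hk, mul_comm]
    have h7 := half' ρ (a := e) (y := y) (by rw [hy]; exact hr.odd_of_ne_two hr2) hinv
    rw [hi, h3] at h7
    have h8 : d ≤ 4 := (Nat.pow_le_pow_iff_right (by norm_num : 1 < 2)).1 (by
      refine h7.trans (le_of_eq (by norm_num)))
    have hr5 : r = 5 := by
      have : k = 1 ∨ k = 2 := by omega
      rcases this with rfl | rfl
      · rw [h6] at h4
        have h9 : r ∣ 3 := h4
        have := Nat.le_of_dvd (by norm_num) h9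
        omega
      · rw [h6] at h4
        have h9 : r ∣ 3 * 5 := h4
        rcases (Nat.Prime.dvd_mul hr).1 h9 with h10 | h10
        · have := Nat.le_of_dvd (by norm_num) h10
          omega
        · exact (Nat.prime_dvd_prime_iff_eq hr Nat.prime_five).1 h10
    subst hr5
    obtain ⟨z, -, hz, hez⟩ := h.exists_inv he heO
    have hzy : z * y = y * z := comm_five hy hz (hyn.conj_mem y (mem_zpowers y) z)
    have hc : Commute z y := hzy
    have ho : orderOf (z * y) = 15 := by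
      rw [hc.orderOf_mul_eq_mul_orderOf_of_coprime (by rw [hy, hz]; norm_num), hy, hz]
    have hz1 : z ≠ 1 := by
      rintro rfl
      rw [orderOf_one] at hz
      omega
    have hz3 : z ^ 3 = 1 := by rw [← hz]; exact pow_orderOf_eq_one z
    have hy5 : y ^ 5 = 1 := by rw [← hy]; exact pow_orderOf_eq_one y
    refine FFPsl.kill15 h.sq ho (a := e) ?_ ?_ ?_ hi.le
    · have h9 : e * (z * y) * e⁻¹ = (e * z * e⁻¹) * (e * y * e⁻¹) := by group
      rw [h9, hez, hinv, ← mul_inv_rev, hzy]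
    · apply h.ne
      rw [hc.mul_pow, hz3, one_mul]
      intro h9
      have := orderOf_dvd_of_pow_eq_one h9
      rw [hy] at this
      norm_num at this
    · apply h.ne
      rw [hc.mul_pow, hy5, mul_one]
      intro h9
      have := orderOf_dvd_of_pow_eq_one h9
      rw [hz] at this
      norm_num at this
  · have h3 := h.nff2 h0 (fun b hb => h.E_sq b (hle hb))
    have h4 : 4 * (2 * Nat.card E₀) ≤ 2 * Nat.card E := by
      rw [← h.ind, ← hidx]
      exact Nat.mul_le_mul h2 h3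
    have h5 : 0 < Nat.card E₀ := Nat.card_pos
    omega


open Cfsg.Agent.OddCyclic.Bc.NFSz Cfsg.Agent.OddCyclic.FFInner in
/-- **(1.2)** -/
theorem le_centralizer [Finite H] [Finite V] (h : Nff0 ρ S O T E x) {K : Subgroup H} (hK : IsComponent K)
    (hs : Cfsg.Lie.IsoSuzuki K) : E ≤ centralizer (K : Set H) := by
  by_contra hnot
  have hn : K.Normal := FFStruct.component_normal h.cyc hK
  have hCn : (centralizer (K : Set H)).Normal := inferInstance
  have hin := inn_of h.cyc h.core hK hs h.E_sq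
  have hsimp := FFStruct.simple_component h.cyc h.core hK
  obtain ⟨p, hp, hp2, hpK⟩ := FFStruct.exists_odd_prime
    (Cfsg.Agent.SignalizersComponents.Components.quasisimple_not_isSolvable hK.2)
  have : Fact p.Prime := ⟨hp⟩
  obtain ⟨y, hy⟩ := exists_prime_orderOf_dvd_card' (G := K) p hpK
  have hy' : orderOf (y : H) = p := by rw [Subgroup.orderOf_coe]; exact hy
  have hodd : Odd (orderOf (y : H)) := by rw [hy']; exact hp.odd_of_ne_two hp2
  have hyne : ∃ v, ρ (y : H) v ≠ v := h.ne (by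
    intro h1
    rw [h1, orderOf_one] at hy'
    exact hp.one_lt.ne hy')
  set C := cp K E with hC
  have hC2 : IsPGroup 2 C := fun c => ⟨1, by
    rw [pow_one, pow_two]; exact Subtype.ext (hin.cp_sq c c.2)⟩
  have hCK : ∀ c ∈ C, ∀ k ∈ K, k * c = c * k := fun c hc k hk => comm_of hc.1 hk
  set W := CS ρ C with hW
  have hst : ∀ k ∈ K, ∀ w ∈ W, ρ k w ∈ W := by
    intro k hk w hw c hc
    have h1 : ρ (c * k) w = ρ (k * c) w := by rw [hCK c hc k hk]
    rw [map_mul, MulAut.mul_apply, map_mul, MulAut.mul_apply, hw c hc] at h1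
    exact h1
  have hPne : pr K E ≠ ⊥ := by
    intro h0
    apply hnot
    intro a ha
    obtain ⟨g, hg, hc⟩ := hin.dec a ha
    have h1 : (⟨g, hg⟩ : K) ∈ pr K E := ⟨g⁻¹ * a, hc, by
      change g * (g⁻¹ * a) ∈ E
      rw [mul_inv_cancel_left]; exact ha⟩
    rw [h0, Subgroup.mem_bot] at h1
    have h2 : g = 1 := congrArg Subtype.val h1
    rwa [h2, inv_one, one_mul] at hc
  -- the lower bound
  have low : ∀ W' : Subgroup V, W' ≤ W → (∀ k ∈ K, ∀ w ∈ W', ρ k w ∈ W') → (∃ w ∈ W', ρ (y : H) w ≠ w) →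
      2 * Nat.card (pr K E) ≤ (CS ρ E).relIndex W' := by
    intro W' hW' hst' hne'
    rw [hin.rel_eq hst' hW']
    have hW2 : ∀ v : W', v * v = 1 := fun v => Subtype.ext (h.sq v)
    have hP2 : ∀ a : pr K E, a * a = 1 := fun a => Subtype.ext (hin.pr_sq a a.2)
    refine pow_two_le hP2 hW2 ?_
    refine card_lt hs hW2 _ ?_ hPne hin.pr_sq
    obtain ⟨w, hw, hw'⟩ := hne'
    exact ⟨y, ⟨w, hw⟩, fun h1 => hw' (congrArg Subtype.val h1)⟩
  have hcard := hin.card_eq
  set E₀ := E ⊓ centralizer (K : Set H) with hE₀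
  have hE₀E : E₀ ≤ E := inf_le_left
  have hE₀C : E₀ ≤ C := fun a ha => ⟨ha.2, 1, one_mem _, by rw [one_mul]; exact ha.1⟩
  have hWW := low W le_rfl hst (by
    obtain ⟨v, hv, hv'⟩ := axb (ρ := ρ) h.sq hC2 hodd (fun c hc => (hCK c hc y y.2).symm) hyne
    exact ⟨v, hv, hv'⟩)
  have h0 : E₀ = ⊥ := by
    by_contra h0
    have h1 := h.nff2 h0 (fun a ha => h.E_sq a (hE₀E ha))
    have h2 : (CS ρ E).relIndex W ≤ (CS ρ E).relIndex (CS ρ E₀) :=
      Subgroup.relIndex_le_of_le_right (CS_anti hE₀C) (by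
        rw [Subgroup.relIndex]; exact Subgroup.index_ne_zero_of_finite)
    have h3 : (CS ρ E).relIndex (CS ρ E₀) * (CS ρ E₀).index = (CS ρ E).index :=
      Subgroup.relIndex_mul_index (CS_anti hE₀E)
    have h4 : (2 * Nat.card (pr K E)) * (2 * Nat.card E₀) ≤ 2 * (Nat.card E₀ * Nat.card (pr K E)) := by
      rw [← hcard, ← h.ind, ← h3]
      exact Nat.mul_le_mul (hWW.trans h2) h1
    have h5 : 0 < Nat.card E₀ * Nat.card (pr K E) := Nat.mul_pos Nat.card_pos Nat.card_pos
    have h6 : (2 * Nat.card (pr K E)) * (2 * Nat.card E₀) = 4 * (Nat.card E₀ * Nat.card (pr K E)) := by ring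
    omega
  rw [h0, Subgroup.card_bot, one_mul] at hcard
  have top : ∀ W' : Subgroup V, W' ≤ W → (∀ k ∈ K, ∀ w ∈ W', ρ k w ∈ W') → (∃ w ∈ W', ρ (y : H) w ≠ w) →
      W' ⊔ CS ρ E = ⊤ := by
    intro W' hW' hst' hne'
    apply sup_eq_top
    rw [h.ind, hcard]
    exact low W' hW' hst' hne'
  have hWtop := top W le_rfl hst (by
    obtain ⟨v, hv, hv'⟩ := axb (ρ := ρ) h.sq hC2 hodd (fun c hc => (hCK c hc y y.2).symm) hyne
    exact ⟨v, hv, hv'⟩)
  -- `C` centralises `[V, K]`
  have hVK : ∀ c ∈ C, vk ρ K ≤ fx ρ c := by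
    intro c hc
    obtain ⟨hcK, g, hg, hgc⟩ := id hc
    by_cases hg1 : g = 1
    · rw [hg1, one_mul] at hgc
      have h1 : c ∈ E₀ := ⟨hgc, hcK⟩
      rw [h0, Subgroup.mem_bot] at h1
      rw [h1, fx_one]
      exact le_top
    · have hcc := hin.cp_sq c hc
      have hinvV : ∀ v : V, v⁻¹ = v := inv_eq_self h.sq
      -- `c` commutes with `E`
      have hcE : ∀ b ∈ E, b * c = c * b := by
        intro b hb
        obtain ⟨g', hg', hc'⟩ := hin.dec b hb
        have h1 : g'⁻¹ * b ∈ C := ⟨hc', g', hg', by rw [mul_inv_cancel_left]; exact hb⟩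
        have h2 : (g'⁻¹ * b) * c = c * (g'⁻¹ * b) := comm_of_sq hin.cp_sq h1 hc
        have h3 := hCK c hc g' hg'
        calc b * c = g' * ((g'⁻¹ * b) * c) := by group
          _ = g' * (c * (g'⁻¹ * b)) := by rw [h2]
          _ = (g' * c) * (g'⁻¹ * b) := by group
          _ = (c * g') * (g'⁻¹ * b) := by rw [h3]
          _ = c * b := by group
      have hU1 : ∀ u ∈ (cm ρ c).range, ρ (g * c) u = u := by
        rintro _ ⟨v, rfl⟩
        have hv : v ∈ W ⊔ CS ρ E := by rw [hWtop]; trivial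
        obtain ⟨w, hw, u', hu', rfl⟩ := Subgroup.mem_sup.1 hv
        have h1 : cm ρ c (w * u') = ρ c u' * u'⁻¹ := by
          rw [cm_apply, map_mul, hw c hc]
          rw [mul_inv, mul_mul_mul_comm, mul_inv_cancel, one_mul]
        rw [h1]
        have h2 : ρ c u' ∈ CS ρ E := by
          intro b hb
          rw [← MulAut.mul_apply, ← map_mul, hcE b hb, map_mul, MulAut.mul_apply, hu' b hb]
        exact mul_mem h2 (inv_mem hu') _ hgc
      have hU2 : ∀ u ∈ (cm ρ c).range, ρ c u = u := by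
        rintro _ ⟨v, rfl⟩
        have h1 : ρ c (ρ c v) = v := by
          rw [← MulAut.mul_apply, ← map_mul, hcc, map_one]; rfl
        rw [cm_apply, map_mul, map_inv, h1, hinvV, hinvV, mul_comm]
      have hU3 : ∀ u ∈ (cm ρ c).range, ρ g u = u := by
        intro u hu
        have h1 := hU1 u hu
        rwa [map_mul, MulAut.mul_apply, hU2 u hu] at h1
      have hU4 := Cfsg.Agent.OddCyclic.BTwoLin.SocleGen.fix_of_one (ρ := ρ) hsimp
        (W := (cm ρ c).range) (fun k hk w hw => apply_mem_range ρ (hCK c hc k hk) hw) hg hg1 hU3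
      apply vk_le
      intro k hk v
      change ρ c (ρ k v * v⁻¹) = ρ k v * v⁻¹
      have h1 : ρ k (ρ c v * v⁻¹) = ρ c v * v⁻¹ := hU4 k hk _ ⟨v, rfl⟩
      have h2 : ρ k (ρ c v) = ρ c (ρ k v) := by
        rw [← MulAut.mul_apply, ← map_mul, hCK c hc k hk, map_mul, MulAut.mul_apply]
      rw [map_mul, map_inv, h2, mul_inv_eq_iff_eq_mul] at h1
      rw [map_mul, map_inv, h1, mul_inv_eq_iff_eq_mul, mul_assoc, mul_assoc, mul_comm v⁻¹ (ρ k v),
        mul_left_comm, mul_comm (ρ c v) v⁻¹]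
  have hV'W : vk ρ K ≤ W := fun v hv c hc => hVK c hc hv
  have hV'top := top (vk ρ K) hV'W (fun k _ w hw => vk_inv k w hw) (by
    obtain ⟨v, hv⟩ := hyne
    refine ⟨ρ (y : H) v * v⁻¹, mem_vk y.2 v, fun h1 => hv ?_⟩
    have h2 := eq_one_of_fix h.sq hodd (w := ρ (y : H) v * v⁻¹) ⟨v, rfl⟩ h1
    rwa [mul_inv_eq_one] at h2)
  have hEkm : E ≤ km ρ (vk ρ K) := by
    intro e he v
    have hv : v ∈ vk ρ K ⊔ CS ρ E := by rw [hV'top]; trivial
    obtain ⟨w, hw, u, hu, rfl⟩ := Subgroup.mem_sup.1 hv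
    have h1 : ρ e (w * u) * (w * u)⁻¹ = ρ e w * w⁻¹ := by
      rw [map_mul, hu e he, mul_inv, mul_mul_mul_comm, mul_inv_cancel, mul_one]
    rw [h1]
    exact mul_mem (vk_inv e w hw) (inv_mem hw)
  -- the element of order 3
  obtain ⟨e, he, heO⟩ := h.exists_e
  obtain ⟨z, -, hz, hez⟩ := h.exists_inv he heO
  have hz3 : z * z * z = 1 := by
    have := pow_orderOf_eq_one z
    rwa [hz, pow_succ, pow_two] at this
  have hzi : z⁻¹ * z⁻¹ = z := by
    have h1 : z⁻¹ = z * z := inv_eq_of_mul_eq_one_left (by rw [hz3])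
    calc z⁻¹ * z⁻¹ = z⁻¹ * (z * z) := by rw [← h1]
      _ = z := by group
  have hzc : z = e * (z * e⁻¹ * z⁻¹) := by
    calc z = z⁻¹ * z⁻¹ := hzi.symm
      _ = (e * z * e⁻¹) * z⁻¹ := by rw [hez]
      _ = _ := by group
  obtain ⟨g, hg, c, hc, hgc⟩ : ∃ g ∈ K, ∃ c ∈ centralizer (K : Set H), e = g * c := by
    obtain ⟨g, hg, hc⟩ := hin.dec e he
    exact ⟨g, hg, g⁻¹ * e, hc, by group⟩
  have hcC : c ∈ C := ⟨hc, g, hg, by rw [← hgc]; exact he⟩
  have hzK : z ∈ centralizer (K : Set H) := by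
    set c₁ := c * (z * c⁻¹ * z⁻¹) with hc₁
    set g₁ := z * g⁻¹ * z⁻¹ with hg₁
    have hc₁C : c₁ ∈ centralizer (K : Set H) := mul_mem hc (hCn.conj_mem _ (inv_mem hc) z)
    have hg₁K : g₁ ∈ K := hn.conj_mem _ (inv_mem hg) z
    have h1 : z = (g * g₁) * c₁ := by
      have h2 : g₁ * c₁ = c₁ * g₁ := comm_of hc₁C hg₁K
      rw [mul_assoc, h2]
      nth_rewrite 1 [hzc]
      rw [hgc, hc₁, hg₁]; group
    set k₁ := g * g₁ with hk₁
    have hk₁K : k₁ ∈ K := mul_mem hg hg₁K
    have hcomm : Commute k₁ c₁ := comm_of hc₁C hk₁K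
    have h2 : k₁ ^ 3 * c₁ ^ 3 = 1 := by
      rw [← hcomm.mul_pow, ← h1, ← hz]; exact pow_orderOf_eq_one z
    have h3 : k₁ ^ 3 = 1 := hin.cen _ (pow_mem hk₁K 3) (by
      rw [eq_inv_of_mul_eq_one_left h2]; exact inv_mem (pow_mem hc₁C 3))
    have h4 : k₁ = 1 := by
      by_contra hne
      apply T1Socle.not_three_dvd hs
      have h5 : orderOf (⟨k₁, hk₁K⟩ : K) = 3 := by
        rw [Subgroup.orderOf_mk]
        exact orderOf_eq_prime h3 hne
      rw [← h5]
      exact orderOf_dvd_natCard _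
    rw [h1, h4, one_mul]
    exact hc₁C
  have hcz : c * z * c⁻¹ = z⁻¹ := by
    have h1 : c * z * c⁻¹ ∈ centralizer (K : Set H) := mul_mem (mul_mem hc hzK) (inv_mem hc)
    have h2 := comm_of h1 hg
    rw [← hez, hgc]
    have h3 : g * c * z * (g * c)⁻¹ = g * (c * z * c⁻¹) * g⁻¹ := by group
    rw [h3, h2]; group
  have hzc' : z = c * (z * c⁻¹ * z⁻¹) := by
    calc z = z⁻¹ * z⁻¹ := hzi.symm
      _ = (c * z * c⁻¹) * z⁻¹ := by rw [hcz]
      _ = _ := by group
  have hfix : ∀ v ∈ vk ρ K, ρ z v = v := by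
    intro v hv
    have h1 : ρ c⁻¹ (ρ z⁻¹ v) = ρ z⁻¹ v := fx_inv ρ (hVK c hcC (vk_inv z⁻¹ v hv))
    have h2 : ρ z (ρ z⁻¹ v) = v := by
      rw [← MulAut.mul_apply, ← map_mul, mul_inv_cancel, map_one]; rfl
    have h3 : ρ (c * (z * c⁻¹ * z⁻¹)) v = v := by
      rw [map_mul, map_mul, map_mul, MulAut.mul_apply, MulAut.mul_apply, MulAut.mul_apply, h1, h2]
      exact hVK c hcC hv
    rwa [← hzc'] at h3
  have hzkm : z ∈ km ρ (vk ρ K) := by
    rw [hzc]
    exact mul_mem (hEkm he) (km_conj (fun g w hw => vk_inv g w hw) (inv_mem (hEkm he)) z)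
  obtain ⟨v, hv⟩ := h.ne (k := z) (by
    intro h1
    rw [h1, orderOf_one] at hz
    omega)
  apply hv
  have h1 := eq_one_of_fix h.sq (y := z) (by rw [hz]; decide) (w := ρ z v * v⁻¹) ⟨v, rfl⟩ (hfix _ (hzkm v))
  rwa [mul_inv_eq_one] at h1

end nff

section cases

open Cfsg.Agent.OddCyclic.FFStruct
open Cfsg.Agent.SignalizersComponents.Components
open Cfsg.Agent.OddCyclic.Bc.NFCases (conj_mem_zpowers exists_power comm_comm mem_fitting_of inverted)

variable {H : Type*} [Group H] [Finite H]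
variable {V : Type*} [CommGroup V] [Finite V] {ρ : H →* MulAut V} {S O T E : Subgroup H} {x : H}

theorem kzero (h : Nff0 ρ S O T E x) {K : Subgroup H} (hK : IsComponent K) : KZero K := by
  refine h.kz K (simple_component h.cyc h.core hK) ?_
  by_contra hcon
  push Not at hcon
  exact quasisimple_not_isMulCommutative hK.2 ⟨⟨hcon⟩⟩

/-- (A) -/
theorem outA_of (h : Nff0 ρ S O T E x) {a : H} (ha : a ∈ E) {u : H} (hu : u ∈ fittingSubgroup H)
    (hau : a * u ≠ u * a) : OutA ρ E x a := by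
  obtain ⟨r, y, hr, hr2, hyF, hyo, hyn, hay, hay'⟩ := exists_inverted h.cyc h.core (h.E_sq a ha) hu hau
  have haa := h.E_sq a ha
  have hr3 : r = 3 := by
    by_contra hne
    have h5 : 5 ≤ r := by
      have h2 := hr.two_le
      by_contra hcon
      have : r = 4 := by omega
      subst this
      exact absurd hr (by norm_num)
    exact hay' (five h hr h5 hyo hyn a ha)
  subst hr3
  have hcyc := isCyclic_fitting h.cyc h.core
  have hFn : (fittingSubgroup H).Normal := Cfsg.Agent.Lib.Cores.fittingSubgroup_normal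
  have hab : ∀ u ∈ fittingSubgroup H, ∀ v ∈ fittingSubgroup H, u * v = v * u := by
    intro u hu v hv
    have : IsMulCommutative (fittingSubgroup H) := IsCyclic.isMulCommutative
    exact congrArg Subtype.val (mul_comm' (⟨u, hu⟩ : fittingSubgroup H) ⟨v, hv⟩)
  have hxy : x ∈ zpowers y := mem_of_orderOf h.cyc Nat.prime_three (by norm_num) hyn (by
    rw [Nat.card_zpowers, hyo]) h.x3
  have hzz : zpowers x = zpowers y := by
    refine Subgroup.eq_of_le_of_card_ge (zpowers_le.2 hxy) ?_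
    rw [Nat.card_zpowers, Nat.card_zpowers, hyo, h.x3]
  have hxn : (zpowers x).Normal := by rw [hzz]; exact hyn
  have hxF : x ∈ fittingSubgroup H := (zpowers_le.2 hyF) hxy
  have hax : a * x * a⁻¹ = x⁻¹ := by
    obtain ⟨k, hk⟩ := hxy
    have hk' : y ^ k = x := hk
    rw [← hk', ← conj_zpow, hay, inv_zpow]
  have hax' : a * x ≠ x * a := by
    intro h1
    rw [h1, mul_inv_cancel_right] at hax
    have h2 : x * x = 1 := by
      nth_rewrite 1 [hax]; rw [inv_mul_cancel]
    have h3 : orderOf x ∣ 2 := orderOf_dvd_of_pow_eq_one (by rw [pow_two]; exact h2)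
    rw [h.x3] at h3
    norm_num at h3
  -- the components
  have hall : ∀ K : Subgroup H, IsComponent K → Cfsg.Lie.IsoSuzuki K := by
    intro K hK
    by_contra hn
    have h7 := three_dvd_of_kZero (kzero h hK) hn
    have h8 := mem_of_orderOf h.cyc Nat.prime_three (by norm_num) (component_normal h.cyc hK) h7 h.x3
    have h9 : x ∈ centralizer (K : Set H) := by
      rw [mem_centralizer_iff]
      intro k hk'
      have h10 := layer_le_centralizer_fitting (component_le_layer hK hk')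
      exact ((mem_centralizer_iff.mp h10) x hxF).symm
    exact h.x_ne (inter_centralizer h.cyc h.core hK x h8 h9)
  have hcK : ∀ K : Subgroup H, IsComponent K → E ≤ centralizer (K : Set H) :=
    fun K hK => le_centralizer h hK (hall K hK)
  have hfaith : ∀ b ∈ E, b * x = x * b → b = 1 := by
    intro b hb hbx
    refine eq_one_of_centralizes h.core (h.E_sq b hb) ?_ (fun K hK => hcK K hK hb)
    intro w hw
    by_contra hbw
    obtain ⟨r', y', hr', hr2', hyF', hyo', hyn', -, hay''⟩ := exists_inverted h.cyc h.core (h.E_sq b hb) hw hbw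
    have hr3' : r' = 3 := by
      by_contra hne
      have h5 : 5 ≤ r' := by
        have h2 := hr'.two_le
        by_contra hcon
        have : r' = 4 := by omega
        subst this
        exact absurd hr' (by norm_num)
      exact hay'' (five h hr' h5 hyo' hyn' b hb)
    subst hr3'
    have h9 : y' ∈ zpowers x := mem_of_orderOf h.cyc Nat.prime_three (by norm_num) hxn (by
      rw [Nat.card_zpowers, h.x3]) hyo'
    obtain ⟨k, hk'⟩ := h9
    apply hay''
    rw [← show x ^ k = y' from hk']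
    exact (Commute.zpow_right (show Commute b x from hbx) k).eq
  have ha1 : a ≠ 1 := by
    rintro rfl
    exact hax' (by rw [one_mul, mul_one])
  have hEa : ∀ b, b ∈ E ↔ b = 1 ∨ b = a := by
    intro b
    constructor
    · intro hb
      rcases eq_or_inv Nat.prime_three h.x3 (h.E_sq b hb) (hxn.conj_mem x (mem_zpowers x) b) with h1 | h1
      · left; exact hfaith b hb h1
      · right
        have h2 : (a * b) * x = x * (a * b) := by
          rw [← mul_inv_eq_iff_eq_mul]
          have h3 : (a * b) * x * (a * b)⁻¹ = a * (b * x * b⁻¹) * a⁻¹ := by group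
          have h4 : a * x⁻¹ * a⁻¹ = (a * x * a⁻¹)⁻¹ := by group
          rw [h3, h1, h4, hax, inv_inv]
        have h3 := hfaith _ (mul_mem ha hb) h2
        have h4 : b = a⁻¹ := eq_inv_of_mul_eq_one_right h3
        rw [h4]
        exact inv_eq_of_mul_eq_one_left haa
    · rintro (rfl | rfl)
      · exact one_mem _
      · exact ha
  have hcard : Nat.card E = 2 := by
    rw [Nat.card_eq_two_iff' (⟨1, one_mem _⟩ : E)]
    refine ⟨⟨a, ha⟩, fun h1 => ha1 (congrArg Subtype.val h1), ?_⟩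
    rintro ⟨b, hb⟩ hb1
    rcases (hEa b).1 hb with h1 | h1
    · exact absurd (Subtype.ext h1) hb1
    · exact Subtype.ext h1
  have hCS : CS ρ E = fx ρ a := by
    apply le_antisymm (CS_le_fx ha)
    intro v hv b hb
    rcases (hEa b).1 hb with rfl | rfl
    · rw [map_one]; rfl
    · exact hv
  have hind : (fx ρ a).index = 4 := by rw [← hCS, h.ind, hcard]
  have hidx : (fx ρ x).index = 4 ∨ (fx ρ x).index = 16 := by
    obtain ⟨d, hd, h5, h6⟩ := prim (ρ := ρ) h.sq Nat.prime_three (by norm_num) h.x3 (h.ne h.x_ne)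
    obtain ⟨e, he⟩ := prim_even (ρ := ρ) h.sq (a := a) (y := x) haa (by rw [h.x3]; decide) hax
    have h7 : d = 2 * e := by
      rw [h5, ← pow_mul] at he
      rw [Nat.pow_right_injective (le_refl 2) he, mul_comm]
    have h8 := half' ρ (a := a) (y := x) (by rw [h.x3]; decide) hax
    rw [hind, h5] at h8
    have h9 : d ≤ 4 := (Nat.pow_le_pow_iff_right (by norm_num : 1 < 2)).1 (by
      refine h8.trans (le_of_eq (by norm_num)))
    have h10 : d = 2 ∨ d = 4 := by omega
    rcases h10 with rfl | rfl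
    · left; rw [h5]; norm_num
    · right; rw [h5]; norm_num
  -- the decomposition
  refine ⟨hxn, hEa, ha1, haa, hax, hind, hidx, inverted (fittingSubgroup H) hab a, ?_, ?_, ?_, ⟨hxF, hax⟩,
    fun w hw => hw.2, ?_⟩
  · refine ⟨fun w hw g => ?_⟩
    have h1 := conj_mem_zpowers hFn hcyc hw.1 g
    exact (zpowers_le.2 hw) h1
  · have : Fact (Nat.Prime 3) := ⟨Nat.prime_three⟩
    rw [IsPGroup.iff_card]
    refine ⟨_, Nat.eq_prime_pow_of_unique_prime_dvd Nat.card_pos.ne' ?_⟩
    intro p hp hpd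
    by_contra hp3
    have : Fact p.Prime := ⟨hp⟩
    obtain ⟨w, hw⟩ := exists_prime_orderOf_dvd_card' (G := inverted (fittingSubgroup H) hab a) p hpd
    have hw' : orderOf (w : H) = p := by rw [Subgroup.orderOf_coe]; exact hw
    have hp2 : p ≠ 2 := by
      rintro rfl
      have h1 : orderOf (⟨w, w.2.1⟩ : fittingSubgroup H) = 2 := by rw [Subgroup.orderOf_mk]; exact hw'
      have h2 : 2 ∣ Nat.card (fittingSubgroup H) := by rw [← h1]; exact orderOf_dvd_natCard _
      exact (Nat.not_even_iff_odd.mpr (odd_card_fitting h.core)) (even_iff_two_dvd.mpr h2)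
    have h5 : 5 ≤ p := by
      have h2 := hp.two_le
      by_contra hcon
      have : p = 4 := by omega
      subst this
      exact absurd hp (by norm_num)
    have hwn : (zpowers (w : H)).Normal := by
      refine ⟨fun n hn g => ?_⟩
      obtain ⟨k, rfl⟩ := hn
      change g * (w : H) ^ k * g⁻¹ ∈ zpowers (w : H)
      rw [← conj_zpow]
      exact zpow_mem (conj_mem_zpowers hFn hcyc w.2.1 g) k
    have h6 := five h hp h5 hw' hwn a ha
    have h7 := w.2.2
    rw [h6, mul_inv_cancel_right] at h7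
    have h8 : (w : H) ^ 2 = 1 := by
      rw [pow_two]
      nth_rewrite 1 [h7]; rw [inv_mul_cancel]
    have h9 := orderOf_dvd_of_pow_eq_one h8
    rw [hw'] at h9
    have := Nat.le_of_dvd (by norm_num) h9
    omega
  · exact isCyclic_of_injective (Subgroup.inclusion (show inverted (fittingSubgroup H) hab a ≤ fittingSubgroup H
      from fun w hw => hw.1)) (Subgroup.inclusion_injective _)
  · intro g
    have hai : a⁻¹ = a := inv_eq_of_mul_eq_one_left haa
    set w := g * a * g⁻¹ * a⁻¹ with hw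
    have hwF : w ∈ fittingSubgroup H := by
      refine mem_fitting_of (fun v hv => comm_comm hFn hcyc g a hv) ?_
      intro K hK
      have hn := component_normal h.cyc hK
      have hCn : (centralizer (K : Set H)).Normal := inferInstance
      exact mul_mem (hCn.conj_mem _ (hcK K hK ha) g) (inv_mem (hcK K hK ha))
    have hwi : a * w * a⁻¹ = w⁻¹ := by
      have h1 : a * w * a⁻¹ = a * g * a * g⁻¹ * (a * a)⁻¹ := by rw [hw]; group
      have h2 : w⁻¹ = a * g * a⁻¹ * g⁻¹ := by rw [hw]; group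
      rw [h1, h2, haa, hai, inv_one, mul_one]
    have hodd : Odd (orderOf w) := by
      have h1 : orderOf w ∣ Nat.card (fittingSubgroup H) := by
        rw [← Subgroup.orderOf_mk _ hwF]
        exact orderOf_dvd_natCard _
      exact (odd_card_fitting h.core).of_dvd_nat h1
    have hwR : w ∈ inverted (fittingSubgroup H) hab a := ⟨hwF, hwi⟩
    obtain ⟨m, hm⟩ := hodd
    have ho2 : w ^ (m + 1) * w ^ (m + 1) = w := by
      rw [← pow_add]
      have h1 : m + 1 + (m + 1) = orderOf w + 1 := by omega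
      rw [h1, pow_succ, pow_orderOf_eq_one, one_mul]
    set o := w ^ (m + 1) with ho
    have hoR : o ∈ inverted (fittingSubgroup H) hab a := pow_mem hwR _
    refine ⟨o, hoR, o⁻¹ * g, ?_, by group⟩
    have h1 : a * o * a⁻¹ = o⁻¹ := hoR.2
    have h2 : a * o = o⁻¹ * a := by rw [← h1]; group
    have h3 : g * a = w * a * g := by rw [hw]; group
    calc o⁻¹ * g * a = o⁻¹ * (g * a) := by group
      _ = o⁻¹ * (o * o) * a * g := by rw [h3, ho2]; group
      _ = o * a * g := by group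
      _ = a * (o⁻¹ * g) := by
        have h4 : a * o⁻¹ = o * a := by
          calc a * o⁻¹ = (o⁻¹)⁻¹ * (o⁻¹ * a) * o⁻¹ := by group
            _ = (o⁻¹)⁻¹ * (a * o) * o⁻¹ := by rw [h2]
            _ = o * a := by group
        rw [← mul_assoc, h4]

/-- **(1.3)** -/
theorem cases (h : Nff0 ρ S O T E x) : (∃ e, OutA ρ E x e) ∨ ∃ K, IsComponent K ∧ OutB E x K := by
  classical
  by_cases hF : ∃ a ∈ E, ∃ u ∈ fittingSubgroup H, a * u ≠ u * a
  · obtain ⟨a, ha, u, hu, hau⟩ := hF
    exact Or.inl ⟨a, outA_of h ha hu hau⟩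
  · right
    push Not at hF
    obtain ⟨a₀, ha₀, ha₀O⟩ := h.exists_e
    have ha₀1 : a₀ ≠ 1 := fun h1 => ha₀O (by rw [h1]; exact one_mem _)
    obtain ⟨L, hL, haL⟩ : ∃ L : Subgroup H, IsComponent L ∧ a₀ ∉ centralizer (L : Set H) := by
      by_contra hcon
      push Not at hcon
      exact ha₀1 (eq_one_of_centralizes h.core (h.E_sq a₀ ha₀) (hF a₀ ha₀) hcon)
    have hLs : ¬ Cfsg.Lie.IsoSuzuki L := fun h1 => haL (le_centralizer h hL h1 ha₀)
    have h3L := three_dvd_of_kZero (kzero h hL) hLs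
    -- the other components are centralised
    have hoth : ∀ K : Subgroup H, IsComponent K → K ≠ L → E ≤ centralizer (K : Set H) := by
      intro K hK hKL
      by_cases hs : Cfsg.Lie.IsoSuzuki K
      · exact le_centralizer h hK hs
      · exact absurd (component_eq h.cyc h.core hK hL Nat.prime_three (by norm_num)
          (three_dvd_of_kZero (kzero h hK) hs) h3L) hKL
    have hLo : ∀ K : Subgroup H, IsComponent K → K ≠ L → L ≤ centralizer (K : Set H) := by
      intro K hK hKL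
      have h1 := component_commutator_eq_bot_of_ne hL hK hKL.symm
      rwa [Subgroup.commutator_eq_bot_iff_le_centralizer] at h1
    have hLF : ∀ g ∈ L, ∀ x ∈ fittingSubgroup H, g * x = x * g := by
      intro g hg x hx
      have h1 := layer_le_centralizer_fitting (component_le_layer hL hg)
      exact ((mem_centralizer_iff.mp h1) x hx).symm
    refine ⟨L, hL, component_normal h.cyc hL, simple_component h.cyc h.core hL, kzero h hL, hLs,
      mem_of_orderOf h.cyc Nat.prime_three (by norm_num) (component_normal h.cyc hL) h3L h.x3, ?_, ?_⟩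
    · intro a ha hal
      refine eq_one_of_centralizes h.core (h.E_sq a ha) (hF a ha) ?_
      intro K hK
      by_cases hKL : K = L
      · subst hKL
        rw [mem_centralizer_iff]
        intro k hk'
        exact (hal k hk').symm
      · exact hoth K hK hKL ha
    · intro a ha g hg hag
      have hcL : g⁻¹ * a ∈ centralizer (L : Set H) := by
        rw [mem_centralizer_iff]
        intro k hk'
        have h1 := hag k hk'
        have h3 : a * k = g * k * g⁻¹ * a := by rw [← h1]; group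
        calc k * (g⁻¹ * a) = g⁻¹ * (g * k * g⁻¹ * a) := by group
          _ = g⁻¹ * (a * k) := by rw [h3]
          _ = _ := by group
      have h1 : g⁻¹ * a = 1 := by
        refine eq_one_of_centralizes h.core ?_ ?_ ?_
        · refine (FFInner.sq_eq (inter_centralizer h.cyc h.core hL) h.E_sq hg hcL ?_).2
          rw [mul_inv_cancel_left]; exact ha
        · intro x hx
          rw [mul_assoc, hF a ha x hx, ← mul_assoc, hLF g⁻¹ (inv_mem hg) x hx, mul_assoc]
        · intro K hK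
          by_cases hKL : K = L
          · subst hKL; exact hcL
          · exact mul_mem (hLo K hK hKL (inv_mem hg)) (hoth K hK hKL ha)
      rw [inv_mul_eq_one] at h1
      exact h1.symm

end cases

section frame

variable {H : Type*} [Group H] {V : Type*} [CommGroup V]

/-- the module frame without (CK) -/
structure MF0 (ρ : H →* MulAut V) (S T O E : Subgroup H) (ξ : H) (H₁ : Subgroup V) : Prop where
  cyc : OddCyc H
  simple : ∀ J : Subgroup H, IsSimpleGroup J → (∃ x y : J, x * y ≠ y * x) → KZero J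
  core : ∀ D : Subgroup H, D.Normal → IsPGroup 2 D → D = ⊥
  inj : Function.Injective ρ
  sq : ∀ v : V, v * v = 1
  /-- `S` is a Sylow 2-subgroup of `H` -/
  two : IsPGroup 2 S
  index : ¬ 2 ∣ S.index
  T_le : T ≤ S
  O_le : O ≤ T
  T_norm : T ≤ normalizer (O : Set H)
  ξ_norm : ξ ∈ normalizer (O : Set H)
  ξ3 : orderOf ξ = 3
  rel : O.relIndex T = 2
  inv : ∀ t ∈ T, t ∉ O → t * ξ * t⁻¹ * ξ ∈ O
  E_le : E ≤ T
  E_sq : ∀ e ∈ E, e * e = 1
  E_not : ¬ E ≤ O
  H₁_le : H₁ ≤ CS ρ E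
  H₁_T : ∀ t ∈ T, ∀ v ∈ H₁, ρ t v ∈ H₁
  ind : H₁.index ≤ 2 * Nat.card E
  /-- (P*) -/
  three : ∀ y : H, orderOf y = 3 → ∀ F : Subgroup V, F ≤ H₁ → (∀ v ∈ F, ρ y v ∈ F) → ∀ v ∈ F, ρ y v = v
  /-- `V = ⟨C_V(S)^H⟩` -/
  gen : ∀ W : Subgroup V, CS ρ S ≤ W → (∀ h : H, ∀ w ∈ W, ρ h w ∈ W) → W = ⊤

variable {ρ : H →* MulAut V} {S T O E : Subgroup H} {ξ : H} {H₁ : Subgroup V}

namespace MF0

theorem xf (h : MF0 ρ S T O E ξ H₁) : XiNorm.Xf ρ S T O E ξ :=
  ⟨h.cyc, h.inj, h.sq, h.two, h.index, h.T_le, h.O_le, h.ξ3, h.inv, h.E_le, h.E_not, h.gen⟩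

theorem mf (h : MF0 ρ S T O E ξ H₁) (hck : ∀ K : Subgroup H, K.Normal → IsSimpleGroup K → ξ ∈ K → CS ρ K = ⊥) :
    Defs.MF ρ S T O E ξ H₁ :=
  ⟨h.cyc, h.simple, h.core, h.inj, h.sq, h.two, h.index, h.T_le, h.O_le, h.T_norm, h.ξ_norm, h.ξ3, h.rel, h.inv,
    h.E_le, h.E_sq, h.E_not, h.H₁_le, h.H₁_T, h.ind, h.three, h.gen, hck⟩

/-- `MF` if `⟨ξ⟩` is not normal -/
theorem mf' (h : MF0 ρ S T O E ξ H₁) (hn : ¬ (zpowers ξ).Normal)
    (hck : ∀ K : Subgroup H, K.Normal → IsSimpleGroup K → (∃ x y : K, x * y ≠ y * x) → ξ ∈ K → CS ρ K = ⊥) :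
    Defs.MF ρ S T O E ξ H₁ := by
  refine h.mf fun K hK hs hξ => hck K hK hs ?_ hξ
  by_contra hcon
  push Not at hcon
  apply hn
  have h1 : ((zpowers ξ).subgroupOf K).Normal := by
    refine ⟨fun a ha g => ?_⟩
    rw [hcon g a, mul_inv_cancel_right]
    exact ha
  rcases hs.eq_bot_or_eq_top_of_normal _ h1 with h2 | h2
  · exfalso
    have h3 : (⟨ξ, hξ⟩ : K) ∈ (zpowers ξ).subgroupOf K := mem_subgroupOf.2 (mem_zpowers ξ)
    rw [h2, Subgroup.mem_bot] at h3
    have h4 : ξ = 1 := congrArg Subtype.val h3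
    have := h.ξ3
    rw [h4, orderOf_one] at this
    omega
  · rw [Subgroup.subgroupOf_eq_top] at h2
    have h3 : zpowers ξ = K := le_antisymm (zpowers_le.2 hξ) h2
    rw [h3]
    exact hK

/-- `Nff0` from `MF0` without FF-offenders -/
theorem nff0 [Finite V] (h : MF0 ρ S T O E ξ H₁)
    (nff : ∀ A : Subgroup H, A ≠ ⊥ → (∀ a ∈ A, a * a = 1) → 2 * Nat.card A ≤ (CS ρ A).index) [Finite H] :
    Nff0 ρ S O T E ξ := by
  have hEne : E ≠ ⊥ := fun he => h.E_not (by rw [he]; exact bot_le)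
  have hH : H₁ = CS ρ E := by
    refine le_antisymm h.H₁_le ?_
    have h1 := nff E hEne h.E_sq
    have h2 := h.ind
    have h3 : (CS ρ E).index = H₁.index := by
      apply Nat.dvd_antisymm (index_dvd_of_le h.H₁_le)
      rw [le_antisymm (h2.trans h1) ?_]
      have h4 := Nat.le_of_dvd (Nat.pos_of_ne_zero H₁.index_ne_zero_of_finite) (index_dvd_of_le h.H₁_le)
      exact h4
    have h5 := H₁.card_mul_index
    have h6 := (CS ρ E).card_mul_index
    rw [← h6, h3] at h5
    have h7 : Nat.card H₁ = Nat.card (CS ρ E) :=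
      Nat.eq_of_mul_eq_mul_right (Nat.pos_of_ne_zero H₁.index_ne_zero_of_finite) h5
    exact (Subgroup.eq_of_le_of_card_ge h.H₁_le h7.ge).ge
  have hind : (CS ρ E).index = 2 * Nat.card E := by
    refine le_antisymm ?_ (nff E hEne h.E_sq)
    rw [← hH]
    exact h.ind
  exact
    { cyc := h.cyc
      kz := h.simple
      core := by
        have : Fact (Nat.Prime 2) := ⟨Nat.prime_two⟩
        exact h.core _ (Cfsg.Agent.Lib.Cores.pCore_normal 2) (Cfsg.Agent.Lib.Cores.pCore_isPGroup 2)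
      sq := h.sq
      inj := h.inj
      S_two := h.two
      S_syl := h.index
      gen := h.gen
      O_le := h.O_le
      T_le := h.T_le
      rel := h.rel
      x3 := h.ξ3
      x_norm := h.ξ_norm
      inv := h.inv
      E_le := h.E_le
      E_not := h.E_not
      E_sq := h.E_sq
      ind := hind
      nff := by
        intro A hA hA2
        have h1 := nff A hA hA2
        have h2 : 0 < Nat.card A := Nat.card_pos
        omega
      three := by
        intro y hy F hF hy' v hv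
        exact h.three y hy F (by rw [hH]; exact hF) hy' v hv }

/-- **the end of the case `⟨ξ⟩ ⊴ H`** : all elements act on `V₁` as elements of `T⟨ξ⟩` -/
theorem act [Finite H] [Finite V] (h : MF0 ρ S T O E ξ H₁) (hn : (zpowers ξ).Normal)
    (hFF : (fx ρ ξ).index = 4 ∨ ∀ A : Subgroup H, A ≠ ⊥ → (∀ a ∈ A, a * a = 1) → 2 * Nat.card A ≤ (CS ρ A).index)
    (g : H) : ∃ k ∈ T ⊔ zpowers ξ, ∀ v ∈ (cm ρ ξ).range, ρ g v = ρ k v := by
  rcases hFF with h4 | hnff
  · exact h.xf.act hn h4 g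
  · rcases cases (h.nff0 hnff) with ⟨e, hA⟩ | ⟨K, hK, hB⟩
    · exact h.xf.actA hA g
    · exfalso
      have hs := hB.simple
      have h1 : ((zpowers ξ).subgroupOf K).Normal := hn.subgroupOf K
      rcases hs.eq_bot_or_eq_top_of_normal _ h1 with h2 | h2
      · have h3 : (⟨ξ, hB.mem⟩ : K) ∈ (zpowers ξ).subgroupOf K := mem_subgroupOf.2 (mem_zpowers ξ)
        rw [h2, Subgroup.mem_bot] at h3
        have h4 : ξ = 1 := congrArg Subtype.val h3
        have := h.ξ3
        rw [h4, orderOf_one] at this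
        omega
      · rw [Subgroup.subgroupOf_eq_top] at h2
        have h3 : zpowers ξ = K := le_antisymm (zpowers_le.2 hB.mem) h2
        refine Cfsg.Agent.SignalizersComponents.Components.quasisimple_not_isMulCommutative hK.2 ⟨⟨?_⟩⟩
        rintro ⟨a, ha⟩ ⟨b, hb⟩
        rw [← h3] at ha hb
        obtain ⟨i, rfl⟩ := ha
        obtain ⟨j, rfl⟩ := hb
        exact Subtype.ext (zpow_mul_comm ξ i j)

end MF0

end frame

section inst

open Cfsg.Agent.ZN Cfsg.Agent.ZN.ChoiceBase Cfsg.Agent.MinSimple Cfsg.Agent.MinSimple.EmptySix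
open Cfsg.Agent.MinSimple.EmptyE.Closed (LL vv_comm vv_sq vv_mul_self vv_le jj_le_centralizer_vv conj_mem_vv
  card_le_mm')
open Cfsg.Agent.OddCyclic.T1Defs Cfsg.Agent.OddCyclic.T1Module Cfsg.Agent.OddCyclic.FFBasic
  Cfsg.Agent.OddCyclic.FFRed Cfsg.Agent.OddCyclic.RedRep Cfsg.Agent.OddCyclic.CompStart Cfsg.Agent.OddCyclic.CompBasic
open Cfsg.Agent.OddCyclic.L32 Cfsg.Agent.OddCyclic.Bc.Inst

universe u

variable {G : Type u} [Group G] [Finite G] {S : Sylow 2 G} {T L O₁ O A : Subgroup G} {ξ x : G}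
variable {H V : Type u} [Group H] [CommGroup V] {r : LL (S : Subgroup G) →* H} {ρ : H →* MulAut V} {ι : V →* G}

/-- **the module frame** -/
theorem mf0_of [Finite H] [Finite V]
    (hr : RedRep.Rep (LL (S : Subgroup G)) (vv (S : Subgroup G)) r ρ ι) (c : Conf S T L O₁ O A ξ x) (hG : OddCyc G) (hz : SecZero G)
    (hL : LL (S : Subgroup G) ≠ ⊤) (hξ : ∃ v ∈ vv (S : Subgroup G), ξ * v ≠ v * ξ) :
    MF0 ρ (im (LL (S : Subgroup G)) (S : Subgroup G) r) (im (LL (S : Subgroup G)) T r)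
      (im (LL (S : Subgroup G)) O₁ r) (im (LL (S : Subgroup G)) (FD.cj x A ⊓ O) r) (r ⟨ξ, ξ_mem_LL c⟩)
      ((vv (S : Subgroup G) ⊓ FD.cj x (vv (S : Subgroup G))).comap ι) where
  cyc := T1Structure.oddCyc_of_surjective
    (T1Structure.oddCyc_of_injective hG (LL (S : Subgroup G)).subtype (LL (S : Subgroup G)).subtype_injective)
    r hr.surj
  simple := FFSec.kzero_of_image hz hL r hr.surj
  core := core_of hr
  inj := hr.inj
  sq := sq_of hr
  two := isPGroup_im r
  index := index_im hr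
  T_le := im_mono (T_le c)
  O_le := im_mono c.O₁_le
  T_norm := im_le_normalizer c.O₁_T
  ξ_norm := mem_normalizer_im c.O₁_ξ
  ξ3 := orderOf_ξ hr c hξ
  rel := rel_of hr c hξ
  inv := by
    intro t ht htO
    obtain ⟨t, ht', rfl⟩ := of_mem_im ht
    have h1 : (t : G) ∉ O₁ := fun h => htO ⟨t, mem_subgroupOf.2 h, rfl⟩
    have h2 := c.inv₁ _ ht' h1
    refine ⟨t * ⟨ξ, ξ_mem_LL c⟩ * t⁻¹ * ⟨ξ, ξ_mem_LL c⟩, mem_subgroupOf.2 h2, ?_⟩
    rw [map_mul, map_mul, map_mul, map_inv]
  E_le := im_mono (inf_le_right.trans c.O_le)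
  E_sq := by
    rintro _ ⟨e, he, rfl⟩
    have h1 := (dt c).asq' x e (mem_subgroupOf.1 he).1
    rw [← map_mul]
    have h2 : e * e = 1 := Subtype.ext h1
    rw [h2, map_one]
  E_not := by
    intro h
    apply c.E_not
    intro e he
    have h1 := mem_im (r := r) ((inf_le_right.trans (O_le_LL c)) : FD.cj x A ⊓ O ≤ LL (S : Subgroup G)) he
    exact key hr c hξ (t := ⟨e, _⟩) (c.O_le he.2) (h h1)
  H₁_le := by
    rintro v hv _ ⟨e, he, rfl⟩
    rw [hr.fix]
    exact ((mem_centralizer_iff.1 ((dt c).E_le (mem_subgroupOf.1 he))) (ι v) hv).symm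
  H₁_T := by
    intro t ht v hv
    obtain ⟨t, ht', rfl⟩ := of_mem_im ht
    rw [mem_comap, hr.act]
    exact (mem_normalizer_iff.1 (T_le_F c ht') (ι v)).1 hv
  ind := by
    rw [index_comap, hr.range, card_im hr ((inf_le_right.trans (O_le_LL c)))]
    exact (dt c).index_le'
  three := by
    intro y hy F hF hyF v hv
    obtain ⟨g, rfl, hg⟩ := lift_three hr (not_three c hG hξ) hy
    have hD : F.map ι ≤ vv (S : Subgroup G) ⊓ FD.cj x (vv (S : Subgroup G)) := by
      rintro _ ⟨w, hw, rfl⟩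
      exact hF hw
    have hgD : (g : G) ∈ normalizer ((F.map ι : Subgroup G) : Set G) := by
      refine CompStandard.mem_normalizer_of_forall ?_
      rintro _ ⟨w, hw, rfl⟩
      exact ⟨ρ (r g) w, hyF w hw, hr.act g w⟩
    rw [hr.fix]
    refine (dt c).three hG ?_ hD hg hgD ⟨v, hv, rfl⟩
    intro h1
    have := c.x3
    rw [h1, orderOf_one] at this
    omega
  gen := gen_of hr

end inst

end Cfsg.Agent.OddCyclic.Bc.AaZero
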