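import Cfsg.Agent.OddCyclic.FFStruct

/-!
# S0342, leaf [Bc], type (b): the module frame (blueprints/S0342-Bc-helper108.md)

`H = L/C_G(V)` acts faithfully on `V = ⟨Ω₁Z(S)^{N_G(J)}⟩`; `T`, `O`, `ξ`, `E`, `H₁` are the images of `T`, `O₂(P₁)`, `ξ`,
`(A ∩ O₂(P))^x` and the subgroup `V ∩ V^x = C_V(x)`.

* `MF` : the frame, `|V : H₁| ≤ 2|E|`, `E` centralises `H₁`, (P*) = `three`, (G) = `gen`, (CK) = `ck`;
* `NF` : `MF` and no FF-offenders.
-/

set_option autoImplicit false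
set_option linter.unusedSectionVars false

namespace Cfsg.Agent.OddCyclic.Bc.Defs

open Subgroup
open Cfsg.Agent.OddCyclic.T1Defs Cfsg.Agent.OddCyclic.T1Module Cfsg.Agent.OddCyclic.FFBasic
open Cfsg.Agent.OddCyclic.PumpMain (KZero)

variable {H : Type*} [Group H] {V : Type*} [CommGroup V]

/-- the module frame -/
structure MF (ρ : H →* MulAut V) (S T O E : Subgroup H) (ξ : H) (H₁ : Subgroup V) : Prop where
  cyc : OddCyc H
  simple : ∀ J : Subgroup H, IsSimpleGroup J → (∃ x y : J, x * y ≠ y * x) → KZero J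
  core : ∀ D : Subgroup H, D.Normal → IsPGroup 2 D → D = ⊥
  inj : Function.Injective ρ
  sq : ∀ v : V, v * v = 1
  /-- `S` is a Sylow 2-subgroup of `H` -/
  two : IsPGroup 2 S
  index : ¬ 2 ∣ S.index
  T_le : T ≤ S
  O_le : O ≤ T
  T_norm : T ≤ normalizer (O : Set H)
  ξ_norm : ξ ∈ normalizer (O : Set H)
  ξ3 : orderOf ξ = 3
  rel : O.relIndex T = 2
  inv : ∀ t ∈ T, t ∉ O → t * ξ * t⁻¹ * ξ ∈ O
  E_le : E ≤ T
  E_sq : ∀ e ∈ E, e * e = 1
  E_not : ¬ E ≤ O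
  H₁_le : H₁ ≤ CS ρ E
  H₁_T : ∀ t ∈ T, ∀ v ∈ H₁, ρ t v ∈ H₁
  ind : H₁.index ≤ 2 * Nat.card E
  /-- (P*) -/
  three : ∀ y : H, orderOf y = 3 → ∀ F : Subgroup V, F ≤ H₁ → (∀ v ∈ F, ρ y v ∈ F) → ∀ v ∈ F, ρ y v = v
  /-- `V = ⟨C_V(S)^H⟩` -/
  gen : ∀ W : Subgroup V, CS ρ S ≤ W → (∀ h : H, ∀ w ∈ W, ρ h w ∈ W) → W = ⊤
  /-- (CK) -/
  ck : ∀ K : Subgroup H, K.Normal → IsSimpleGroup K → ξ ∈ K → CS ρ K = ⊥

/-- the module frame without FF-offenders -/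
structure NF (ρ : H →* MulAut V) (S T O E : Subgroup H) (ξ : H) (H₁ : Subgroup V) : Prop extends
    MF ρ S T O E ξ H₁ where
  nff : ∀ A : Subgroup H, A ≠ ⊥ → (∀ a ∈ A, a * a = 1) → 2 * Nat.card A ≤ (CS ρ A).index

variable {ρ : H →* MulAut V} {S T O E : Subgroup H} {ξ : H} {H₁ : Subgroup V}

theorem act_mul (ρ : H →* MulAut V) (g h : H) (v : V) : ρ (g * h) v = ρ g (ρ h v) := by
  rw [map_mul, MulAut.mul_apply]

theorem act_comm {g h : H} (hc : g * h = h * g) (v : V) : ρ g (ρ h v) = ρ h (ρ g v) := by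
  rw [← act_mul, hc, act_mul]

namespace MF

theorem E_ne (h : MF ρ S T O E ξ H₁) : E ≠ ⊥ := fun he => h.E_not (by rw [he]; exact bot_le)

theorem E_comm (h : MF ρ S T O E ξ H₁) {a b : H} (ha : a ∈ E) (hb : b ∈ E) : a * b = b * a := by
  have h1 := h.E_sq _ (mul_mem ha hb)
  have h2 := h.E_sq a ha
  have h3 := h.E_sq b hb
  have h4 : a = a⁻¹ := eq_inv_of_mul_eq_one_left h2
  have h5 : b = b⁻¹ := eq_inv_of_mul_eq_one_left h3
  have h6 : a * b = (a * b)⁻¹ := eq_inv_of_mul_eq_one_left h1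
  rw [mul_inv_rev, ← h4, ← h5] at h6
  exact h6

theorem exists_e (h : MF ρ S T O E ξ H₁) : ∃ e ∈ E, e ∉ O := by
  by_contra hcon
  push Not at hcon
  exact h.E_not hcon

end MF

namespace NF

theorem H₁_eq [Finite V] (h : NF ρ S T O E ξ H₁) : H₁ = CS ρ E := by
  refine le_antisymm h.H₁_le ?_
  have h1 := h.nff E h.E_ne h.E_sq
  have h2 := h.ind
  have h3 : (CS ρ E).index = H₁.index := by
    apply Nat.dvd_antisymm (index_dvd_of_le h.H₁_le)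
    rw [le_antisymm (h2.trans h1) ?_]
    have h4 := Nat.le_of_dvd (Nat.pos_of_ne_zero H₁.index_ne_zero_of_finite) (index_dvd_of_le h.H₁_le)
    exact h4
  have h5 := H₁.card_mul_index
  have h6 := (CS ρ E).card_mul_index
  rw [← h6, h3] at h5
  have h7 : Nat.card H₁ = Nat.card (CS ρ E) :=
    Nat.eq_of_mul_eq_mul_right (Nat.pos_of_ne_zero H₁.index_ne_zero_of_finite) h5
  exact (Subgroup.eq_of_le_of_card_ge h.H₁_le h7.ge).ge

theorem ind_eq [Finite V] (h : NF ρ S T O E ξ H₁) : (CS ρ E).index = 2 * Nat.card E := by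
  refine le_antisymm ?_ (h.nff E h.E_ne h.E_sq)
  rw [← h.H₁_eq]
  exact h.ind

end NF

end Cfsg.Agent.OddCyclic.Bc.Defs
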