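import Cfsg.Agent.OddCyclic.Bc.GenI

/-!
# S0342, leaf [Bc], type (b): lemmas for the end

* `ck_of`: (CK) for all normal subgroups, if `ξ` moves all `v ∈ Z#`;
* `mf`: the module frame;
* `nf_of`: no FF-offenders;
* `mem_of`: `ξ` is in the normal subgroups of order divisible by 3.
-/

set_option autoImplicit false
set_option linter.unusedSectionVars false

namespace Cfsg.Agent.OddCyclic.Bc.EndLib

open Subgroup Cfsg Cfsg.Agent.ZN Cfsg.Agent.ZN.ChoiceBase Cfsg.Agent.MinSimple Cfsg.Agent.MinSimple.EmptySix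
open Cfsg.Agent.MinSimple.EmptyE.Closed (LL)
open Cfsg.Agent.OddCyclic.T1Defs Cfsg.Agent.OddCyclic.T1Module Cfsg.Agent.OddCyclic.FFBasic
  Cfsg.Agent.OddCyclic.FFRed Cfsg.Agent.OddCyclic.RedRep Cfsg.Agent.OddCyclic.CompStart Cfsg.Agent.OddCyclic.CompBasic
open Cfsg.Agent.OddCyclic.L32
open Cfsg.Agent.OddCyclic.Bc.Inst

universe u

variable {G : Type u} [Group G] [Finite G] {S : Sylow 2 G} {T L O₁ O A : Subgroup G} {ξ x : G}
variable {H V : Type u} [Group H] [CommGroup V] {r : LL (S : Subgroup G) →* H} {ρ : H →* MulAut V} {ι : V →* G}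

/-- (CK) for all normal subgroups -/
theorem ck_of [Finite V] (c : Conf S T L O₁ O A ξ x) (hr : Rep (LL (S : Subgroup G)) (vv (S : Subgroup G)) r ρ ι)
    (hmv : ∀ v ∈ zc (S : Subgroup G), v ≠ 1 → ξ * v ≠ v * ξ) (K : Subgroup H) (hK : K.Normal)
    (hξ : r ⟨ξ, ξ_mem_LL c⟩ ∈ K) : CS ρ K = ⊥ := by
  by_contra hne
  obtain ⟨z, hz, hzS, hz1⟩ := EmpFFAbs.exists_fixed (sq_of hr) (isPGroup_im r) hne
    (fun t _ w hw => EmpFFAbs.CS_inv t hw)
  refine hmv (ι z) ((mem_CS_S hr z).1 hzS) (fun h1 => hz1 (hr.iinj (by rw [h1, map_one]))) ?_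
  exact (hr.fix (x := ⟨ξ, ξ_mem_LL c⟩)).1 (hz _ hξ)

/-- the module frame -/
theorem mf [Finite H] [Finite V] (c : Conf S T L O₁ O A ξ x)
    (hr : Rep (LL (S : Subgroup G)) (vv (S : Subgroup G)) r ρ ι) (hG : OddCyc G) (hz : SecZero G)
    (hL : LL (S : Subgroup G) ≠ ⊤) (hmv : ∀ v ∈ zc (S : Subgroup G), v ≠ 1 → ξ * v ≠ v * ξ)
    (hne : ∃ v ∈ zc (S : Subgroup G), v ≠ 1) :
    Defs.MF ρ (im (LL (S : Subgroup G)) (S : Subgroup G) r) (im (LL (S : Subgroup G)) T r)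
      (im (LL (S : Subgroup G)) O₁ r) (im (LL (S : Subgroup G)) (FD.cj x A ⊓ O) r) (r ⟨ξ, ξ_mem_LL c⟩)
      ((vv (S : Subgroup G) ⊓ FD.cj x (vv (S : Subgroup G))).comap ι) := by
  obtain ⟨v, hv, hv1⟩ := hne
  exact mf_of hr c hG hz hL ⟨v, zc_le_vv _ hv, hmv v hv hv1⟩ (fun K hK _ hξ => ck_of c hr hmv K hK hξ)

section abs

variable {H : Type*} [Group H] {V : Type*} [CommGroup V]
variable {ρ : H →* MulAut V} {S T O E : Subgroup H} {ξ : H} {H₁ : Subgroup V}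

/-- powers of two -/
theorem two_mul_le [Finite V] (hsq : ∀ v : V, v * v = 1) {A : Subgroup H} [Finite A] (hA : ∀ a ∈ A, a * a = 1)
    {W : Subgroup V} (h : Nat.card A * Nat.card W < Nat.card V) : 2 * Nat.card A ≤ W.index := by
  have hf : Fact (Nat.Prime 2) := ⟨Nat.prime_two⟩
  have hA2 : IsPGroup 2 A := fun a => ⟨1, by
    rw [pow_one, pow_two]; exact Subtype.ext (hA a a.2)⟩
  have hV2 : IsPGroup 2 V := fun v => ⟨1, by rw [pow_one, pow_two]; exact hsq v⟩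
  obtain ⟨a, ha⟩ := (IsPGroup.iff_card (p := 2)).1 hA2
  obtain ⟨n, hn⟩ := (IsPGroup.iff_card (p := 2)).1 hV2
  have h1 : W.index ∣ 2 ^ n := by rw [← hn]; exact W.index_dvd_card
  obtain ⟨b, -, hb⟩ := (Nat.dvd_prime_pow Nat.prime_two).1 h1
  have h2 := W.card_mul_index
  rw [← h2, mul_comm (Nat.card W), Nat.mul_lt_mul_right Nat.card_pos] at h
  rw [ha, hb] at h ⊢
  have h3 : a < b := (Nat.pow_lt_pow_iff_right (by norm_num)).1 h
  calc 2 * 2 ^ a = 2 ^ (a + 1) := by rw [pow_succ]; ring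
    _ ≤ 2 ^ b := Nat.pow_le_pow_right (by norm_num) h3

/-- no FF-offenders -/
theorem nff_of [Finite H] [Finite V] (hsq : ∀ v : V, v * v = 1)
    (hFF : ¬ ∃ A : Subgroup H, A ≠ ⊥ ∧ (∀ a ∈ A, a * a = 1) ∧ Nat.card V ≤ Nat.card A * Nat.card (CS ρ A))
    (A : Subgroup H) (hA : A ≠ ⊥) (hA2 : ∀ a ∈ A, a * a = 1) : 2 * Nat.card A ≤ (CS ρ A).index := by
  apply two_mul_le hsq hA2
  by_contra hcon
  push Not at hcon
  exact hFF ⟨A, hA, hA2, hcon⟩

/-- no FF-offenders -/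
theorem nf_of [Finite H] [Finite V] (h : Defs.MF ρ S T O E ξ H₁)
    (hFF : ¬ ∃ A : Subgroup H, A ≠ ⊥ ∧ (∀ a ∈ A, a * a = 1) ∧ Nat.card V ≤ Nat.card A * Nat.card (CS ρ A)) :
    Defs.NF ρ S T O E ξ H₁ :=
  { toMF := h, nff := nff_of h.sq hFF }

/-- `ξ` is in the normal subgroups of order divisible by 3 -/
theorem mem_of [Finite H] (h : Defs.MF ρ S T O E ξ H₁) {K : Subgroup H} (hK : K.Normal) (h3 : 3 ∣ Nat.card K) :
    ξ ∈ K :=
  CompBasic.mem_of_orderOf h.cyc Nat.prime_three (by norm_num) hK h3 h.ξ3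

/-- the action is faithful -/
theorem ker_trivial (h : Defs.MF ρ S T O E ξ H₁) {y : H} (hy : ∀ v, ρ y v = v) : y = 1 :=
  h.inj (by rw [map_one]; ext v; exact hy v)

end abs

end Cfsg.Agent.OddCyclic.Bc.EndLib
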