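import Cfsg.Agent.OddCyclic.Bc.OneB5Perm
import Cfsg.Agent.OddCyclic.FFSl2
import Cfsg.Agent.OddCyclic.Om5Mod

/-!
# S0342, leaf [Bc], (iv) of (1.6): the orthogonal module of `Alt(5)`

`σ : Alt(5) →* MulAut V`, `|V| = 16`, irreducible, the element `y0` of order 3 fixes the vectors fixed by `⟨a0, a1⟩`:
then there are five vectors `z i`, permuted by `Alt(5)`, with product one, which generate `V`, and they are the
non-trivial vectors fixed by the four-subgroups (`Vc`).
-/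

set_option autoImplicit false
set_option linter.unusedSectionVars false

namespace Cfsg.Agent.OddCyclic.Bc.OneB5Mod

open Subgroup Cfsg.Agent.OddCyclic.T1Module Cfsg.Agent.OddCyclic.FFBasic Cfsg.Agent.OddCyclic.FFRed
  Cfsg.Agent.OddCyclic.FFSl2
open Cfsg.Agent.OddCyclic.Om5 (dl pow_val)
open OneB5Perm

abbrev Al := alternatingGroup (Fin 5)

def a0 : Al := ⟨A0, signA0⟩
def a1 : Al := ⟨A1, signA1⟩
def y0 : Al := ⟨Y0, signY0⟩
def s1 : Al := ⟨S1, signS1⟩
def tt (i : Fin 5) : Al := ⟨T i, signT i⟩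

theorem y0_order : orderOf y0 = 3 := by
  have : Fact (Nat.Prime 3) := ⟨Nat.prime_three⟩
  exact orderOf_eq_prime (Subtype.ext Y0_three) (fun h => Y0_ne (congrArg Subtype.val h))

theorem y0_ne : y0 ≠ 1 := fun h => Y0_ne (congrArg Subtype.val h)
theorem a0_ne : a0 ≠ 1 := fun h => A0_ne (congrArg Subtype.val h)
theorem a0_sq : a0 * a0 = 1 := Subtype.ext A0_sq
theorem a1_sq : a1 * a1 = 1 := Subtype.ext A1_sq
theorem a_comm : a0 * a1 = a1 * a0 := Subtype.ext A_comm

variable {V : Type*} [CommGroup V] {σ : Al →* MulAut V}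

/-- the vectors are permuted by `Alt(5)` -/
structure Vc (σ : Al →* MulAut V) (z : Fin 5 → V) : Prop where
  act : ∀ (g : Al) i, σ g (z i) = z ((g : Equiv.Perm (Fin 5)) i)
  ne_one : ∀ i, z i ≠ 1
  ne : ∀ i j, i ≠ j → z i ≠ z j
  prod : z 0 * z 1 * z 2 * z 3 * z 4 = 1
  all : ∀ v, ∃ i j k l, v = z i * z j * (z k * z l)
  /-- the vectors fixed by a four-subgroup -/
  uniq : ∀ v ≠ 1, ∀ a b : Al, a * a = 1 → b * b = 1 → a ≠ 1 → b ≠ 1 → a ≠ b → a * b = b * a →
    σ a v = v → σ b v = v → ∃ i, v = z i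

/-- vectors fixed by `a0`, `a1` and `y0` are fixed by the stabiliser of `0` -/
theorem fix_stab {v : V} (h0 : σ a0 v = v) (h1 : σ a1 v = v) (hy : σ y0 v = v) {g : Al}
    (hg : (g : Equiv.Perm (Fin 5)) 0 = 0) : σ g v = v := by
  obtain ⟨i, j, k, h⟩ := stab g.1 (Equiv.Perm.mem_alternatingGroup.1 g.2) hg
  have e : g = a0 ^ i.val * a1 ^ j.val * y0 ^ k.val := Subtype.ext h
  have h0' : a0 ∈ stb σ v := h0
  have h1' : a1 ∈ stb σ v := h1
  have hy' : y0 ∈ stb σ v := hy
  rw [e]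
  exact mul_mem (mul_mem (pow_mem h0' _) (pow_mem h1' _)) (pow_mem hy' _)

/-- vectors fixed by the stabilisers of `0` and `1` are fixed -/
theorem fix_all {v : V} (h0 : ∀ g : Al, (g : Equiv.Perm (Fin 5)) 0 = 0 → σ g v = v)
    (h1 : ∀ g : Al, (g : Equiv.Perm (Fin 5)) 1 = 1 → σ g v = v) (g : Al) : σ g v = v := by
  by_cases hg : (g : Equiv.Perm (Fin 5)) 0 = 0
  · exact h0 g hg
  obtain ⟨r, hr, hr0, hr2⟩ := gen _ hg
  have hr' : (⟨r, Equiv.Perm.mem_alternatingGroup.2 hr⟩ : Al) ∈ stb σ v := h0 _ hr0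
  have hs : s1 ∈ stb σ v := h1 s1 S1_one
  have hq : (⟨r, Equiv.Perm.mem_alternatingGroup.2 hr⟩ * s1)⁻¹ * g ∈ stb σ v := by
    apply h0
    change (r * S1)⁻¹ ((g : Equiv.Perm (Fin 5)) 0) = 0
    rw [Equiv.Perm.inv_eq_iff_eq, Equiv.Perm.mul_apply, S1_zero, hr2]
  have := mul_mem (mul_mem hr' hs) hq
  rwa [mul_inv_cancel_left] at this

variable [Finite V]

/-- the hypotheses -/
structure Hy (σ : Al →* MulAut V) : Prop where
  sq : ∀ v : V, v * v = 1
  inj : Function.Injective σ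
  card : Nat.card V = 16
  ck : ∀ v, (∀ g, σ g v = v) → v = 1
  irr : ∀ W : Subgroup V, (∀ g, ∀ w ∈ W, σ g w ∈ W) → W ≠ ⊥ → W = ⊤
  three : ∀ v, σ a0 v = v → σ a1 v = v → σ y0 v = v

namespace Hy

variable (h : Hy σ)

include h

theorem stab {v : V} (h0 : σ a0 v = v) (h1 : σ a1 v = v) {g : Al} (hg : (g : Equiv.Perm (Fin 5)) 0 = 0) :
    σ g v = v :=
  fix_stab h0 h1 (h.three v h0 h1) hg

theorem exists_z : ∃ v, v ≠ 1 ∧ σ a0 v = v ∧ σ a1 v = v := by
  have : Nontrivial V := by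
    rw [← Finite.one_lt_card_iff_nontrivial, h.card]
    norm_num
  have key : ∀ a : Al, a * a = 1 → ∀ w : V, w ≠ 1 → ∃ v, v ≠ 1 ∧ σ a v = v ∧ (v = w ∨ v = w * σ a w) := by
    intro a ha w hw
    by_cases h1 : σ a w = w
    · exact ⟨w, hw, h1, Or.inl rfl⟩
    · refine ⟨w * σ a w, fun h2 => h1 ?_, ?_, Or.inr rfl⟩
      · exact (eq_of_mul_eq_one h.sq h2).symm
      · rw [map_mul, ← MulAut.mul_apply, ← map_mul, ha, map_one, MulAut.one_apply, mul_comm]
  obtain ⟨w, hw⟩ := exists_ne (1 : V)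
  obtain ⟨u, hu1, hu, -⟩ := key a0 a0_sq w hw
  obtain ⟨v, hv1, hv, hv2⟩ := key a1 a1_sq u hu1
  refine ⟨v, hv1, ?_, hv⟩
  rcases hv2 with rfl | rfl
  · exact hu
  · rw [map_mul, hu, ← MulAut.mul_apply, ← map_mul, a_comm, map_mul, MulAut.mul_apply, hu]

theorem uniq0 {v w : V} (hv1 : v ≠ 1) (hw1 : w ≠ 1) (hv0 : σ a0 v = v) (hv : σ a1 v = v) (hw0 : σ a0 w = w)
    (hw : σ a1 w = w) : v = w := by
  by_contra hne
  set C : Subgroup V := fx σ a0 ⊓ fx σ a1 with hC
  have hCs : ∀ u ∈ C, ∀ g : Al, (g : Equiv.Perm (Fin 5)) 0 = 0 → σ g u = u := fun u hu g hg => h.stab hu.1 hu.2 hg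
  have h3 : 3 ≤ Nat.card C := by
    let f : Fin 3 → C := ![1, ⟨v, hv0, hv⟩, ⟨w, hw0, hw⟩]
    have hf : Function.Injective f := by
      intro i j hij
      fin_cases i <;> fin_cases j
      · rfl
      · exact absurd (congrArg Subtype.val hij).symm hv1
      · exact absurd (congrArg Subtype.val hij).symm hw1
      · exact absurd (congrArg Subtype.val hij) hv1
      · rfl
      · exact absurd (congrArg Subtype.val hij) hne
      · exact absurd (congrArg Subtype.val hij) hw1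
      · exact absurd (congrArg Subtype.val hij).symm hne
      · rfl
    have := Nat.card_le_card_of_injective f hf
    rwa [Nat.card_fin] at this
  -- `C` and its translate meet trivially
  have hC1 : ∀ u ∈ C, ∀ u' ∈ C, u = σ (tt 1) u' → u = 1 := by
    intro u hu u' hu' he
    apply h.ck
    apply fix_all (hCs u hu)
    intro g hg
    have h1 : σ ((tt 1)⁻¹ * g * tt 1) u' = u' := by
      apply hCs u' hu'
      change (T 1)⁻¹ ((g : Equiv.Perm (Fin 5)) (T 1 0)) = 0
      rw [T_zero, hg, Equiv.Perm.inv_eq_iff_eq, T_zero]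
    rw [he, ← MulAut.mul_apply, ← map_mul]
    have h2 : g * tt 1 = tt 1 * ((tt 1)⁻¹ * g * tt 1) := by group
    rw [h2, map_mul, MulAut.mul_apply, h1]
  have hy1 : ∀ u ∈ C, σ y0 u = u := fun u hu => hCs u hu y0 Y0_zero
  have hy2 : ∀ u ∈ C, σ y0 (σ (tt 1) u) = σ (tt 1) u := by
    intro u hu
    have h1 : σ ((tt 1)⁻¹ * y0 * tt 1) u = u := by
      apply hCs u hu
      change (T 1)⁻¹ (Y0 (T 1 0)) = 0
      rw [T_zero, Y0_one, Equiv.Perm.inv_eq_iff_eq, T_zero]
    have h2 : y0 * tt 1 = tt 1 * ((tt 1)⁻¹ * y0 * tt 1) := by group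
    rw [← MulAut.mul_apply, ← map_mul, h2, map_mul, MulAut.mul_apply, h1]
  let f : C × C → fx σ y0 := fun p => ⟨p.1 * σ (tt 1) p.2, by
    change σ y0 (_ * _) = _
    rw [map_mul, hy1 _ p.1.2, hy2 _ p.2.2]⟩
  have hf : Function.Injective f := by
    rintro ⟨p, q⟩ ⟨p', q'⟩ he
    have h1 : (p : V) * σ (tt 1) q = p' * σ (tt 1) q' := congrArg Subtype.val he
    have h2 : (p : V) * (p' : V)⁻¹ = σ (tt 1) ((q' : V) * (q : V)⁻¹) := by
      rw [map_mul, map_inv, ← div_eq_mul_inv, ← div_eq_mul_inv, div_eq_div_iff_mul_eq_mul, h1, mul_comm]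
    have h3 := hC1 _ (mul_mem p.2 (inv_mem p'.2)) _ (mul_mem q'.2 (inv_mem q.2)) h2
    have h4 : (p : V) = p' := by rwa [mul_inv_eq_one] at h3
    have h5 : (q' : V) = q := by
      rw [h3] at h2
      have := (σ (tt 1)).injective (h2.symm.trans (map_one _).symm)
      rwa [mul_inv_eq_one] at this
    rw [Prod.mk.injEq]
    exact ⟨Subtype.ext h4, Subtype.ext h5.symm⟩
  have h4 := Nat.card_le_card_of_injective f hf
  rw [Nat.card_prod] at h4
  have h5 : fx σ y0 ≠ ⊤ := by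
    intro ht
    apply y0_ne
    apply h.inj
    rw [map_one]
    ext u
    have : u ∈ fx σ y0 := by rw [ht]; exact mem_top u
    exact this
  have h6 := (fx σ y0).card_mul_index
  rw [h.card] at h6
  have h7 : (fx σ y0).index ≠ 1 := fun h8 => h5 (Subgroup.index_eq_one.1 h8)
  have h8 : (fx σ y0).index ≠ 0 := Subgroup.index_ne_zero_of_finite
  have h9 : 2 ≤ (fx σ y0).index := by omega
  have h10 : 3 * 3 ≤ Nat.card C * Nat.card C := Nat.mul_le_mul h3 h3
  have h11 : Nat.card (fx σ y0) * 2 ≤ 16 := by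
    rw [← h6]
    exact Nat.mul_le_mul_left _ h9
  omega

/-- **the five vectors** -/
theorem exists_vc : ∃ z, Vc σ z := by
  obtain ⟨z0, hz1, hz0, hz⟩ := h.exists_z
  have hst : ∀ g : Al, (g : Equiv.Perm (Fin 5)) 0 = 0 → σ g z0 = z0 := fun g hg => h.stab hz0 hz hg
  let z : Fin 5 → V := fun i => σ (tt i) z0
  have hact : ∀ (g : Al) i, σ g (z i) = z ((g : Equiv.Perm (Fin 5)) i) := by
    intro g i
    have h1 : σ ((tt ((g : Equiv.Perm (Fin 5)) i))⁻¹ * g * tt i) z0 = z0 := by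
      apply hst
      change (T ((g : Equiv.Perm (Fin 5)) i))⁻¹ ((g : Equiv.Perm (Fin 5)) (T i 0)) = 0
      rw [T_zero, Equiv.Perm.inv_eq_iff_eq, T_zero]
    have h2 : g * tt i = tt ((g : Equiv.Perm (Fin 5)) i) * ((tt ((g : Equiv.Perm (Fin 5)) i))⁻¹ * g * tt i) := by
      group
    change σ g (σ (tt i) z0) = σ (tt _) z0
    rw [← MulAut.mul_apply, ← map_mul, h2, map_mul, MulAut.mul_apply, h1]
  have hne1 : ∀ i, z i ≠ 1 := by
    intro i hi
    apply hz1
    exact (σ (tt i)).injective (hi.trans (map_one _).symm)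
  have hne : ∀ i j, i ≠ j → z i ≠ z j := by
    intro i j hij he
    obtain ⟨g, hg, hi, hj⟩ := two i j hij
    have h1 := congrArg (σ ⟨g, Equiv.Perm.mem_alternatingGroup.2 hg⟩) he
    rw [hact, hact] at h1
    change z (g i) = z (g j) at h1
    rw [hi, hj] at h1
    apply hne1 0
    apply h.ck
    apply fix_all
    · intro g hg
      rw [hact, hg]
    · intro g hg
      rw [h1, hact, hg]
  have hprod : z 0 * z 1 * z 2 * z 3 * z 4 = 1 := by
    have e : z 0 * z 1 * z 2 * z 3 * z 4 = ∏ i, z i := by rw [Fin.prod_univ_five]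
    rw [e]
    apply h.ck
    intro g
    rw [map_prod, Finset.prod_congr rfl (fun i _ => hact g i)]
    exact Fintype.prod_equiv (g : Equiv.Perm (Fin 5)) _ _ (fun _ => rfl)
  -- generation
  let w0 : (Fin 5 → ZMod 2) → V := fun v => ∏ i, z i ^ (v i).val
  have hadd : ∀ v v', w0 (v + v') = w0 v * w0 v' := by
    intro v v'
    change (∏ i, z i ^ ((v + v') i).val) = (∏ i, z i ^ (v i).val) * ∏ i, z i ^ (v' i).val
    rw [← Finset.prod_mul_distrib]
    refine Finset.prod_congr rfl fun i _ => ?_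
    rw [Pi.add_apply]
    exact pow_val (h.sq _) _ _
  have hdl : ∀ i, w0 (dl i) = z i := by
    intro i
    change (∏ k, z k ^ ((dl i) k).val) = z i
    rw [Finset.prod_eq_single i]
    · have h1 : dl i i = 1 := Pi.single_eq_same i 1
      rw [h1]
      change z i ^ 1 = z i
      exact pow_one _
    · intro k _ hk
      have h1 : dl i k = 0 := Pi.single_eq_of_ne hk 1
      rw [h1]
      change z k ^ 0 = 1
      exact pow_zero _
    · intro hi
      exact absurd (Finset.mem_univ i) hi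
  have hone : w0 1 = 1 := by
    change (∏ i, z i ^ ((1 : Fin 5 → ZMod 2) i).val) = 1
    rw [Fin.prod_univ_five]
    change z 0 ^ 1 * z 1 ^ 1 * z 2 ^ 1 * z 3 ^ 1 * z 4 ^ 1 = 1
    simpa only [pow_one] using hprod
  have hall' : ∀ v, ∃ u, v = w0 u := by
    let W : Subgroup V :=
      { carrier := {v | ∃ u, v = w0 u}
        mul_mem' := by
          rintro _ _ ⟨u, rfl⟩ ⟨u', rfl⟩
          exact ⟨u + u', (hadd u u').symm⟩
        one_mem' := ⟨1, hone.symm⟩
        inv_mem' := by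
          rintro _ ⟨u, rfl⟩
          exact ⟨u, inv_eq_self h.sq _⟩ }
    have hW : W = ⊤ := by
      apply h.irr
      · rintro g _ ⟨u, rfl⟩
        refine ⟨fun i => u ((g : Equiv.Perm (Fin 5))⁻¹ i), ?_⟩
        change σ g (∏ i, z i ^ (u i).val) = ∏ i, z i ^ (u ((g : Equiv.Perm (Fin 5))⁻¹ i)).val
        rw [map_prod]
        refine Fintype.prod_equiv (g : Equiv.Perm (Fin 5)) _ _ (fun i => ?_)
        have e6 : (g : Equiv.Perm (Fin 5))⁻¹ ((g : Equiv.Perm (Fin 5)) i) = i := Equiv.symm_apply_apply _ i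
        rw [map_pow, hact, e6]
      · intro hb
        apply hne1 0
        have : z 0 ∈ W := ⟨dl 0, (hdl 0).symm⟩
        rwa [hb, mem_bot] at this
    intro v
    have : v ∈ W := by rw [hW]; exact mem_top v
    exact this
  have hcls : ∀ u : Fin 5 → ZMod 2, ∃ i j k l, u = dl i + dl j + (dl k + dl l) ∨
      u + 1 = dl i + dl j + (dl k + dl l) := by
    intro u
    have h5 : ∀ u : Fin 5 → ZMod 2, u 0 + u 1 + u 2 + u 3 + u 4 = 0 ∨
        (u + 1) 0 + (u + 1) 1 + (u + 1) 2 + (u + 1) 3 + (u + 1) 4 = 0 := by decide +kernel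
    rcases h5 u with h6 | h6
    · obtain ⟨i, j, k, l, h7⟩ := Cfsg.Agent.OddCyclic.Om5.vec_four _ h6
      exact ⟨i, j, k, l, Or.inl h7⟩
    · obtain ⟨i, j, k, l, h7⟩ := Cfsg.Agent.OddCyclic.Om5.vec_four _ h6
      exact ⟨i, j, k, l, Or.inr h7⟩
  refine ⟨z, hact, hne1, hne, hprod, ?_, ?_⟩
  · intro v
    obtain ⟨u, rfl⟩ := hall' v
    obtain ⟨i, j, k, l, h6 | h6⟩ := hcls u
    · refine ⟨i, j, k, l, ?_⟩
      rw [h6, hadd, hadd, hadd, hdl, hdl, hdl, hdl]
    · refine ⟨i, j, k, l, ?_⟩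
      have h7 : w0 u = w0 (u + 1) := by rw [hadd, hone, mul_one]
      rw [h7, h6, hadd, hadd, hadd, hdl, hdl, hdl, hdl]
  · intro v hv a b ha hb ha1 hb1 hab hc hav hbv
    obtain ⟨g, hg, hga⟩ := inv a.1 (Equiv.Perm.mem_alternatingGroup.1 a.2) (congrArg Subtype.val ha)
      (fun h => ha1 (Subtype.ext h))
    set g' : Al := ⟨g, Equiv.Perm.mem_alternatingGroup.2 hg⟩ with hg'
    have hga' : g' * a * g'⁻¹ = a0 := Subtype.ext hga
    set b' := g' * b * g'⁻¹ with hb'
    have e1 : b' * b' = 1 := by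
      rw [hb']
      calc g' * b * g'⁻¹ * (g' * b * g'⁻¹) = g' * (b * b) * g'⁻¹ := by group
        _ = 1 := by rw [hb, mul_one, mul_inv_cancel]
    have e2 : b' ≠ 1 := by
      intro h1
      apply hb1
      rw [hb', mul_inv_eq_one] at h1
      exact mul_left_cancel (a := g') (by rw [h1, mul_one])
    have e3 : b' ≠ a0 := by
      intro h1
      apply hab
      rw [← hga', hb'] at h1
      exact (mul_left_cancel (mul_right_cancel h1)).symm
    have e4 : b' * a0 = a0 * b' := by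
      rw [← hga', hb']
      calc g' * b * g'⁻¹ * (g' * a * g'⁻¹) = g' * (b * a) * g'⁻¹ := by group
        _ = g' * (a * b) * g'⁻¹ := by rw [hc]
        _ = _ := by group
    have hconj : ∀ c : Al, σ c v = v → σ (g' * c * g'⁻¹) (σ g' v) = σ g' v := by
      intro c hc
      rw [← MulAut.mul_apply, ← map_mul, inv_mul_cancel_right, map_mul, MulAut.mul_apply, hc]
    have f0 : σ a0 (σ g' v) = σ g' v := by rw [← hga']; exact hconj a hav
    have fb : σ b' (σ g' v) = σ g' v := hconj b hbv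
    have f1 : σ a1 (σ g' v) = σ g' v := by
      rcases cent b'.1 (Equiv.Perm.mem_alternatingGroup.1 b'.2) (congrArg Subtype.val e1)
        (fun h => e2 (Subtype.ext h)) (fun h => e3 (Subtype.ext h)) (congrArg Subtype.val e4) with h1 | h1
      · have : b' = a1 := Subtype.ext h1
        rwa [this] at fb
      · have h2 : b' = a0 * a1 := Subtype.ext h1
        have h3 : a0 * b' = a1 := by rw [h2, ← mul_assoc, a0_sq, one_mul]
        rw [← h3, map_mul, MulAut.mul_apply, fb, f0]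
    have h1 : σ g' v ≠ 1 := fun h1 => hv ((σ g').injective (h1.trans (map_one _).symm))
    have h2 : σ g' v = z0 := h.uniq0 h1 hz1 f0 f1 hz0 hz
    have h3 : z0 = z 0 := by
      change z0 = σ (tt 0) z0
      have : tt 0 = 1 := Subtype.ext rfl
      rw [this, map_one]; rfl
    refine ⟨(g : Equiv.Perm (Fin 5))⁻¹ 0, ?_⟩
    have h4 : v = σ g'⁻¹ (σ g' v) := by
      rw [← MulAut.mul_apply, ← map_mul, inv_mul_cancel, map_one]; rfl
    rw [h4, h2, h3, hact]
    rfl

end Hy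

end Cfsg.Agent.OddCyclic.Bc.OneB5Mod
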