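import Cfsg.Agent.OddCyclic.Bc.OneSeven
import Cfsg.Agent.OddCyclic.Bc.OneB5Mod

/-!
# S0342, leaf [Bc], (iv) of (1.6) of blueprints/S0342-Bc-helper108.md: the outcome (B5)

`Nff`, `K ⊴ H`, `K = Alt(5)`, `E ≤ K` of order 2: then `H = K = Alt(5)` and `V = O₄⁻(2)` (`exists_b5`);
impossible if `S = T` (`false_of_top`).
-/

set_option autoImplicit false
set_option linter.unusedSectionVars false

namespace Cfsg.Agent.OddCyclic.Bc.OneB5

open Subgroup Cfsg Cfsg.Agent.OddCyclic.T1Defs Cfsg.Agent.OddCyclic.T1Module Cfsg.Agent.OddCyclic.FFBasic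
  Cfsg.Agent.OddCyclic.FFRed Cfsg.Agent.OddCyclic.FFSl2 Cfsg.Agent.OddCyclic.Bc.NF
  Cfsg.Agent.OddCyclic.Bc.OneSeven Cfsg.Agent.OddCyclic.Bc.OneB5Mod

variable {H V : Type*} [Group H] [CommGroup V] {ρ : H →* MulAut V} {S O T E K : Subgroup H} {x : H}

/-- **(B5)**: `Alt(5)` on `O₄⁻(2)` -/
structure B5 (ρ : H →* MulAut V) (φ : H ≃* alternatingGroup (Fin 5)) (z : Fin 5 → V) : Prop where
  card : Nat.card V = 16
  act : ∀ h i, ρ h (z i) = z ((φ h : Equiv.Perm (Fin 5)) i)
  ne_one : ∀ i, z i ≠ 1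
  ne : ∀ i j, i ≠ j → z i ≠ z j
  prod : z 0 * z 1 * z 2 * z 3 * z 4 = 1
  all : ∀ v, ∃ i j k l, v = z i * z j * (z k * z l)

theorem exists_e (hc : Nat.card E = 2) : ∃ e ∈ E, e ≠ 1 ∧ ∀ a ∈ E, a = 1 ∨ a = e := by
  have hf : Finite E := Nat.finite_of_card_ne_zero (by rw [hc]; norm_num)
  obtain ⟨a, b, hab, hu⟩ := Nat.card_eq_two_iff.1 hc
  have h1 : (1 : E) = a ∨ (1 : E) = b := by
    have : (1 : E) ∈ ({a, b} : Set E) := by rw [hu]; trivial
    simpa using this
  have hall : ∀ c : E, c = a ∨ c = b := by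
    intro c
    have : c ∈ ({a, b} : Set E) := by rw [hu]; trivial
    simpa using this
  rcases h1 with h1 | h1
  · refine ⟨b, b.2, fun h => hab ?_, ?_⟩
    · rw [← h1]; exact (Subtype.ext h).symm
    · intro c hc
      rcases hall ⟨c, hc⟩ with h2 | h2
      · left; rw [← h1] at h2; exact congrArg Subtype.val h2
      · right; exact congrArg Subtype.val h2
  · refine ⟨a, a.2, fun h => hab ?_, ?_⟩
    · rw [← h1]; exact Subtype.ext h
    · intro c hc
      rcases hall ⟨c, hc⟩ with h2 | h2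
      · right; exact congrArg Subtype.val h2
      · left; rw [← h1] at h2; exact congrArg Subtype.val h2

/-- the representation of `Alt(5)` -/
def sg (ρ : H →* MulAut V) (ψ : K ≃* Al) : Al →* MulAut V := ρ.comp (K.subtype.comp ψ.symm.toMonoidHom)

theorem sg_apply (ψ : K ≃* Al) (g : Al) (v : V) : sg ρ ψ g v = ρ (ψ.symm g : K) v := rfl

theorem fx_sg (ψ : K ≃* Al) (g : Al) : fx (sg ρ ψ) g = fx ρ ((ψ.symm g : K) : H) := rfl

theorem exists_hy [Finite H] [Finite V] (h : Nff ρ S O T E x) (k : OutB E x K) (ψ₀ : K ≃* Al) (hE : E ≤ K)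
    (hc : Nat.card E = 2) : ∃ ψ : K ≃* Al, Hy (sg ρ ψ) := by
  have := k.norm
  obtain ⟨e, heE, he1, hall⟩ := exists_e hc
  have hesq : e * e = 1 := h.E_sq e heE
  set ek : K := ⟨e, hE heE⟩ with hek
  have hek1 : ek ≠ 1 := fun h => he1 (congrArg Subtype.val h)
  have heksq : ek * ek = 1 := Subtype.ext hesq
  obtain ⟨g, hg, hga⟩ := OneB5Perm.inv (ψ₀ ek).1 (Equiv.Perm.mem_alternatingGroup.1 (ψ₀ ek).2)
    (congrArg Subtype.val (show ψ₀ ek * ψ₀ ek = 1 by rw [← map_mul, heksq, map_one]))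
    (fun h => hek1 (ψ₀.injective ((Subtype.ext h).trans (map_one ψ₀).symm)))
  set g' : Al := ⟨g, Equiv.Perm.mem_alternatingGroup.2 hg⟩ with hg'
  let ψ : K ≃* Al := ψ₀.trans (MulAut.conj g')
  have hψe : ψ ek = a0 := Subtype.ext hga
  have hψs : ψ.symm a0 = ek := by rw [← hψe, MulEquiv.symm_apply_apply]
  have hinj : Function.Injective (sg ρ ψ) := by
    intro a b hab
    have h1 : ρ (ψ.symm a : K) = ρ (ψ.symm b : K) := hab
    exact ψ.symm.injective (Subtype.ext (h.inj h1))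
  have hCS : CS ρ E = fx ρ e := by
    ext v
    constructor
    · intro hv; exact hv e heE
    · intro hv a ha
      rcases hall a ha with rfl | rfl
      · rw [map_one]; rfl
      · exact hv
  have hind : (fx ρ e).index = 4 := by rw [← hCS, h.ind, hc]
  have hi0 : (fx (sg ρ ψ) a0).index = 4 := by rw [fx_sg, hψs]; exact hind
  have h4 : ∀ a : Al, a * a = 1 → (fx (sg ρ ψ) a).index ≤ 4 := by
    intro a ha
    by_cases ha1 : a = 1
    · rw [ha1, fx_one, index_top]; norm_num
    · obtain ⟨c, hc, hca⟩ := OneB5Perm.inv a.1 (Equiv.Perm.mem_alternatingGroup.1 a.2)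
        (congrArg Subtype.val ha) (fun h => ha1 (Subtype.ext h))
      set c' : Al := ⟨c, Equiv.Perm.mem_alternatingGroup.2 hc⟩ with hc'
      have hca' : c' * a * c'⁻¹ = a0 := Subtype.ext hca
      rw [← index_fx_conj (ρ := sg ρ ψ) c' a, hca', hi0]
  have hKbot : CS ρ K = ⊥ := h.ck K k.norm k.simple k.mem
  have hck : ∀ v, (∀ g, sg ρ ψ g v = v) → v = 1 := by
    intro v hv
    have : v ∈ CS ρ K := by
      intro c hc
      have := hv (ψ ⟨c, hc⟩)
      rw [sg_apply, MulEquiv.symm_apply_apply] at this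
      exact this
    rwa [hKbot, mem_bot] at this
  have hG : ∀ W : Subgroup V, (∀ g v, sg ρ ψ g v * v⁻¹ ∈ W) → W = ⊤ := by
    intro W hW
    refine comm_top h hKbot ?_
    intro c hc v
    have := hW (ψ ⟨c, hc⟩) v
    rw [sg_apply, MulEquiv.symm_apply_apply] at this
    exact this
  have : Nontrivial V := by
    obtain ⟨v, hv⟩ := h.ne h.x_ne
    exact ⟨⟨_, _, hv⟩⟩
  refine ⟨ψ, h.sq, hinj, a5_card h.sq hck hG h4, hck, fun W hW hne => a5_irred h.sq hck hG h4 hW hne, ?_⟩
  -- `three`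
  intro v hv0 hv1
  set y : H := ((ψ.symm y0 : K) : H) with hy
  have hyo : orderOf y = 3 := by
    rw [hy, Subgroup.orderOf_coe, MulEquiv.orderOf_eq, y0_order]
  refine h.three y hyo (fx (sg ρ ψ) a0 ⊓ fx (sg ρ ψ) a1) ?_ ?_ v ⟨hv0, hv1⟩
  · rw [hCS]
    intro w hw
    have : w ∈ fx (sg ρ ψ) a0 := hw.1
    rw [fx_sg, hψs] at this
    exact this
  · intro w hw
    have e1 : a0 * y0 = y0 * (a0 * a1) := by
      have h1 : y0⁻¹ * a0 * y0 = a0 * a1 := Subtype.ext OneB5Perm.Y0_A0
      rw [← h1]; group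
    have e2 : a1 * y0 = y0 * a0 := by
      have h1 : y0⁻¹ * a1 * y0 = a0 := Subtype.ext OneB5Perm.Y0_A1
      rw [← h1]; group
    have hw0 : sg ρ ψ a0 w = w := hw.1
    have hw1 : sg ρ ψ a1 w = w := hw.2
    constructor
    · change sg ρ ψ a0 (sg ρ ψ y0 w) = sg ρ ψ y0 w
      rw [← MulAut.mul_apply, ← map_mul, e1, map_mul, MulAut.mul_apply, map_mul, MulAut.mul_apply, hw1, hw0]
    · change sg ρ ψ a1 (sg ρ ψ y0 w) = sg ρ ψ y0 w
      rw [← MulAut.mul_apply, ← map_mul, e2, map_mul, MulAut.mul_apply, hw0]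

/-- **(iv)**: the outcome (B5) -/
theorem exists_b5 [Finite H] [Finite V] (h : Nff ρ S O T E x) (k : OutB E x K)
    (ψ₀ : K ≃* alternatingGroup (Fin 5)) (hE : E ≤ K) (hc : Nat.card E = 2) :
    ∃ (φ : H ≃* alternatingGroup (Fin 5)) (z : Fin 5 → V), B5 ρ φ z := by
  have := k.norm
  obtain ⟨ψ, hy⟩ := exists_hy h k ψ₀ hE hc
  obtain ⟨z, hz⟩ := hy.exists_vc
  have hKact : ∀ (c : K) i, ρ (c : H) (z i) = z ((ψ c : Equiv.Perm (Fin 5)) i) := by
    intro c i
    have := hz.act (ψ c) i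
    rwa [sg_apply, MulEquiv.symm_apply_apply] at this
  -- `H` permutes the vectors
  have hH : ∀ (c : H) i, ∃ j, ρ c (z i) = z j := by
    intro c i
    let κ : Al → Al := fun a => ψ ⟨c * (ψ.symm a : K) * c⁻¹, k.norm.conj_mem _ (ψ.symm a).2 c⟩
    have hκs : ∀ a, ((ψ.symm (κ a) : K) : H) = c * (ψ.symm a : K) * c⁻¹ := by
      intro a
      change ((ψ.symm (ψ _) : K) : H) = _
      rw [MulEquiv.symm_apply_apply]
    have hκm : ∀ a b, κ (a * b) = κ a * κ b := by
      intro a b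
      apply ψ.symm.injective
      apply Subtype.ext
      rw [map_mul, Subgroup.coe_mul, hκs, hκs, hκs, map_mul, Subgroup.coe_mul]
      group
    have hκ1 : κ 1 = 1 := by
      apply ψ.symm.injective
      apply Subtype.ext
      rw [hκs, map_one, Subgroup.coe_one, mul_one, mul_inv_cancel]
    have hκi : Function.Injective κ := by
      intro a b hab
      have h1 := congrArg (fun t => ((ψ.symm t : K) : H)) hab
      simp only [hκs] at h1
      exact ψ.symm.injective (Subtype.ext (mul_left_cancel (mul_right_cancel h1)))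
    have hκf : ∀ a v, sg ρ ψ a v = v → sg ρ ψ (κ a) (ρ c v) = ρ c v := by
      intro a v hv
      rw [sg_apply] at hv ⊢
      rw [hκs, ← MulAut.mul_apply, ← map_mul, inv_mul_cancel_right, map_mul, MulAut.mul_apply, hv]
    -- a four-group fixing `z i`
    let b0 : Al := tt i * a0 * (tt i)⁻¹
    let b1 : Al := tt i * a1 * (tt i)⁻¹
    have hfix : ∀ a : Al, (a : Equiv.Perm (Fin 5)) 0 = 0 → sg ρ ψ (tt i * a * (tt i)⁻¹) (z i) = z i := by
      intro a ha
      rw [hz.act]
      congr 1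
      change OneB5Perm.T i ((a : Equiv.Perm (Fin 5)) ((OneB5Perm.T i)⁻¹ i)) = i
      have : (OneB5Perm.T i)⁻¹ i = 0 := by
        rw [Equiv.Perm.inv_eq_iff_eq, OneB5Perm.T_zero]
      rw [this, ha, OneB5Perm.T_zero]
    have ha1 : a1 ≠ 1 := fun h => (show OneB5Perm.A1 ≠ 1 by decide +kernel) (congrArg Subtype.val h)
    have ha01 : a0 ≠ a1 := fun h => (show OneB5Perm.A0 ≠ OneB5Perm.A1 by decide +kernel) (congrArg Subtype.val h)
    have hcs : ∀ a : Al, a * a = 1 → tt i * a * (tt i)⁻¹ * (tt i * a * (tt i)⁻¹) = 1 := by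
      intro a ha
      calc _ = tt i * (a * a) * (tt i)⁻¹ := by group
        _ = 1 := by rw [ha, mul_one, mul_inv_cancel]
    have hcn : ∀ a : Al, a ≠ 1 → tt i * a * (tt i)⁻¹ ≠ 1 := by
      intro a ha h1
      apply ha
      rw [mul_inv_eq_one] at h1
      exact mul_left_cancel (a := tt i) (by rw [h1, mul_one])
    have hκn : ∀ a, a ≠ 1 → κ a ≠ 1 := fun a ha h1 => ha (hκi (h1.trans hκ1.symm))
    obtain ⟨j, hj⟩ := hz.uniq (ρ c (z i))
      (fun h1 => hz.ne_one i ((ρ c).injective (h1.trans (map_one _).symm))) (κ b0) (κ b1)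
      (by rw [← hκm, hcs a0 a0_sq, hκ1]) (by rw [← hκm, hcs a1 a1_sq, hκ1])
      (hκn _ (hcn _ a0_ne)) (hκn _ (hcn _ ha1))
      (fun h1 => ha01 (mul_left_cancel (mul_right_cancel (hκi h1))))
      (by
        rw [← hκm, ← hκm]
        congr 1
        calc tt i * a0 * (tt i)⁻¹ * (tt i * a1 * (tt i)⁻¹) = tt i * (a0 * a1) * (tt i)⁻¹ := by group
          _ = tt i * (a1 * a0) * (tt i)⁻¹ := by rw [a_comm]
          _ = tt i * a1 * (tt i)⁻¹ * (tt i * a0 * (tt i)⁻¹) := by group)
      (hκf _ _ (hfix a0 OneB5Perm.A0_zero)) (hκf _ _ (hfix a1 OneB5Perm.A1_zero))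
    exact ⟨j, hj⟩
  choose p hp using hH
  have zinj : Function.Injective z := fun i j hij => by
    by_contra hne
    exact hz.ne i j hne hij
  have hpm : ∀ a b i, p (a * b) i = p a (p b i) := by
    intro a b i
    apply zinj
    rw [← hp, ← hp, ← hp, map_mul, MulAut.mul_apply]
  have hp1 : ∀ i, p 1 i = i := by
    intro i
    apply zinj
    rw [← hp, map_one]; rfl
  let π : H →* Equiv.Perm (Fin 5) :=
    { toFun := fun a =>
        { toFun := p a
          invFun := p a⁻¹
          left_inv := fun i => by rw [← hpm, inv_mul_cancel, hp1]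
          right_inv := fun i => by rw [← hpm, mul_inv_cancel, hp1] }
      map_one' := Equiv.ext hp1
      map_mul' := fun a b => Equiv.ext (hpm a b) }
  have hπ : ∀ a i, ρ a (z i) = z (π a i) := hp
  have hπK : ∀ c : K, π c = ψ c := by
    intro c
    ext1 i
    apply zinj
    rw [← hπ, hKact]
  have hinj : Function.Injective π := by
    rw [injective_iff_map_eq_one]
    intro a ha
    apply h.inj
    rw [map_one]
    ext v
    obtain ⟨i, j, l, m, rfl⟩ := hz.all v
    have h1 : ∀ i, ρ a (z i) = z i := fun i => by rw [hπ, ha]; rfl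
    rw [map_mul, map_mul, map_mul, h1, h1, h1, h1]
    rfl
  -- no transposition
  have hsgn : ∀ a, π a ∈ alternatingGroup (Fin 5) := by
    intro a
    rw [Equiv.Perm.mem_alternatingGroup]
    rcases Int.units_eq_one_or (Equiv.Perm.sign (π a)) with h1 | h1
    · exact h1
    exfalso
    have hs : (π a)⁻¹ * Equiv.swap 0 1 ∈ alternatingGroup (Fin 5) := by
      rw [Equiv.Perm.mem_alternatingGroup, map_mul, map_inv, h1, Equiv.Perm.sign_swap (by decide)]
      rfl
    set b : H := a * ((ψ.symm ⟨_, hs⟩ : K) : H) with hb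
    have hπb : π b = Equiv.swap 0 1 := by
      rw [hb, map_mul, hπK, MulEquiv.apply_symm_apply]
      exact mul_inv_cancel_left _ _
    have hbsq : b * b = 1 := by
      apply hinj
      rw [map_mul, hπb, map_one, Equiv.swap_mul_self]
    have hb1 : b ≠ 1 := by
      intro h2
      rw [h2, map_one] at hπb
      exact (show (1 : Equiv.Perm (Fin 5)) ≠ Equiv.swap 0 1 by decide +kernel) hπb
    have hcm : ∀ i, cm ρ b (z i) ∈ zpowers (z 0 * z 1) := by
      intro i
      rw [cm_apply, hπ, hπb]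
      by_cases h0 : i = 0
      · subst h0
        rw [Equiv.swap_apply_left, inv_eq_self h.sq, mul_comm]
        exact mem_zpowers _
      by_cases h2 : i = 1
      · subst h2
        rw [Equiv.swap_apply_right, inv_eq_self h.sq]
        exact mem_zpowers _
      rw [Equiv.swap_apply_of_ne_of_ne h0 h2, mul_inv_cancel]
      exact one_mem _
    have hr : (cm ρ b).range ≤ zpowers (z 0 * z 1) := by
      rintro _ ⟨v, rfl⟩
      obtain ⟨i, j, l, m, rfl⟩ := hz.all v
      rw [map_mul, map_mul, map_mul]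
      exact mul_mem (mul_mem (hcm i) (hcm j)) (mul_mem (hcm l) (hcm m))
    have hi : (fx ρ b).index ≤ 2 := by
      rw [← card_range_cm]
      refine (Nat.card_le_card_of_injective _ (Subgroup.inclusion_injective hr)).trans ?_
      exact card_zpowers_le h.sq _
    have hA := h.nff (zpowers b) (by rw [Ne, zpowers_eq_bot]; exact hb1) (by
      intro c hc
      obtain ⟨n, rfl⟩ := mem_zpowers_iff.1 hc
      rw [← zpow_add, ← two_mul, zpow_mul, zpow_ofNat, pow_two, hbsq, one_zpow])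
    have hcard : Nat.card (zpowers b) = 2 := by
      rw [Nat.card_zpowers]
      exact orderOf_eq_prime (by rw [pow_two, hbsq]) hb1
    have hCS : (CS ρ (zpowers b)).index ≤ 2 := by
      refine le_trans (Nat.le_of_dvd (Nat.pos_of_ne_zero Subgroup.index_ne_zero_of_finite)
        (Subgroup.index_dvd_of_le ?_)) hi
      intro v hv c hc
      have : b ∈ stb ρ v := hv
      exact (zpowers_le.2 this) hc
    omega
  let φ₀ : H →* alternatingGroup (Fin 5) := π.codRestrict _ hsgn
  have hbij : Function.Bijective φ₀ := by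
    constructor
    · intro a b hab
      exact hinj (congrArg Subtype.val hab)
    · intro g
      refine ⟨((ψ.symm g : K) : H), Subtype.ext ?_⟩
      change π _ = _
      rw [hπK, MulEquiv.apply_symm_apply]
  refine ⟨MulEquiv.ofBijective φ₀ hbij, z, hy.card, ?_, hz.ne_one, hz.ne, hz.prod, hz.all⟩
  intro a i
  exact hπ a i

/-- `K = H` -/
theorem eq_top [Finite H] (φ : H ≃* alternatingGroup (Fin 5)) (ψ₀ : K ≃* alternatingGroup (Fin 5)) : K = ⊤ := by
  apply Subgroup.eq_top_of_card_eq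
  rw [Nat.card_congr ψ₀.toEquiv, Nat.card_congr φ.toEquiv]

/-- **(L2)**: (B5) does not occur if `T` is a Sylow 2-subgroup of `H` -/
theorem false_of_top [Finite H] [Finite V] (h : Nff ρ S O S E x) (k : OutB E x K)
    (ψ₀ : K ≃* alternatingGroup (Fin 5)) (hE : E ≤ K) (hc : Nat.card E = 2) (hO : O ⊓ K = ⊥) : False := by
  obtain ⟨φ, z, -⟩ := exists_b5 h k ψ₀ hE hc
  rw [eq_top φ ψ₀, inf_top_eq] at hO
  have h1 := h.rel
  rw [hO, relIndex_bot_left] at h1
  have h2 := S.card_mul_index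
  rw [h1, Nat.card_congr φ.toEquiv, nat_card_alternatingGroup, Nat.card_fin] at h2
  have h3 : S.index = 30 := by
    have : (Nat.factorial 5) / 2 = 60 := by decide
    omega
  exact h.S_syl ⟨15, h3⟩

end Cfsg.Agent.OddCyclic.Bc.OneB5
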