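import Cfsg.Agent.OddCyclic.Bc.NF
import Cfsg.Agent.OddCyclic.CompBasic
import Cfsg.Agent.OddCyclic.EN.S7Mod
import Cfsg.Agent.OddCyclic.EN.SevGrp
import Cfsg.Agent.OddCyclic.EmpC.L32

/-!
# S0342, leaf [Bc], (1.8) of blueprints/S0342-Bc-helper108.md: `K = L₃(2)` does not occur without FF-offenders

`false_of (h : Nff ρ S O T E x) (k : OutB E x K) (hc : Nat.card K = 168) : False`
-/

set_option autoImplicit false
set_option linter.unusedSectionVars false

namespace Cfsg.Agent.OddCyclic.Bc.OneL3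

open Subgroup
open Cfsg.Agent.OddCyclic.T1Defs Cfsg.Agent.OddCyclic.T1Module Cfsg.Agent.OddCyclic.FFBasic
  Cfsg.Agent.OddCyclic.FFRed Cfsg.Agent.OddCyclic.FFPsl Cfsg.Agent.OddCyclic.FFThree Cfsg.Agent.OddCyclic.FFSl2
  Cfsg.Agent.GH.L2Aut Cfsg.Agent.OddCyclic.Bc.NF
open Cfsg.Agent.OddCyclic.EmpC (exists_gen_three exists_fixed)
open scoped Pointwise

section abs

variable {L : Type*} [Group L] [Finite L] {V : Type*} [CommGroup V] [Finite V] {σ : L →* MulAut V}

/-- the module for `L₃(2)`: no fixed points, no FF-offenders -/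
structure MK (σ : L →* MulAut V) : Prop extends Mod σ where
  simp : IsSimpleGroup L
  top : CS σ (⊤ : Subgroup L) = ⊥
  nff : ∀ A : Subgroup L, A ≠ ⊥ → (∀ a ∈ A, a * a = 1) → 2 * Nat.card A ≤ (CS σ A).index
  eq3 : ∀ y z : L, orderOf y = 3 → orderOf z = 3 → (fx σ y).index = (fx σ z).index

namespace MK

variable (h : MK σ)
include h

theorem card_nor (T : Sylow 2 L) {A : Subgroup L} (hA : IsFour A) (hAT : A ≤ T) {y : L} (hy : orderOf y = 3)
    (hyN : y ∈ normalizer (A : Set L)) : Nat.card (normalizer (A : Set L)) = 24 := by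
  have hs := h.simp
  have h8 : 8 ∣ Nat.card (normalizer (A : Set L)) := by
    have h2 := Subgroup.card_dvd_of_le (sylow_le_normalizer h.l32 T hA hAT)
    change Nat.card T ∣ _ at h2
    rwa [card_sylow h.l32 T] at h2
  have h3 : 3 ∣ Nat.card (normalizer (A : Set L)) := by
    rw [← hy, ← Subgroup.orderOf_mk y hyN]
    exact orderOf_dvd_natCard _
  obtain ⟨k, hk⟩ := Nat.Coprime.mul_dvd_of_dvd_of_dvd (by norm_num : Nat.Coprime 8 3) h8 h3
  have hL : Nat.card (normalizer (A : Set L)) ∣ 168 := by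
    rw [← h.l32.card]; exact Subgroup.card_subgroup_dvd_card _
  obtain ⟨j, hj⟩ := hL
  have hkj : k * j = 7 := by
    rw [hk] at hj
    have h1 : 24 * (k * j) = 24 * 7 := by
      calc 24 * (k * j) = 8 * 3 * k * j := by ring
        _ = 24 * 7 := by rw [← hj]
    exact Nat.eq_of_mul_eq_mul_left (by norm_num) h1
  rcases (Nat.dvd_prime (by norm_num)).1 ⟨j, hkj.symm⟩ with rfl | rfl
  · omega
  · exfalso
    have htop : normalizer (A : Set L) = ⊤ := by
      apply Subgroup.eq_top_of_card_eq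
      rw [hk, h.l32.card]
    have hn : A.Normal := normalizer_eq_top_iff.1 htop
    rcases hs.eq_bot_or_eq_top_of_normal A hn with h1 | h1
    · have := hA.card
      rw [h1, card_bot] at this
      omega
    · have := hA.card
      rw [h1, card_top, h.l32.card] at this
      omega

theorem nor_le (T : Sylow 2 L) {A : Subgroup L} (hA : IsFour A) (hAT : A ≤ T) {M : Subgroup L}
    (hTM : (T : Subgroup L) ≤ M) {y : L} (hy : orderOf y = 3) (hyN : y ∈ normalizer (A : Set L)) (hyM : y ∈ M) :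
    normalizer (A : Set L) ≤ M := by
  have h24 := h.card_nor T hA hAT hy hyN
  have h8 : 8 ∣ Nat.card (M ⊓ normalizer (A : Set L) : Subgroup L) := by
    have h2 := Subgroup.card_dvd_of_le (le_inf hTM (sylow_le_normalizer h.l32 T hA hAT))
    change Nat.card T ∣ _ at h2
    rwa [card_sylow h.l32 T] at h2
  have h3 : 3 ∣ Nat.card (M ⊓ normalizer (A : Set L) : Subgroup L) := by
    have h4 : y ∈ M ⊓ normalizer (A : Set L) := ⟨hyM, hyN⟩
    rw [← hy, ← Subgroup.orderOf_mk y h4]
    exact orderOf_dvd_natCard _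
  have h4 := Nat.Coprime.mul_dvd_of_dvd_of_dvd (by norm_num : Nat.Coprime 8 3) h8 h3
  have h5 : M ⊓ normalizer (A : Set L) = normalizer (A : Set L) := by
    apply Subgroup.eq_of_le_of_card_ge inf_le_right
    rw [h24]
    exact Nat.le_of_dvd Nat.card_pos h4
  rw [← h5]
  exact inf_le_left

theorem exists_w (T : Sylow 2 L) : ∃ w : V, w ≠ 1 ∧ w ∈ CS σ (T : Subgroup L) := by
  obtain ⟨w, -, h1, h2⟩ := exists_fixed (ρ := σ) h.sq T.isPGroup' (W := ⊤) (fun _ _ _ _ => mem_top _) (by
    intro h1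
    obtain ⟨a, b, hf⟩ := h.l32.four
    obtain ⟨v, hv⟩ := h.faith a hf.a1
    apply hv
    have h2 : ∀ u : V, u = 1 := fun u => by
      have : u ∈ (⊤ : Subgroup V) := mem_top u
      rwa [h1, mem_bot] at this
    rw [h2 (σ a v), h2 v])
  exact ⟨w, h1, h2⟩

theorem not_fixed {A B : Subgroup L} (hg : normalizer (A : Set L) ⊔ normalizer (B : Set L) = ⊤) {w : V} (hw : w ≠ 1)
    (h1 : normalizer (A : Set L) ≤ stb σ w) (h2 : normalizer (B : Set L) ≤ stb σ w) : False := by
  apply hw
  rw [← mem_bot, ← h.top, mem_CS_iff, ← hg]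
  exact sup_le h1 h2

/-- `|E| = 2` -/
theorem one {e : L} (he1 : e ≠ 1) (he : e * e = 1)
    (three : ∀ y, orderOf y = 3 → ∀ F : Subgroup V, F ≤ fx σ e → (∀ v ∈ F, σ y v ∈ F) → ∀ v ∈ F, σ y v = v) : False := by
  obtain ⟨a₀, b₀, hf₀⟩ := h.l32.four
  have hp : IsPGroup 2 hf₀.sub := IsPGroup.of_card (n := 2) (by rw [card_sub hf₀]; norm_num)
  obtain ⟨T, hT⟩ := hp.exists_le_sylow
  obtain ⟨z, a, b, hza, hzb, hAeq, hBT, -, -, -, -, hgen⟩ := exists_other h.l32 T (isFour_sub hf₀) hT
  rw [hAeq] at hgen hT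
  obtain ⟨g, hg⟩ := h.l32.conj e z he1 he hza.a1 hza.aa
  have three' : ∀ y, orderOf y = 3 → ∀ F : Subgroup V, F ≤ fx σ z → (∀ v ∈ F, σ y v ∈ F) → ∀ v ∈ F, σ y v = v := by
    intro y hy F hF hinv v hv
    have hm : ∀ (x : L) (u : V), σ g (σ (g⁻¹ * x * g) u) = σ x (σ g u) := by
      intro x u
      rw [← MulAut.mul_apply, ← MulAut.mul_apply, ← map_mul, ← map_mul]
      congr 2; group
    have hgg : ∀ u : V, σ g (σ g⁻¹ u) = u := by
      intro u
      rw [← MulAut.mul_apply, ← map_mul, mul_inv_cancel, map_one]; rfl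
    have hinj : Function.Injective (σ g) := (σ g).injective
    have h1 := three (g⁻¹ * y * g) (by
      have : orderOf (g⁻¹ * y * g) = orderOf y := by
        have := MulEquiv.orderOf_eq (MulAut.conj g⁻¹) y
        rwa [MulAut.conj_apply, inv_inv] at this
      rw [this, hy]) (F.comap (σ g : V ≃* V).toMonoidHom) ?_ ?_ (σ g⁻¹ v) (by
        show σ g (σ g⁻¹ v) ∈ F
        rw [hgg]; exact hv)
    · have h2 := congrArg (σ g) h1
      rwa [hm, hgg] at h2
    · intro u hu
      have h2 : σ z (σ g u) = σ g u := hF hu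
      apply hinj
      rw [← hg, ← hm] at h2
      have e1 : g⁻¹ * (g * e * g⁻¹) * g = e := by group
      rwa [e1] at h2
    · intro u hu
      show σ g (σ (g⁻¹ * y * g) u) ∈ F
      rw [hm]
      exact hinv _ hu
  obtain ⟨w, hw1, hw⟩ := h.exists_w T
  have key : ∀ C : Subgroup L, IsFour C → C ≤ T → z ∈ C → normalizer (C : Set L) ≤ stb σ w := by
    intro C hC hCT hzC
    obtain ⟨s, hs, t, ht, hst, hmem⟩ := hC.exists_four
    obtain ⟨y, hyN, hy3, hy1, -⟩ := fuse_mem h.l32 hst hmem
    have hyo : orderOf y = 3 := by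
      have : Fact (Nat.Prime 3) := ⟨Nat.prime_three⟩
      refine orderOf_eq_prime (by rw [pow_succ, pow_two]; exact hy3) ?_
      rintro rfl
      rw [one_mul, inv_one, mul_one] at hy1
      exact hst.ne hy1
    refine h.nor_le T hC hCT (mem_CS_iff.1 hw) hyo hyN ?_
    exact three' y hyo (CS σ C) (CS_le_fx hzC) (fun v hv => CS_stable hyN hv) w (CS_anti hCT hw)
  exact h.not_fixed hgen hw1 (key _ (isFour_sub hza) hT (Or.inr (Or.inl rfl)))
    (key _ (isFour_sub hzb) hBT (Or.inr (Or.inl rfl)))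

/-- `|E| = 4` -/
theorem two {A : Subgroup L} (hA : IsFour A) (hi : (CS σ A).index = 8)
    (three : ∀ y, orderOf y = 3 → ∀ F : Subgroup V, F ≤ CS σ A → (∀ v ∈ F, σ y v ∈ F) → ∀ v ∈ F, σ y v = v) :
    False := by
  have hp : IsPGroup 2 A := IsPGroup.of_card (n := 2) (by rw [hA.card]; norm_num)
  obtain ⟨T, hAT⟩ := hp.exists_le_sylow
  obtain ⟨s, hs, t, ht, hst, hmem⟩ := hA.exists_four
  obtain ⟨y, hyN, hy3, hy1, -⟩ := fuse_mem h.l32 hst hmem
  have hyo : orderOf y = 3 := by
    have : Fact (Nat.Prime 3) := ⟨Nat.prime_three⟩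
    refine orderOf_eq_prime (by rw [pow_succ, pow_two]; exact hy3) ?_
    rintro rfl
    rw [one_mul, inv_one, mul_one] at hy1
    exact hst.ne hy1
  have hy1' : y ≠ 1 := by
    rintro rfl
    rw [orderOf_one] at hyo
    norm_num at hyo
  -- `|V : C_V(y)| = 4`
  have hle : CS σ A ≤ fx σ y := fun v hv => three y hyo _ le_rfl (fun u hu => CS_stable hyN hu) v hv
  have hi4 : (fx σ y).index ≤ 4 := by
    have h1 := index_le_of_le hle
    rw [hi] at h1
    obtain ⟨d, -, h2, h3⟩ := prim (ρ := σ) h.sq Nat.prime_three (by norm_num) hyo (h.faith y hy1')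
    rw [h2] at h1 ⊢
    have hd : d ≤ 3 := by
      have : (2 : ℕ) ^ d ≤ 2 ^ 3 := by simpa using h1
      exact (Nat.pow_le_pow_iff_right (by norm_num)).1 this
    have hd' : d = 0 ∨ d = 1 ∨ d = 2 ∨ d = 3 := by omega
    rcases hd' with rfl | rfl | rfl | rfl
    · norm_num
    · exact absurd h3 (by norm_num)
    · norm_num
    · exact absurd h3 (by norm_num)
  -- `|V| ≤ 16`
  have h16 : Nat.card V ≤ 16 := by
    have : Fact (Nat.Prime 7) := ⟨by norm_num⟩
    have hs' := h.simp
    obtain ⟨e⟩ := Cfsg.Agent.S0495.result (G := L) h.l32.card (F := ZMod 7) (ZMod.card 7)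
    obtain ⟨z, z', hz, hz', hg⟩ := exists_gen_three
      (Cfsg.Agent.GH.L2Aut.Rep.ofEquiv (F := ZMod 7) COneSeven.two_ne e) (by simp) hs'
    have h1 := Subgroup.index_inf_le (H := fx σ z) (K := fx σ z')
    rw [← h.toMod.CS_top_eq hg, h.top, index_bot, h.eq3 z y hz hyo, h.eq3 z' y hz' hyo] at h1
    exact h1.trans (Nat.mul_le_mul hi4 hi4)
  obtain ⟨w, hw1, hw⟩ := h.exists_w T
  have key : ∀ C : Subgroup L, IsFour C → C ≤ T → normalizer (C : Set L) ≤ stb σ w := by
    intro C hC hCT n hn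
    have h8 : 8 ≤ (CS σ C).index := by
      have h1 := h.nff C (by
        intro h2
        have h3 := hC.card
        rw [h2, card_bot] at h3
        omega) hC.sq
      rw [hC.card] at h1
      exact h1
    have h2 := (CS σ C).card_mul_index
    have hwC : w ∈ CS σ C := CS_anti hCT hw
    have hnw : σ n w ∈ CS σ C := CS_stable hn hwC
    have hc2 : Nat.card (CS σ C) ≤ 2 := by
      by_contra hcon
      have h3 : 3 * 8 ≤ Nat.card (CS σ C) * (CS σ C).index := Nat.mul_le_mul (by omega) h8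
      omega
    -- the subgroup has only the elements `1` and `w`
    have hall : ∀ u ∈ CS σ C, u = 1 ∨ u = w := by
      intro u hu
      by_contra hcon2
      push Not at hcon2
      have h1 : ({1, w, u} : Set V) ⊆ CS σ C := by
        rintro u' (rfl | rfl | rfl)
        · exact one_mem _
        · exact hwC
        · exact hu
      have h2 : ({1, w, u} : Set V).ncard = 3 := by
        rw [Set.ncard_eq_three]
        exact ⟨1, w, u, hw1.symm, hcon2.1.symm, hcon2.2.symm, rfl⟩
      have h3 := Set.ncard_le_ncard h1 (Set.toFinite _)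
      rw [h2] at h3
      have h4 : (CS σ C : Set V).ncard = Nat.card (CS σ C) := (Nat.card_coe_set_eq _).symm
      omega
    show σ n w = w
    rcases hall _ hnw with h3 | h3
    · exfalso
      apply hw1
      apply (σ n).injective
      rw [h3, map_one]
    · exact h3
  obtain ⟨z, a, b, hza, hzb, hAeq, hBT, -, -, -, -, hgen⟩ := exists_other h.l32 T hA hAT
  exact h.not_fixed hgen hw1 (key A hA hAT) (key _ (isFour_sub hzb) hBT)

end MK

end abs

section main

variable {H : Type*} [Group H] [Finite H] {V : Type*} [CommGroup V] [Finite V] {ρ : H →* MulAut V}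
  {S O T E : Subgroup H} {x : H} {K : Subgroup H}

theorem mk (h : Nff ρ S O T E x) (k : OutB E x K) (hc : Nat.card K = 168) : MK (ρ.comp K.subtype) := by
  refine ⟨⟨COneSeven.l32 k.simple hc, h.sq, fun y hy => ?_⟩, k.simple, ?_, fun A hA hA2 => ?_, fun y z hy hz => ?_⟩
  · exact h.ne (k := (y : H)) (fun h1 => hy (Subtype.ext h1))
  · rw [eq_bot_iff, ← h.ck K k.norm k.simple k.mem]
    exact fun v hv k' hk => hv ⟨k', hk⟩ (mem_top _)
  · have h1 := h.nff2 (A := A.map K.subtype) (by
      intro h2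
      rw [Subgroup.map_eq_bot_iff_of_injective _ K.subtype_injective] at h2
      exact hA h2) (by
      rintro _ ⟨a, ha, rfl⟩
      exact congrArg Subtype.val (hA2 a ha))
    rw [Subgroup.card_map_of_injective K.subtype_injective] at h1
    have h2 : CS ρ (A.map K.subtype) = CS (ρ.comp K.subtype) A := by
      apply le_antisymm
      · exact fun v hv a ha => hv _ ⟨a, ha, rfl⟩
      · rintro v hv _ ⟨a, ha, rfl⟩
        exact hv a ha
    rw [h2] at h1
    exact h1
  · exact index_eq_of_orderOf ρ h.cyc Nat.prime_three (by norm_num) (y := (y : H)) (z := (z : H))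
      (by rw [Subgroup.orderOf_coe]; exact hy) (by rw [Subgroup.orderOf_coe]; exact hz)

/-- `E ≤ K` -/
theorem E_le_K (h : Nff ρ S O T E x) (k : OutB E x K) (hc : Nat.card K = 168) : E ≤ K ∧ Nat.card E ≤ 4 := by
  have hKn := k.norm
  have hKs := k.simple
  set X : Subgroup H := K ⊔ E with hX
  have hKX : K ≤ X := le_sup_left
  have hEX : E ≤ X := le_sup_right
  set K' : Subgroup X := K.subgroupOf X with hK'
  have hK'n : K'.Normal := hKn.subgroupOf X
  have eK : K' ≃* K := Subgroup.subgroupOfEquivOfLe hKX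
  have hK's : IsSimpleGroup K' := eK.isSimpleGroup
  have hK'c : Nat.card K' = 168 := by rw [Nat.card_congr eK.toEquiv, hc]
  have hcent : centralizer (K' : Set X) = ⊥ := by
    rw [eq_bot_iff]
    rintro ⟨c, hcX⟩ hcC
    rw [mem_bot]
    apply Subtype.ext
    show c = 1
    have hcC' : ∀ l ∈ K, l * c = c * l := by
      intro l hl
      have := mem_centralizer_iff.1 hcC ⟨l, hKX hl⟩ hl
      exact congrArg Subtype.val this
    have h1 : c ∈ (K : Set H) * (E : Set H) := by
      rw [← Subgroup.normal_mul]; exact hcX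
    obtain ⟨l, hl, e, he, rfl⟩ := h1
    have h2 : e = l⁻¹ := by
      refine k.inn e he l⁻¹ (inv_mem hl) ?_
      intro m hm
      have h3 : m * (l * e) = l * e * m := hcC' m hm
      have h4 : e * m = l⁻¹ * m * l * e := by
        calc e * m = l⁻¹ * (l * e * m) := by group
          _ = l⁻¹ * (m * (l * e)) := by rw [h3]
          _ = _ := by group
      rw [h4, inv_inv]; group
    show l * e = 1
    rw [h2, mul_inv_cancel]
  have hsv : EN.SevGrp.Sv K' := ⟨hK'n, hK's, hK'c, hcent⟩
  have hamb : EN.S7Grp.Amb K' := ⟨hK'n, hK's, hK'c, hcent⟩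
  have hE4 : Nat.card E ≤ 4 := by
    have h1 := hsv.card_le_four (A := E.subgroupOf X) (fun a ha => Subtype.ext (h.E_sq _ ha))
    rwa [Nat.card_congr (Subgroup.subgroupOfEquivOfLe hEX).toEquiv] at h1
  refine ⟨?_, hE4⟩
  by_contra hEK
  obtain ⟨b, hb, hbK⟩ : ∃ b ∈ E, b ∉ K := by
    by_contra hcon
    push Not at hcon
    exact hEK hcon
  have hb1 : b ≠ 1 := fun h1 => hbK (h1 ▸ one_mem K)
  have hmk := mk h k hc
  have hne : ∃ j ∈ K', ∃ v, (ρ.comp X.subtype) j v ≠ v := by
    obtain ⟨a, b, hf⟩ := hmk.l32.four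
    refine ⟨⟨a, hKX a.2⟩, a.2, ?_⟩
    exact h.ne (k := (a : H)) (fun h1 => hf.a1 (Subtype.ext h1))
  have h5 : 4 < (fx ρ b).index := EN.S7Mod.outer (ρ := ρ.comp X.subtype) hamb h.sq hne (i := ⟨b, hEX hb⟩) hbK
    (Subtype.ext (h.E_sq b hb))
  obtain ⟨d, hd⟩ := index_pow h.sq (fx ρ b)
  have h8 : 8 ≤ (fx ρ b).index := by
    rw [hd] at h5 ⊢
    have h6 : 3 ≤ d := by
      by_contra hcon
      have h7 := Nat.pow_le_pow_right (n := 2) (by norm_num) (show d ≤ 2 by omega)
      omega
    calc 8 = 2 ^ 3 := by norm_num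
      _ ≤ 2 ^ d := Nat.pow_le_pow_right (by norm_num) h6
  have hle : CS ρ E ≤ fx ρ b := CS_le_fx hb
  have h9 := index_le_of_le hle
  have h10 := h.ind
  have h11 : Nat.card E = 4 := by omega
  have hH : CS ρ E = fx ρ b := eq_of_index_le hle (by omega)
  obtain ⟨t, ht, ht1, htb⟩ : ∃ t ∈ E, t ≠ 1 ∧ b ≠ t := by
    by_contra hcon
    push Not at hcon
    have h12 : Nat.card E ≤ 2 := card_le_two_of (B := E) (a := b) (fun t ht => by
      by_cases h1 : t = 1
      · exact Or.inl h1
      · exact Or.inr (hcon t ht h1).symm)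
    omega
  obtain ⟨u, huK, hu, hub, -⟩ := hsv.outer_three (s := ⟨b, hEX hb⟩) (t := ⟨t, hEX ht⟩) hbK
    ⟨Subtype.ext (h.E_sq b hb), Subtype.ext (h.E_sq t ht), fun h1 => hb1 (congrArg Subtype.val h1),
      fun h1 => ht1 (congrArg Subtype.val h1), fun h1 => htb (congrArg Subtype.val h1),
      Subtype.ext (h.comm hb ht)⟩
  have hub' : b * (u : H) = u * b := mul_inv_eq_iff_eq_mul.1 (congrArg Subtype.val hub)
  have hu3 : orderOf (u : H) = 3 := by rw [Subgroup.orderOf_coe]; exact hu
  have hu1 : (u : H) ≠ 1 := by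
    intro h1
    rw [h1, orderOf_one] at hu3
    norm_num at hu3
  have hact : ∀ v ∈ fx ρ b, ρ (u : H) v ∈ fx ρ b := by
    intro w hw
    show ρ b (ρ (u : H) w) = ρ (u : H) w
    rw [← MulAut.mul_apply, ← map_mul, hub', map_mul, MulAut.mul_apply, show ρ b w = w from hw]
  -- `u` centralises `C_V(b)`, against `(A × B)`
  have hp : IsPGroup 2 (zpowers b) := by
    rw [IsPGroup.iff_card]
    refine ⟨1, ?_⟩
    rw [Nat.card_zpowers, pow_one]
    exact orderOf_eq_prime (by rw [pow_two]; exact h.E_sq b hb) hb1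
  obtain ⟨v, hv, hyv⟩ := axb (ρ := ρ) h.sq hp (y := (u : H)) (by rw [hu3]; decide) (by
    intro a ha
    obtain ⟨n, rfl⟩ := ha
    exact (Commute.zpow_left (show Commute b (u : H) from hub') n).eq) (h.ne hu1)
  apply hyv
  exact h.three u hu3 (fx ρ b) (by rw [hH]) hact v (hv b (mem_zpowers b))

/-- **(1.8)** -/
theorem false_of (h : Nff ρ S O T E x) (k : OutB E x K) (hc : Nat.card K = 168) : False := by
  obtain ⟨hEK, hE4⟩ := E_le_K h k hc
  have hm := mk h k hc
  have hE2 : ∃ n, Nat.card E = 2 ^ n := by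
    have : Fact (Nat.Prime 2) := ⟨Nat.prime_two⟩
    have h1 : IsPGroup 2 E := h.T_two.to_le h.E_le
    exact IsPGroup.iff_card.1 h1
  obtain ⟨e, he, heO⟩ := h.exists_e
  have he1 : e ≠ 1 := fun h1 => heO (h1 ▸ one_mem O)
  have hEne : E ≠ ⊥ := fun h1 => he1 (by rwa [h1, mem_bot] at he)
  have hE24 : Nat.card E = 2 ∨ Nat.card E = 4 := by
    obtain ⟨n, hn⟩ := hE2
    have h1 : n ≤ 2 := by
      have : (2 : ℕ) ^ n ≤ 2 ^ 2 := by rw [← hn]; exact hE4
      exact (Nat.pow_le_pow_iff_right (by norm_num)).1 this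
    have h2 : n ≠ 0 := by
      rintro rfl
      rw [pow_zero, Subgroup.card_eq_one] at hn
      exact hEne hn
    have h3 : n = 1 ∨ n = 2 := by omega
    rcases h3 with rfl | rfl
    · left; rw [hn]; norm_num
    · right; rw [hn]; norm_num
  have hCS : CS (ρ.comp K.subtype) (E.subgroupOf K) = CS ρ E := by
    apply le_antisymm
    · exact fun v hv a ha => hv ⟨a, hEK ha⟩ ha
    · exact fun v hv a ha => hv a ha
  have hthree : ∀ y : K, orderOf y = 3 → ∀ F : Subgroup V, F ≤ CS ρ E → (∀ v ∈ F, (ρ.comp K.subtype) y v ∈ F) →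
      ∀ v ∈ F, (ρ.comp K.subtype) y v = v := fun y hy F hF hinv =>
    h.three y (by rw [Subgroup.orderOf_coe]; exact hy) F hF hinv
  rcases hE24 with h2 | h4
  · -- `|E| = 2`
    have h3 : CS ρ E = fx (ρ.comp K.subtype) ⟨e, hEK he⟩ := by
      apply le_antisymm
      · exact fun v hv => hv e he
      · intro v hv b hb
        by_cases hbe : b = 1
        · rw [hbe, map_one]; rfl
        · have hbe' : b = e := by
            have h5 : ({1, e, b} : Set H) ⊆ E := by
              rintro u' (rfl | rfl | rfl)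
              · exact one_mem _
              · exact he
              · exact hb
            by_contra hne
            have h6 : ({1, e, b} : Set H).ncard = 3 := by
              rw [Set.ncard_eq_three]
              exact ⟨1, e, b, he1.symm, fun h => hbe h.symm, fun h => hne h.symm, rfl⟩
            have h7 := Set.ncard_le_ncard h5 (Set.toFinite _)
            rw [h6] at h7
            have h8 : (E : Set H).ncard = Nat.card E := (Nat.card_coe_set_eq _).symm
            omega
          rw [hbe']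
          exact hv
    rw [h3] at hthree
    exact hm.one (e := ⟨e, hEK he⟩) (fun h1 => he1 (congrArg Subtype.val h1)) (Subtype.ext (h.E_sq e he)) hthree
  · have h5 := h.ind
    rw [h4] at h5
    rw [← hCS] at hthree h5
    refine hm.two (A := E.subgroupOf K) ⟨?_, fun a ha => Subtype.ext (h.E_sq _ ha)⟩ h5 hthree
    rw [← h4, ← Subgroup.card_map_of_injective (K := E.subgroupOf K) K.subtype_injective, subgroupOf_map_subtype,
      inf_eq_left.2 hEK]

/-- the form given by `OneFive.cases` -/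
theorem false_of_equiv (h : Nff ρ S O T E x) (k : OutB E x K) {F : Type*} [Field F] [Fintype F]
    (hF : Fintype.card F = 7) (e : K ≃* Matrix.ProjectiveSpecialLinearGroup (Fin 2) F) : False := by
  have h2 : (2 : F) ≠ 0 := Cfsg.Agent.GH.L2Aut.two_ne_zero_of_odd (by rw [hF]; decide)
  have h7 : Nat.card F = 7 := by rw [Nat.card_eq_fintype_card, hF]
  exact false_of h k (l32_of (Cfsg.Agent.GH.L2Aut.Rep.ofEquiv h2 e) h7).card

end main

end Cfsg.Agent.OddCyclic.Bc.OneL3
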