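import Cfsg.Agent.OddCyclic.Bc.NF
import Cfsg.Agent.OddCyclic.FFJ1
import Cfsg.Agent.OddCyclic.FFPsl
import Cfsg.Agent.OddCyclic.Eq.ModP
import Cfsg.Agent.OddCyclic.Om5BPsl

/-!
# S0342, leaf [Bc], (1.5) of blueprints/S0342-Bc-helper108.md: `J₁` and `L₂(p)`, `p ≥ 11`, do not occur

* `janko` : `K` with the local structure of `J₁` is impossible;
* `psl` : `K = PSL₂(p)`, `p ≥ 11`, is impossible;
* `cases` : so `K ≅ PSL₂(5)`, `PSL₂(7)` or `PSL₂(2^f)`.
-/

set_option autoImplicit false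
set_option linter.unusedSectionVars false

namespace Cfsg.Agent.OddCyclic.Bc.OneFive

open Matrix Cfsg.Agent.Lib.SL2Mat Cfsg.Agent.OddCyclic.T1Module Cfsg.Agent.OddCyclic.FFBasic
  Cfsg.Agent.OddCyclic.FFRed Cfsg.Agent.OddCyclic.FFSl2 Cfsg.Agent.OddCyclic.FFPslMat Cfsg.Agent.OddCyclic.PGLTorus
  Cfsg.Agent.OddCyclic.T1Defs Cfsg.Agent.OddCyclic.Bc.NF
open Cfsg.Agent.SporRec.J1.Defs (Local)

variable {H : Type*} [Group H] [Finite H] {V : Type*} [CommGroup V] [Finite V] {ρ : H →* MulAut V}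
  {S O T E : Subgroup H} {x : H} {K : Subgroup H}

omit [Finite V] in
theorem ne_bot (h : Nff ρ S O T E x) : E ≠ ⊥ := by
  rintro rfl
  obtain ⟨e, he, heO⟩ := h.exists_e
  rw [Subgroup.mem_bot] at he
  exact heO (he ▸ one_mem O)

theorem index_le (h : Nff ρ S O T E x) {a : H} (ha : a ∈ E) : (fx ρ a).index ≤ 2 * Nat.card E := by
  rw [← h.ind]
  exact index_le_of_le (CS_le_fx ha)

/-- `E` acts faithfully on `K`, inner automorphisms being induced by elements of `K` -/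
structure Ek (E K : Subgroup H) : Prop where
  sq : ∀ a ∈ E, a * a = 1
  faith : ∀ a ∈ E, (∀ k ∈ K, a * k = k * a) → a = 1
  inn : ∀ a ∈ E, ∀ g ∈ K, (∀ k ∈ K, a * k * a⁻¹ = g * k * g⁻¹) → a = g

omit [Finite V] [Finite H] in
theorem ek (h : Nff ρ S O T E x) (k : OutB E x K) : Ek E K := ⟨h.E_sq, k.faith, k.inn⟩

/-! ### `J₁` -/

section janko

variable [K.Normal]

omit [Finite H] in
theorem Ek.le_of_local [Finite H] (k : Ek E K) (hJ : Local K) {j : K} (hj : orderOf j = 2) : E ≤ K := by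
  intro a ha
  obtain ⟨g, hg⟩ := JInner.inner hJ j hj (MulAut.conjNormal a : MulAut K)
  have h1 : a = (g : H) := by
    refine k.inn a ha g g.2 ?_
    intro l hl
    have h1 := congrArg Subtype.val (hg ⟨l, hl⟩)
    rw [MulAut.conjNormal_apply] at h1
    exact h1
  rw [h1]
  exact g.2

theorem Ek.card_le_eight (k : Ek E K) (hJ : Local K) {j : K} (hj : orderOf j = 2) : Nat.card E ≤ 8 := by
  have : Fact (Nat.Prime 2) := ⟨Nat.prime_two⟩
  have h2 : IsPGroup 2 E := fun a => ⟨1, by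
    rw [pow_one, pow_two]; exact Subtype.ext (k.sq a a.2)⟩
  obtain ⟨n, hn⟩ := IsPGroup.iff_card.1 h2
  have h3 : Nat.card E ∣ Nat.card K := Subgroup.card_dvd_of_le (k.le_of_local hJ hj)
  have h4 : n ≤ 3 := by
    by_contra hlt
    apply hJ.two
    refine Dvd.dvd.trans ?_ h3
    rw [hn]
    exact pow_dvd_pow 2 (show 4 ≤ n by omega)
  rw [hn]
  exact Nat.pow_le_pow_right (by norm_num) h4

/-- **(1.5), `J₁`** -/
theorem janko (h : Nff ρ S O T E x) (k : OutB E x K) (hJ : Local K) {j : K} (hj : orderOf j = 2) : False := by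
  have hk := ek h k
  obtain ⟨⟨a, ha⟩, ha1'⟩ := Subgroup.ne_bot_iff_exists_ne_one.1 (ne_bot h)
  have ha1 : a ≠ 1 := fun h => ha1' (Subtype.ext h)
  have haL := hk.le_of_local hJ hj ha
  obtain ⟨w, y, hy, hw, hw1, hwy⟩ := FFJ1.exists_real hJ hj
  have hao : orderOf (⟨a, haL⟩ : K) = 2 :=
    JInner.two_of_sq (Subtype.ext (h.E_sq a ha)) fun h1 => ha1 (congrArg Subtype.val h1)
  obtain ⟨g, hg⟩ := hJ.conj _ _ hao (JInner.two_of_sq hw hw1)
  have hgw : (g : H) * a * (g : H)⁻¹ = (w : H) := congrArg Subtype.val hg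
  have hyH : orderOf (y : H) = 11 := by rw [Subgroup.orderOf_coe, hy]
  have hy1 : (y : H) ≠ 1 := by
    intro h1
    rw [h1, orderOf_one] at hyH
    omega
  have h1 : 2 ^ 5 ≤ (fx ρ (w : H)).index := by
    refine le_index (a := (w : H)) (y := (y : H)) h.sq (l := 11) (by norm_num) (by norm_num) hyH
      (h.ne hy1) ?_ FFJ1.ten_le
    exact congrArg Subtype.val hwy
  rw [← hgw, index_fx_conj] at h1
  have h2 := index_le h ha
  have h4 := hk.card_le_eight hJ hj
  omega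

end janko

/-! ### `L₂(p)` -/

section psl

variable [K.Normal] {F : Type*} [Field F] [Finite F] (R : Cfsg.Agent.GH.L2Aut.Rep F K)

local notation "ψ" => (MulAut.conjNormal (H := K))

theorem Ek.psi_ne (k : Ek E K) {a : H} (ha : a ∈ E) (ha1 : a ≠ 1) : ψ a ≠ 1 := by
  intro h1
  apply ha1
  apply k.faith a ha
  intro l hl
  have h2 := congrArg (fun α : MulAut K => ((α ⟨l, hl⟩ : K) : H)) h1
  simp only [MulAut.conjNormal_apply, MulAut.one_apply] at h2
  exact mul_inv_eq_iff_eq_mul.1 h2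

theorem Ek.psi_sq (k : Ek E K) {a : H} (ha : a ∈ E) : ψ a * ψ a = 1 := by
  rw [← map_mul, k.sq a ha, map_one]

/-- the matrix of `a ∈ E` -/
theorem Ek.exists_mat (k : Ek E K) (hF : (Nat.card F).Prime) {a : H} (ha : a ∈ E) (ha1 : a ≠ 1) :
    ∃ γ : GL (Fin 2) F, γ.1.trace = 0 ∧ R.gl γ = ψ a := by
  obtain ⟨γ, hγ⟩ := R.mem_PGL.1 (mem_PGL_of_prime R hF (ψ a))
  refine ⟨γ, ?_, hγ.symm⟩
  apply trace_of_sq R
  · rw [← hγ]; exact k.psi_ne ha ha1
  · rw [← hγ]; exact k.psi_sq ha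

/-- the matrices of two different elements are orthogonal -/
theorem Ek.orth (k : Ek E K) {a b : H} (ha : a ∈ E) (hb : b ∈ E) (hab : a * b ≠ 1) {γ δ : GL (Fin 2) F}
    (hγ : R.gl γ = ψ a) (hδ : R.gl δ = ψ b) : (γ.1 * δ.1).trace = 0 := by
  have h1 : R.gl (γ * δ) = ψ (a * b) := by rw [map_mul, map_mul, hγ, hδ]
  have h2 := trace_of_sq R (g := γ * δ) (by rw [h1]; exact k.psi_ne (mul_mem ha hb) hab)
    (by rw [h1]; exact k.psi_sq (mul_mem ha hb))
  exact h2

include R in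
theorem Ek.card_le_four (k : Ek E K) (hF : (Nat.card F).Prime) : Nat.card E ≤ 4 := by
  by_contra hcon
  push Not at hcon
  obtain ⟨a, ha, ha1, -, -, -⟩ := JInner.exists_notin E hcon 1 1 1 1
  obtain ⟨b, hb, hb1, hba, -, -⟩ := JInner.exists_notin E hcon 1 a 1 1
  obtain ⟨c, hc, hc1, hca, hcb, hcab⟩ := JInner.exists_notin E hcon 1 a b (a * b)
  have hinv : ∀ x ∈ E, x⁻¹ = x := fun x hx => inv_eq_of_mul_eq_one_left (k.sq x hx)
  have hne : ∀ x ∈ E, ∀ y ∈ E, x ≠ y → x * y ≠ 1 := by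
    intro x hx y hy hxy h1
    apply hxy
    rw [← hinv x hx]
    exact (eq_inv_of_mul_eq_one_right h1).symm ▸ rfl
  obtain ⟨γ, hγ0, hγ⟩ := k.exists_mat R hF ha ha1
  obtain ⟨δ, hδ0, hδ⟩ := k.exists_mat R hF hb hb1
  obtain ⟨ε, hε0, hε⟩ := k.exists_mat R hF hc hc1
  have h1 := k.orth R ha hb (hne a ha b hb hba.symm) hγ hδ
  have h2 := k.orth R ha hc (hne a ha c hc hca.symm) hγ hε
  have h3 := k.orth R hb hc (hne b hb c hc hcb.symm) hδ hε
  have h4 := k.orth R (mul_mem ha hb) hc (hne (a * b) (mul_mem ha hb) c hc hcab.symm)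
    (γ := γ * δ) (δ := ε) (by rw [map_mul, map_mul, hγ, hδ]) hε
  exact FFPslMat.no_three hγ0 hδ0 hε0 h1 h2 h3 h4 R.two

theorem Ek.mem_of_isSquare (k : Ek E K) {a : H} (ha : a ∈ E) {γ : GL (Fin 2) F} (hγ : R.gl γ = ψ a)
    (hs : IsSquare γ.1.det) : a ∈ K := by
  obtain ⟨y, hy⟩ := R.gl_mem_inn.2 hs
  have h2 : a = (y : H) := by
    apply k.inn a ha y y.2
    intro l hl
    rw [hγ] at hy
    have h1 := congrArg (fun α : MulAut K => ((α ⟨l, hl⟩ : K) : H)) hy
    simp only [MulAut.conjNormal_apply, MulAut.conj_apply] at h1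
    exact h1.symm
  rw [h2]
  exact y.2

/-- an inner involution of small index is impossible -/
theorem inner_psl (h : Nff ρ S O T E x) (k : Ek E K) (hF : (Nat.card F).Prime) (h11 : 11 ≤ Nat.card F)
    (R : Cfsg.Agent.GH.L2Aut.Rep F K) {a : H} (ha : a ∈ E) (ha1 : a ≠ 1) (haK : a ∈ K) : False := by
  have hi : (fx ρ a).index ≤ 8 := (index_le h ha).trans (by
    have := k.card_le_four R hF
    omega)
  refine Eq.ModP.false_of (ρ := ρ) R h.sq hF h11 (fun y _ hy1 => h.ne hy1) ?_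
  intro t ht htt ht1
  obtain ⟨g, hg⟩ := Cfsg.Agent.Lib.PSL2Torus.conj_inv_hom R.π R.two R.surj R.ker
    (t := (⟨a, haK⟩ : K)) (u := ⟨t, ht⟩) (fun h1 => ha1 (congrArg Subtype.val h1)) (Subtype.ext (h.E_sq a ha))
    (fun h1 => ht1 (congrArg Subtype.val h1)) (Subtype.ext htt)
  have hgt : (g : H) * a * (g : H)⁻¹ = t := congrArg Subtype.val hg
  rw [← hgt, index_fx_conj]
  exact hi

/-- an element of order 3 commuting with `a` if `3 det γ` is a square -/
theorem exists_comm (h3 : (3 : F) ≠ 0) {a : H} {γ : GL (Fin 2) F} (hγ0 : γ.1.trace = 0) (hγ : R.gl γ = ψ a)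
    (hs : IsSquare (3 * γ.1.det)) : ∃ y : H, orderOf y = 3 ∧ a * y = y * a := by
  have h2 := R.two
  have hd0 := FFPsl.det_ne γ
  obtain ⟨r, hr⟩ := hs
  set s : F := r / (2 * γ.1.det) with hsdef
  have hss : γ.1.det * (s * s) = 3 / 4 := by
    rw [hsdef]
    have h4 : (4 : F) ≠ 0 := by
      have : (4 : F) = 2 * 2 := by norm_num
      rw [this]; exact mul_ne_zero h2 h2
    field_simp
    linear_combination -4 * hr
  have hdet : ((1 / 2 : F) • (1 : Matrix (Fin 2) (Fin 2) F) + s • γ.1).det = 1 := by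
    rw [det_add_smul _ _ hγ0, hss]
    have h4 : (4 : F) ≠ 0 := by
      have : (4 : F) = 2 * 2 := by norm_num
      rw [this]; exact mul_ne_zero h2 h2
    field_simp
    ring
  let y : Matrix.SpecialLinearGroup (Fin 2) F := ⟨(1 / 2 : F) • (1 : Matrix (Fin 2) (Fin 2) F) + s • γ.1, hdet⟩
  have htr : ent y 0 0 + ent y 1 1 = 1 := by
    have h4 : γ.1 0 0 + γ.1 1 1 = 0 := by rw [← Matrix.trace_fin_two]; exact hγ0
    show ((1 / 2 : F) • (1 : Matrix (Fin 2) (Fin 2) F) + s • γ.1) 0 0 +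
      ((1 / 2 : F) • (1 : Matrix (Fin 2) (Fin 2) F) + s • γ.1) 1 1 = 1
    simp only [Matrix.add_apply, Matrix.smul_apply, Matrix.one_apply_eq, smul_eq_mul, mul_one]
    have h5 : (1 / 2 : F) + 1 / 2 = 1 := by field_simp; ring
    linear_combination s * h4 + h5
  refine ⟨((R.π y : K) : H), FFPsl.orderOf_three R h3 htr, ?_⟩
  have hfix : R.gl γ (R.π y) = R.π y := by
    rw [R.gl_apply]
    congr 1
    apply Subtype.ext
    rw [conjGL_val]
    show γ.1 * ((1 / 2 : F) • (1 : Matrix (Fin 2) (Fin 2) F) + s • γ.1) * γ⁻¹.1 =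
      (1 / 2 : F) • (1 : Matrix (Fin 2) (Fin 2) F) + s • γ.1
    have h5 : γ.1 * γ⁻¹.1 = 1 := by rw [← Units.val_mul, mul_inv_cancel]; rfl
    rw [Matrix.mul_add, Matrix.add_mul, Matrix.mul_smul, Matrix.mul_smul, Matrix.smul_mul, Matrix.smul_mul,
      Matrix.mul_one, h5, Matrix.mul_assoc, h5, Matrix.mul_one]
  rw [hγ] at hfix
  have h6 := FFPsl.conj_of_psi hfix
  exact mul_inv_eq_iff_eq_mul.1 h6

/-- **(1.5), `L₂(p)`, `p ≥ 11`** -/
theorem psl (h : Nff ρ S O T E x) (k : OutB E x K) (R : Cfsg.Agent.GH.L2Aut.Rep F K) (hF : (Nat.card F).Prime)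
    (h11 : 11 ≤ Nat.card F) : False := by
  have hk := ek h k
  have h3F : (3 : F) ≠ 0 := FFPsl.three_ne hF (by omega)
  obtain ⟨⟨e, he⟩, he1'⟩ := Subgroup.ne_bot_iff_exists_ne_one.1 (ne_bot h)
  have he1 : e ≠ 1 := fun h => he1' (Subtype.ext h)
  have hout : ∀ a ∈ E, a ≠ 1 → a ∉ K := fun a ha ha1 haK => inner_psl h hk hF h11 R ha ha1 haK
  obtain ⟨γ, hγ0, hγ⟩ := hk.exists_mat R hF he he1
  have hnd : ¬ IsSquare γ.1.det := fun hs => hout e he he1 (hk.mem_of_isSquare R he hγ hs)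
  -- `E = ⟨e⟩`
  have hE2 : ∀ b ∈ E, b = 1 ∨ b = e := by
    intro b hb
    by_contra hcon
    push Not at hcon
    obtain ⟨δ, hδ0, hδ⟩ := hk.exists_mat R hF hb hcon.1
    have h1 : ¬ IsSquare δ.1.det := fun hs => hout b hb hcon.1 (hk.mem_of_isSquare R hb hδ hs)
    have hab : e * b ≠ 1 := by
      intro h2
      apply hcon.2
      have h3 := eq_inv_of_mul_eq_one_right h2
      rw [h3]
      exact inv_eq_of_mul_eq_one_left (h.E_sq e he)
    apply hout (e * b) (mul_mem he hb) hab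
    refine hk.mem_of_isSquare R (mul_mem he hb) (γ := γ * δ) (by rw [map_mul, map_mul, hγ, hδ]) ?_
    have h3 : (γ * δ).1.det = γ.1.det * δ.1.det := by rw [Units.val_mul, Matrix.det_mul]
    rw [h3]
    exact Cfsg.Agent.GH.L2Aut.isSquare_mul_of_not hnd h1
  have hi4 : (fx ρ e).index ≤ 4 := (index_le h he).trans (by
    have := FFPsl.card_le_two_of hE2
    omega)
  obtain ⟨y, hyL, hy3, hay⟩ := FFPsl.exists_three R h3F hγ0 hγ
  have hiy : (fx ρ y).index ≤ 16 := (half' ρ (by rw [hy3]; decide) hay).trans (Nat.pow_le_pow_left hi4 2)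
  have hall : ∀ z : H, orderOf z = 3 → (fx ρ z).index ≤ 16 := fun z hz => by
    rw [← FFPsl.index_eq_of_orderOf ρ h.cyc Nat.prime_three (by norm_num) hy3 hz]; exact hiy
  -- a transvection is a product of two elements of order three
  have h2 := R.two
  let Z : Matrix.SpecialLinearGroup (Fin 2) F := Cfsg.Agent.Lib.SL2Mat.mk 0 (-(1 / 2)) 2 1 (by field_simp; ring)
  let Z' : Matrix.SpecialLinearGroup (Fin 2) F := Cfsg.Agent.Lib.SL2Mat.mk (-1) (-(3 / 2)) 2 2 (by field_simp; ring)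
  have hZ : orderOf ((R.π Z : K) : H) = 3 := FFPsl.orderOf_three R h3F (by
    change (0 : F) + 1 = 1
    ring)
  have hZ' : orderOf ((R.π Z' : K) : H) = 3 := FFPsl.orderOf_three R h3F (by
    change (-1 : F) + 2 = 1
    ring)
  have hu : ((R.π (up 1) : K) : H) = (R.π Z : K) * (R.π Z' : K) := by
    have h1 : R.π (up 1) = R.π Z * R.π Z' := by
      rw [← map_mul, R.π_eq_iff]
      right
      refine ext_ent ?_ ?_ ?_ ?_
      · change (1 : F) = - ent (Z * Z') 0 0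
        rw [ent_mul]
        change (1 : F) = - (0 * (-1) + (-(1 / 2)) * 2)
        field_simp; ring
      · change (1 : F) = - ent (Z * Z') 0 1
        rw [ent_mul]
        change (1 : F) = - (0 * (-(3 / 2)) + (-(1 / 2)) * 2)
        field_simp; ring
      · change (0 : F) = - ent (Z * Z') 1 0
        rw [ent_mul]
        change (0 : F) = - (2 * (-1) + 1 * 2)
        ring
      · change (1 : F) = - ent (Z * Z') 1 1
        rw [ent_mul]
        change (1 : F) = - (2 * (-(3 / 2)) + 1 * 2)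
        field_simp; ring
    rw [h1]; rfl
  have hiu : (fx ρ ((R.π (up 1) : K) : H)).index ≤ 2 ^ 8 := by
    rw [hu]
    calc _ ≤ _ := FFPsl.index_mul_le ρ _ _
      _ ≤ 16 * 16 := Nat.mul_le_mul (hall _ hZ) (hall _ hZ')
      _ = 2 ^ 8 := by norm_num
  have hou : orderOf ((R.π (up 1) : K) : H) = Nat.card F := FFPsl.orderOf_u R hF
  have hune : ((R.π (up 1) : K) : H) ≠ 1 := by
    intro h1
    rw [h1, orderOf_one] at hou
    omega
  obtain ⟨d, hd, hd1, hd2⟩ := prim (ρ := ρ) h.sq hF (by omega) hou (h.ne hune)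
  have hd8 : d ≤ 8 := by
    rw [hd1] at hiu
    exact (Nat.pow_le_pow_iff_right (by norm_num)).1 hiu
  have hp := Om5.primes_eight hF (by omega) hd hd8 hd2
  have h3ns : ¬ IsSquare (3 : F) := fun ⟨t, ht⟩ => Om5.not_square_three hp t ht.symm
  obtain ⟨y', hy3', hcomm⟩ := exists_comm R h3F hγ0 hγ (Cfsg.Agent.GH.L2Aut.isSquare_mul_of_not h3ns hnd)
  refine h.no_three hy3' ?_
  intro a ha
  rcases hE2 a ha with rfl | rfl
  · rw [one_mul, mul_one]
  · exact hcomm

end psl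

/-- **(1.5)** only `PSL₂(5)`, `PSL₂(7)` and `PSL₂(2^f)` are left -/
theorem cases (h : Nff ρ S O T E x) (k : OutB E x K) :
    (∃ (F : Type) (_ : Field F) (_ : Fintype F), (Fintype.card F = 5 ∨ Fintype.card F = 7) ∧
      Nonempty (K ≃* Matrix.ProjectiveSpecialLinearGroup (Fin 2) F)) ∨
    (∃ (F : Type) (_ : Field F) (_ : Fintype F) (f : ℕ), 2 ≤ f ∧ Fintype.card F = 2 ^ f ∧
      Nonempty (K ≃* Matrix.ProjectiveSpecialLinearGroup (Fin 2) F)) := by
  have hn := k.norm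
  rcases k.kz with ⟨F, iF, iT, hp, h5, ⟨e⟩⟩ | h1 | h1 | ⟨hJ, j, hj⟩
  · left
    refine ⟨F, iF, iT, ?_, ⟨e⟩⟩
    by_contra hcon
    push Not at hcon
    have hodd : Odd (Fintype.card F) := hp.odd_of_ne_two (by omega)
    have h11 : 11 ≤ Fintype.card F := by
      by_contra hlt
      push Not at hlt
      have h6 := hcon.1
      have h7 := hcon.2
      generalize Fintype.card F = n at *
      interval_cases n <;> first | omega | (exfalso; revert hp; norm_num)
    rw [← Nat.card_eq_fintype_card] at hp h11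
    exact psl h k (Cfsg.Agent.GH.L2Aut.Rep.ofEquiv (Cfsg.Agent.GH.L2Aut.two_ne_zero_of_odd hodd) e) hp h11
  · exact Or.inr h1
  · exact absurd h1 k.nsz
  · exact (janko h k hJ hj).elim

end Cfsg.Agent.OddCyclic.Bc.OneFive
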