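import Cfsg.Agent.OddCyclic.Bc.OneSixFive
import Cfsg.Agent.OddCyclic.Bc.OneFive
import Cfsg.Agent.OddCyclic.FFOuter
import Cfsg.Agent.OddCyclic.FFMain
import Cfsg.Agent.S0494

/-!
# S0342, leaf [Bc], (1.6) of blueprints/S0342-Bc-helper108.md: `SL₂(q)`, `q ≥ 4` even

`card_eq`: `q = 4`, `|E| = 2`, `E ≤ K`, `O ∩ K = 1`;
`cases`: in outcome (B) of (1.3) either `K ≅ PSL₂(7)`, or `K ≅ Alt(5)`, `|E| = 2`, `E ≤ K`, `O ∩ K = 1` (`Five`).
-/

set_option autoImplicit false
set_option linter.unusedSectionVars false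

namespace Cfsg.Agent.OddCyclic.Bc.OneSix

open Matrix Cfsg.Agent.OddCyclic.T1Module Cfsg.Agent.OddCyclic.T1Sl2 Cfsg.Agent.OddCyclic.FFBasic
  Cfsg.Agent.OddCyclic.FFRed Cfsg.Agent.OddCyclic.FFSl2 Cfsg.Agent.Lib.AutSL2 Cfsg.Agent.Lib.AutSL2Out
  Cfsg.Agent.OddCyclic.FFOuter Cfsg.Agent.OddCyclic.T1Defs Cfsg.Agent.OddCyclic.Bc.NF Cfsg.Agent.OddCyclic.Bc.OneFive
  Cfsg.Agent.Classification.QDW.TypeHom
open Cfsg.Agent.Lib.SL2Mat (fieldAut)

variable {H : Type*} [Group H] [Finite H] {V : Type*} [CommGroup V] [Finite V] {ρ : H →* MulAut V}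
  {S O T E : Subgroup H} {x : H} {K : Subgroup H} [K.Normal] {F : Type*} [Field F] [Fintype F] [CharP F 2]

/-! ### the action of `E` on `K` -/

section ek

variable (e : SpecialLinearGroup (Fin 2) F ≃* K) (k : Ek E K)

include e k

/-- elements of `E ∖ K` induce outer automorphisms -/
theorem typ_ne {a : H} (ha : a ∈ E) (haL : a ∉ K) : typ (ac e a) ≠ 1 := by
  intro h1
  obtain ⟨s, hs⟩ := (L2Model.inner_iff _).1 h1
  apply haL
  rw [← ac_coe e s] at hs
  rw [k.inn a ha (e s) (e s).2 ((ac_eq_iff e _ _).1 hs)]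
  exact (e s).2

theorem ac_sq {a : H} (ha : a ∈ E) : ac e a * ac e a = 1 := by rw [← map_mul, k.sq a ha, map_one]

theorem mul_mem_K {a b : H} (ha : a ∈ E) (haL : a ∉ K) (hb : b ∈ E) (hbL : b ∉ K) : a * b ∈ K := by
  by_contra hab
  have h1 := typ_ne e k ha haL
  have h2 := typ_ne e k hb hbL
  have h3 := typ_ne e k (mul_mem ha hb) hab
  apply h3
  have h4 : typ (ac e a) = typ (ac e b) := by
    refine L2Borel.ringAut_invol ?_ ?_ h1 h2
    · rw [← map_mul, ac_sq e k ha, map_one]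
    · rw [← map_mul, ac_sq e k hb, map_one]
  rw [map_mul, map_mul, ← h4, ← map_mul, ac_sq e k ha, map_one]

theorem relIndex_E (hAL : ¬ E ≤ K) : K.relIndex E = 2 := by
  obtain ⟨a, ha, haL⟩ := SetLike.not_le_iff_exists.1 hAL
  rw [Subgroup.relIndex, Subgroup.index_eq_two_iff]
  refine ⟨⟨a, ha⟩, fun b => ?_⟩
  rw [Subgroup.mem_subgroupOf, Subgroup.mem_subgroupOf]
  show Xor ((b : H) * a ∈ K) ((b : H) ∈ K)
  by_cases hb : (b : H) ∈ K
  · refine Or.inr ⟨hb, fun h1 => haL ?_⟩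
    have := mul_mem (inv_mem hb) h1
    rwa [inv_mul_cancel_left] at this
  · exact Or.inl ⟨mul_mem_K e k b.2 hb ha haL, hb⟩

theorem card_inf (hAL : ¬ E ≤ K) : 2 * Nat.card (E ⊓ K : Subgroup H) = Nat.card E := by
  have h1 := card_mul_relIndex (A := E ⊓ K) (B := E) inf_le_left
  rw [Subgroup.inf_relIndex_left, relIndex_E e k hAL] at h1
  rw [← h1, mul_comm]

theorem card_inf_le (hAL : ¬ E ≤ K) :
    ∃ q : ℕ, Fintype.card F = q ^ 2 ∧ Nat.card (E ⊓ K : Subgroup H) ≤ q := by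
  obtain ⟨a, ha, haL⟩ := SetLike.not_le_iff_exists.1 hAL
  obtain ⟨q, hq, hc⟩ := L2Model.card_fix (ac_sq e k ha) (typ_ne e k ha haL)
  have hcF : Nat.card F = Fintype.card F := Nat.card_eq_fintype_card
  rw [hcF] at hq hc
  refine ⟨q, hq, ?_⟩
  have hq0 : 0 < q := by
    rcases Nat.eq_zero_or_pos q with h0 | h0
    · rw [h0] at hq
      have := Fintype.card_pos (α := F)
      omega
    · exact h0
  have hcomm : ∀ b ∈ E, a * b = b * a := fun b hb => comm_of_sq k.sq ha hb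
  have h1 : Nat.card (E ⊓ K : Subgroup H) ∣ Nat.card (L2Model.fix (ac e a)) := by
    let f : (E ⊓ K : Subgroup H) →* L2Model.fix (ac e a) :=
      { toFun := fun x => ⟨e.symm ⟨x, x.2.2⟩, by
          rw [L2Model.mem_fix]
          apply e.injective
          apply Subtype.ext
          rw [e_ac, e.apply_symm_apply]
          show a * (x : H) * a⁻¹ = x
          rw [hcomm x x.2.1, mul_inv_cancel_right]⟩
        map_one' := Subtype.ext (map_one e.symm)
        map_mul' := fun x y => Subtype.ext (by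
          show e.symm _ = e.symm _ * e.symm _
          rw [← map_mul]; rfl) }
    have hf : Function.Injective f := by
      intro x y hxy
      have h2 := congrArg Subtype.val hxy
      have h3 := e.symm.injective h2
      exact Subtype.ext (congrArg (fun z : K => (z : H)) h3)
    rw [Nat.card_congr (MonoidHom.ofInjective hf).toEquiv]
    exact f.range.card_subgroup_dvd_card
  have hp : IsPGroup 2 (E ⊓ K : Subgroup H) := fun a => ⟨1, by
    rw [pow_one, pow_two]; exact Subtype.ext (k.sq a a.2.1)⟩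
  have : Fact (Nat.Prime 2) := ⟨Nat.prime_two⟩
  obtain ⟨m, hm⟩ := (IsPGroup.iff_card (p := 2)).1 hp
  rw [hm, hc] at h1
  rw [hm]
  apply Nat.le_of_dvd hq0
  refine Nat.Coprime.dvd_of_dvd_mul_right ?_ h1
  obtain ⟨n, hn, hF⟩ := card_pow F
  rw [hF]
  apply Nat.Coprime.pow_left
  rw [Nat.coprime_two_left]
  have h5 : Even (2 ^ n) := (Nat.even_pow' hn.ne').2 even_two
  have h6 : 0 < 2 ^ n := by positivity
  rcases h5 with ⟨r, hr⟩
  exact ⟨r - 1, by omega⟩

/-- the centraliser of an outer involution contains elements of order three -/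
theorem exists_three {a : H} (ha : a ∈ E) (haL : a ∉ K) : ∃ y : H, orderOf y = 3 ∧ a * y = y * a := by
  obtain ⟨q, hq, hc⟩ := L2Model.card_fix (ac_sq e k ha) (typ_ne e k ha haL)
  have h3 : 3 ∣ Nat.card (L2Model.fix (ac e a)) := by
    rw [hc, hq]
    have h0 : 0 < q := by
      rcases Nat.eq_zero_or_pos q with h0 | h0
      · exfalso
        rw [h0] at hq
        have : 0 < Nat.card F := Nat.card_pos
        omega
      · exact h0
    obtain ⟨r, rfl⟩ : ∃ r, q = r + 1 := ⟨q - 1, by omega⟩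
    have h1 : (r + 1) ^ 2 - 1 = r * (r + 2) := by
      have : (r + 1) ^ 2 = r * (r + 2) + 1 := by ring
      rw [this, Nat.add_sub_cancel]
    rw [h1]
    have h2 : r % 3 = 0 ∨ r % 3 = 1 ∨ r % 3 = 2 := by omega
    rcases h2 with h2 | h2 | h2
    · exact ((Nat.dvd_of_mod_eq_zero h2).mul_right _).mul_left _
    · exact ((show 3 ∣ r + 2 by omega).mul_left _).mul_left _
    · exact (show 3 ∣ r + 1 by omega).mul_right _
  have : Fact (Nat.Prime 3) := ⟨Nat.prime_three⟩
  obtain ⟨y, hy⟩ := exists_prime_orderOf_dvd_card' 3 h3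
  refine ⟨(e y : H), ?_, ?_⟩
  · rw [Subgroup.orderOf_coe, MulEquiv.orderOf_eq, Subgroup.orderOf_coe, hy]
  · have h1 : ac e a y = y := y.2
    have h2 := e_ac e a (y : SpecialLinearGroup (Fin 2) F)
    rw [h1] at h2
    exact (mul_inv_eq_iff_eq_mul.1 h2.symm)

end ek

/-! ### `O ∩ K ≠ 1` -/

section borel

/-- coordinates adapted to `O ∩ K ≠ 1` -/
theorem exists_e (hO : IsPGroup 2 O) (e : SpecialLinearGroup (Fin 2) F ≃* K) (hOK : O ⊓ K ≠ ⊥) :
    ∃ e' : SpecialLinearGroup (Fin 2) F ≃* K, (∀ s, (e' s : H) ∈ O → s ∈ T1Sl2.SU F) ∧ (∃ s, s ≠ 1 ∧ (e' s : H) ∈ O) ∧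
      ∀ a : H, typ (ac e' a) = typ (ac e a) := by
  have hinj : Function.Injective (K.subtype.comp e.toMonoidHom) := K.subtype_injective.comp e.injective
  obtain ⟨U, hU⟩ := (hO.comap_of_injective _ hinj).exists_le_sylow
  obtain ⟨g, hg⟩ := exists_smul_SU U
  refine ⟨(MulAut.conj g : MulAut (SpecialLinearGroup (Fin 2) F)).trans e, ?_, ?_, ?_⟩
  · intro s hs
    have h1 : g * s * g⁻¹ ∈ U := hU hs
    rw [← hg, mem_smul] at h1
    have h2 : g⁻¹ * (g * s * g⁻¹) * g = s := by group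
    rwa [h2] at h1
  · obtain ⟨⟨z, hz⟩, hz1⟩ := Subgroup.ne_bot_iff_exists_ne_one.1 hOK
    refine ⟨g⁻¹ * e.symm ⟨z, hz.2⟩ * g, ?_, ?_⟩
    · intro h1
      apply hz1
      have h2 : e.symm ⟨z, hz.2⟩ = 1 := by
        have h3 : e.symm ⟨z, hz.2⟩ = g * (g⁻¹ * e.symm ⟨z, hz.2⟩ * g) * g⁻¹ := by group
        rw [h3, h1]; group
      have h3 := congrArg e h2
      rw [e.apply_symm_apply, map_one] at h3
      exact Subtype.ext (congrArg (fun z : K => (z : H)) h3)
    · show ((e (g * (g⁻¹ * e.symm ⟨z, hz.2⟩ * g) * g⁻¹) : K) : H) ∈ O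
      have h3 : g * (g⁻¹ * e.symm ⟨z, hz.2⟩ * g) * g⁻¹ = e.symm ⟨z, hz.2⟩ := by group
      rw [h3, e.apply_symm_apply]
      exact hz.1
  · intro a
    have h1 : ac ((MulAut.conj g : MulAut (SpecialLinearGroup (Fin 2) F)).trans e) a =
        MulAut.conj g⁻¹ * ac e a * MulAut.conj g := by
      ext1 y
      apply ((MulAut.conj g : MulAut (SpecialLinearGroup (Fin 2) F)).trans e).injective
      apply Subtype.ext
      rw [e_ac]
      show a * (e (g * y * g⁻¹) : H) * a⁻¹ = (e (g * (g⁻¹ * ac e a (g * y * g⁻¹) * g⁻¹⁻¹) * g⁻¹) : H)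
      have h2 : g * (g⁻¹ * ac e a (g * y * g⁻¹) * g⁻¹⁻¹) * g⁻¹ = ac e a (g * y * g⁻¹) := by group
      rw [h2, e_ac]
    rw [h1, map_mul, map_mul, L2Model.typ_conj, L2Model.typ_conj, one_mul, mul_one]

variable {e : SpecialLinearGroup (Fin 2) F ≃* K}

theorem s10_eq_zero (h1 : ∀ s, (e s : H) ∈ O → s ∈ T1Sl2.SU F) {s₀ : SpecialLinearGroup (Fin 2) F} (hs₀ : s₀ ≠ 1)
    (hs₀O : (e s₀ : H) ∈ O) {a : H} (ha : ∀ o ∈ O, a * o * a⁻¹ ∈ O) {s : SpecialLinearGroup (Fin 2) F}
    (hs : ac e a = MulAut.conj s * fieldAut (typ (ac e a))) : s 1 0 = 0 := by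
  rw [← smul_SU_eq]
  by_contra hne
  apply hs₀
  have h2 : ac e a s₀ ∈ T1Sl2.SU F := by
    apply h1
    rw [e_ac]
    exact ha _ hs₀O
  have h3 : ac e a s₀ ∈ s • T1Sl2.SU F := by
    rw [hs, MulAut.mul_apply, MulAut.conj_apply]
    apply conj_mem_smul
    have h4 := h1 _ hs₀O
    rw [mem_SU] at h4 ⊢
    rw [fieldAut_apply, fieldAut_apply, h4.1, h4.2, map_one, map_zero]
    exact ⟨rfl, rfl⟩
  have h4 := sylow_ti hne h3 h2
  exact (map_eq_one_iff _ (ac e a).injective).1 h4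

theorem entry {s y : SpecialLinearGroup (Fin 2) F} (σ : F ≃+* F) (hs : s 1 0 = 0) (hy : y 1 0 = 0) :
    (s * fieldAut σ y * s⁻¹) 0 0 = σ (y 0 0) := by
  have hd := T1Sl2.det s
  rw [hs] at hd
  rw [mul00, mul00, mul01, inv00, inv10, hs, fieldAut_apply, fieldAut_apply, fieldAut_apply, hy, map_zero]
  linear_combination σ (y 0 0) * hd

variable (h : Nff ρ S O T E x)

include h

theorem conj_O {b : H} (hb : b ∈ T) : ∀ o ∈ O, b * o * b⁻¹ ∈ O := by
  have hn : (O.subgroupOf T).Normal := Subgroup.normal_of_index_eq_two h.rel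
  intro o ho
  exact hn.conj_mem ⟨o, h.O_le ho⟩ ho ⟨b, hb⟩

theorem key (hx : x ∈ K) (e : SpecialLinearGroup (Fin 2) F ≃* K) (hOK : O ⊓ K ≠ ⊥) {b : H} (hb : b ∈ E)
    (hbO : b ∉ O) : ∃ r : F, r ≠ 1 ∧ r ^ 3 = 1 ∧ typ (ac e b) r * r = 1 := by
  obtain ⟨e', h1, ⟨s₀, hs₀, hs₀O⟩, h2⟩ := exists_e h.O_two e hOK
  rw [← h2 b]
  obtain ⟨y, hy⟩ := e'.surjective ⟨x, hx⟩
  have hyx : (e' y : H) = x := congrArg Subtype.val hy
  have hxn := Subgroup.mem_normalizer_iff.1 h.x_norm
  -- `y` is upper triangular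
  have hy10 : y 1 0 = 0 := by
    refine s10_eq_zero (O := O) h1 hs₀ hs₀O (a := x) (fun o ho => (hxn o).1 ho) ?_
    rw [← hyx, ac_coe, L2Model.typ_conj, map_one, mul_one]
  obtain ⟨s, hs⟩ := L2Model.exists_form (ac e' b)
  have hs10 : s 1 0 = 0 := s10_eq_zero (O := O) h1 hs₀ hs₀O (conj_O h (h.E_le hb)) hs
  have h3 : ac e' b y * y ∈ T1Sl2.SU F := by
    apply h1
    rw [map_mul, Subgroup.coe_mul, e_ac, hyx]
    exact h.inv b (h.E_le hb) hbO
  have h4 : (ac e' b y) 0 0 = typ (ac e' b) (y 0 0) := by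
    rw [hs, MulAut.mul_apply, MulAut.conj_apply, map_mul, L2Model.typ_conj, one_mul]
    have : typ (fieldAut (typ (ac e' b)) : MulAut (SpecialLinearGroup (Fin 2) F)) = typ (ac e' b) := by
      have h5 := congrArg typ hs
      rw [map_mul, L2Model.typ_conj, one_mul] at h5
      exact h5.symm
    rw [this]
    exact entry _ hs10 hy10
  have h5 : typ (ac e' b) (y 0 0) * y 0 0 = 1 := by
    rw [mem_SU, mul00, hy10, mul_zero, add_zero, h4] at h3
    exact h3.1
  have hy3 : y * y * y = 1 := by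
    apply e'.injective
    apply Subtype.ext
    rw [map_mul, map_mul, map_one]
    show (e' y : H) * e' y * e' y = 1
    rw [hyx]
    have := pow_orderOf_eq_one x
    rwa [h.x3, pow_succ, pow_two] at this
  refine ⟨y 0 0, ?_, ?_, h5⟩
  · intro h6
    have h7 : y ∈ T1Sl2.SU F := ⟨h6, hy10⟩
    have h8 := SU_sq h7
    rw [h8, one_mul] at hy3
    apply h.x_ne
    rw [← hyx, hy3, map_one]; rfl
  · have h6 : (y * y * y) 0 0 = 1 := by rw [hy3, one00]
    rw [mul00, mul00, hy10] at h6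
    linear_combination h6

/-- `O ∩ K = 1` if `E ∩ K ≰ O` -/
theorem inf_eq_bot (k : OutB E x K) (e : SpecialLinearGroup (Fin 2) F ≃* K) {b : H} (hb : b ∈ E)
    (hbO : b ∉ O) (hbK : b ∈ K) : O ⊓ K = ⊥ := by
  by_contra hOK
  obtain ⟨r, hr1, hr3, hr⟩ := key h k.mem e hOK hb hbO
  apply hr1
  have h1 : typ (ac e b) = 1 := by
    obtain ⟨s, hs⟩ := e.surjective ⟨b, hbK⟩
    have hsb : (e s : H) = b := congrArg Subtype.val hs
    rw [← hsb, ac_coe, L2Model.typ_conj]
  rw [h1] at hr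
  have h2 : r * r = 1 := hr
  have h3 : r ^ 3 = r * r * r := by ring
  rw [h3, h2, one_mul] at hr3
  exact hr3

/-- `O ∩ K = 1` implies `|E ∩ K| ≤ 2` -/
theorem card_le_two (hOK : O ⊓ K = ⊥) : Nat.card (E ⊓ K : Subgroup H) ≤ 2 := by
  have h1 := card_mul_relIndex (A := O ⊓ (E ⊓ K)) (B := E ⊓ K) inf_le_right
  have h2 : O ⊓ (E ⊓ K) = ⊥ := by
    rw [eq_bot_iff, ← hOK]
    exact inf_le_inf le_rfl inf_le_right
  rw [Subgroup.inf_relIndex_right, h2, Subgroup.card_bot, one_mul] at h1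
  rw [← h1, ← h.rel]
  exact Subgroup.relIndex_le_of_le_right (inf_le_left.trans h.E_le) (by rw [h.rel]; norm_num)

end borel

/-- cube roots of unity are fixed by the involutory automorphism of the field of order 16 -/
theorem fix_cube (hF : Nat.card F = 16) (σ : F ≃+* F) (hσ : ∀ a, σ (σ a) = a) (hσ1 : ∃ a, σ a ≠ a) {r : F}
    (hr : r ^ 3 = 1) : σ r = r := by
  classical
  obtain ⟨K₀, hK₀, hcard⟩ := Cfsg.Agent.LFourA.FieldInv.exists_fixed σ hσ hσ1
  have hc4 : Nat.card K₀ = 4 := by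
    rw [hF] at hcard
    have h1 : Nat.card K₀ < 5 := by
      by_contra hcon
      push Not at hcon
      have := Nat.pow_le_pow_left hcon 2
      omega
    interval_cases Nat.card K₀ <;> omega
  by_cases hr1 : r = 1
  · rw [hr1, map_one]
  have : Fintype K₀ := Fintype.ofFinite _
  obtain ⟨w, hw0, hw1⟩ : ∃ w : K₀, w ≠ 0 ∧ w ≠ 1 := by
    by_contra hcon
    push Not at hcon
    have h1 : Nat.card K₀ ≤ 2 := by
      rw [Nat.card_eq_fintype_card, ← Finset.card_univ]
      have h2 : (Finset.univ : Finset K₀) ⊆ {0, 1} := by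
        intro w _
        by_cases h0 : w = 0
        · simp [h0]
        · simp [hcon w h0]
      exact (Finset.card_le_card h2).trans Finset.card_le_two
    omega
  have hw3 : w ^ 3 = 1 := by
    have h1 := FiniteField.pow_card_sub_one_eq_one w hw0
    rwa [← Nat.card_eq_fintype_card, hc4] at h1
  have key : ∀ {L : Type _} [Field L] (z : L), z ^ 3 = 1 → z ≠ 1 → z ^ 2 + z + 1 = 0 := by
    intro L _ z hz hz1
    have h1 : (z - 1) * (z ^ 2 + z + 1) = 0 := by linear_combination hz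
    rcases mul_eq_zero.1 h1 with h2 | h2
    · exact absurd (sub_eq_zero.1 h2) hz1
    · exact h2
  have h1 := key r hr hr1
  have h2 : (w : F) ^ 2 + w + 1 = 0 := by
    apply key
    · have := congrArg (fun z : K₀ => (z : F)) hw3
      simpa using this
    · intro h
      exact hw1 (Subtype.ext h)
  have h3 : (r - w) * (r + w + 1) = 0 := by linear_combination h1 - h2
  have h4 : r ∈ K₀ := by
    rcases mul_eq_zero.1 h3 with h4 | h4
    · rw [sub_eq_zero.1 h4]; exact w.2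
    · have h5 : r = - (w + 1) := by linear_combination h4
      rw [h5]
      exact neg_mem (add_mem w.2 (one_mem _))
  exact (hK₀ r).1 h4

/-! ### the theorem -/

section main

variable (h : Nff ρ S O T E x) (k : OutB E x K) (h4 : 4 ≤ Fintype.card F) (e : SpecialLinearGroup (Fin 2) F ≃* K)

include h h4 e

theorem index_ge {z : H} (hz : z ∈ K) (hzz : z * z = 1) (hz1 : z ≠ 1) : Fintype.card F ≤ (fx ρ z).index := by
  have hne : ∃ g v, rr ρ e g v ≠ v := by
    have hs := isSimpleGroup_sl2 h4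
    obtain ⟨g, hg⟩ := exists_ne (1 : SpecialLinearGroup (Fin 2) F)
    obtain ⟨v, hv⟩ := h.ne (k := (e g : H)) (fun h => hg (by
      have : e g = 1 := Subtype.ext h
      rwa [map_eq_one_iff e e.injective] at this))
    exact ⟨g, v, hv⟩
  have h1 := sl2_index h4 h.sq (rr ρ e) hne (a := e.symm ⟨z, hz⟩)
    (by rw [← map_mul, ← map_one e.symm]; congr 1; exact Subtype.ext hzz)
    (fun h => hz1 (by
      have := congrArg e h
      rw [e.apply_symm_apply, map_one] at this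
      exact congrArg Subtype.val this))
  rwa [fx_rr, e.apply_symm_apply] at h1

include k

/-- (i) -/
theorem card_eq_of_le (hEK : E ≤ K) : Fintype.card F = 4 ∧ Nat.card E = 2 ∧ O ⊓ K = ⊥ := by
  obtain ⟨b, hb, hbO⟩ := h.exists_e
  have hOK := inf_eq_bot h k e hb hbO (hEK hb)
  have h1 := card_le_two h hOK
  rw [inf_eq_left.2 hEK] at h1
  have h2 : Nat.card E ≠ 1 := fun h2 => ne_bot h (Subgroup.card_eq_one.1 h2)
  have h3 : 0 < Nat.card E := Nat.card_pos
  have h5 : Nat.card E = 2 := by omega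
  have hb1 : b ≠ 1 := fun h => hbO (h ▸ one_mem O)
  have h6 := index_ge h h4 e (hEK hb) (h.E_sq b hb) hb1
  have h7 := index_le h hb
  exact ⟨by omega, h5, hOK⟩

/-- (ii) -/
theorem card_of_not_le (hEK : ¬ E ≤ K) : Fintype.card F = 4 ∧ Nat.card (E ⊓ K : Subgroup H) = 2 ∧ Nat.card E = 4 := by
  have hk := ek h k
  obtain ⟨q, hq, hq2⟩ := card_inf_le e hk hEK
  have h1 := card_inf e hk hEK
  obtain ⟨a, ha, haK⟩ := SetLike.not_le_iff_exists.1 hEK
  have h2 : E ⊓ K ≠ ⊥ := by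
    intro h0
    rw [h0, Subgroup.card_bot] at h1
    obtain ⟨y, hy, hay⟩ := exists_three e hk ha haK
    refine h.no_three hy ?_
    intro b hb
    have ha1 : a ≠ 1 := fun h => haK (h ▸ one_mem K)
    have h3 : b = 1 ∨ b = a := by
      have h4 : Nat.card E = 2 := by omega
      obtain ⟨c, hc, hu⟩ := (Nat.card_eq_two_iff' (1 : E)).1 h4
      by_cases hb1 : b = 1
      · exact Or.inl hb1
      · right
        have e1 := hu ⟨b, hb⟩ (fun h => hb1 (congrArg Subtype.val h))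
        have e2 := hu ⟨a, ha⟩ (fun h => ha1 (congrArg Subtype.val h))
        exact congrArg Subtype.val (e1.trans e2.symm)
    rcases h3 with rfl | rfl
    · rw [one_mul, mul_one]
    · exact hay
  obtain ⟨⟨v, hv⟩, hv1'⟩ := Subgroup.ne_bot_iff_exists_ne_one.1 h2
  have hv1 : v ≠ 1 := fun h => hv1' (Subtype.ext h)
  have h3 := index_ge h h4 e hv.2 (h.E_sq v hv.1) hv1
  have h5 := index_le h hv.1
  have h6 : q * q ≤ 4 * q := by
    calc q * q = Fintype.card F := by rw [hq, sq]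
      _ ≤ 4 * Nat.card (E ⊓ K : Subgroup H) := by omega
      _ ≤ 4 * q := Nat.mul_le_mul_left _ hq2
  have h7 : q ≤ 4 := by
    rcases Nat.eq_zero_or_pos q with h0 | h0
    · omega
    · exact Nat.le_of_mul_le_mul_right h6 h0
  have h8 : 2 ≤ Nat.card (E ⊓ K : Subgroup H) := by
    have h9 : Nat.card (E ⊓ K : Subgroup H) ≠ 1 := fun h9 => h2 (Subgroup.card_eq_one.1 h9)
    have h10 : 0 < Nat.card (E ⊓ K : Subgroup H) := Nat.card_pos
    omega
  obtain ⟨n, hn, hF⟩ := card_pow F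
  have hq3 : q ≠ 3 := by
    rintro rfl
    rw [hF] at hq
    have : (3 : ℕ) ∣ 2 ^ n := by rw [hq]; norm_num
    have := Nat.prime_three.dvd_of_dvd_pow this
    omega
  have hq24 : q = 2 ∨ q = 4 := by omega
  rcases hq24 with rfl | rfl
  · exact ⟨by rw [hq]; norm_num, by omega, by omega⟩
  · exfalso
    have h9 : Fintype.card F = 16 := by rw [hq]; norm_num
    have hOK : O ⊓ K ≠ ⊥ := by
      intro h0
      have := card_le_two h h0
      omega
    obtain ⟨b, hb, hbO⟩ := h.exists_e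
    obtain ⟨r, hr1, hr3, hr⟩ := key h k.mem e hOK hb hbO
    by_cases hbK : b ∈ K
    · exact hOK (inf_eq_bot h k e hb hbO hbK)
    · have h10 := typ_ne e hk hb hbK
      have h11 := fix_cube (by rw [Nat.card_eq_fintype_card, h9]) (typ (ac e b))
        (L2Model.typ_mul_self (ac_sq e hk hb)) (by
          by_contra hcon
          push Not at hcon
          exact h10 (RingEquiv.ext hcon)) hr3
      rw [h11] at hr
      apply hr1
      have h12 : r ^ 3 = r * r * r := by ring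
      rw [h12, hr, one_mul] at hr3
      exact hr3

end main

/-! ### `q = 4`, `E ≰ K` -/

section five

variable (e : SpecialLinearGroup (Fin 2) F ≃* K) (k : Ek E K)

include e k

theorem pm_injective : Function.Injective (pm e (K ⊔ E)) := by
  rw [injective_iff_map_eq_one]
  rintro ⟨y, hy⟩ h1
  have h2 : ac e y = 1 := by
    apply eq_one_of_syl
    intro U
    exact DFunLike.congr_fun h1 U
  have h3 : ∀ l ∈ K, y * l * y⁻¹ = l := by
    rw [← map_one (ac e)] at h2
    intro l hl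
    have := (ac_eq_iff e y 1).1 h2 l hl
    rw [this]; group
  apply Subtype.ext
  change y = 1
  rw [← SetLike.mem_coe, Subgroup.normal_mul] at hy
  obtain ⟨l, hl, a, ha, rfl⟩ := hy
  have h4 : a = l⁻¹ := by
    refine k.inn a ha l⁻¹ (inv_mem hl) ?_
    intro m hm
    have h5 := h3 m hm
    calc a * m * a⁻¹ = l⁻¹ * (l * a * m * (l * a)⁻¹) * l := by group
      _ = l⁻¹ * m * l⁻¹⁻¹ := by rw [h5, inv_inv]
  show l * a = 1
  rw [h4, mul_inv_cancel]

theorem card_X (hF : Fintype.card F = 4) (hAL : ¬ E ≤ K) : Nat.card (K ⊔ E : Subgroup H) = 120 := by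
  have h1 := card_mul_relIndex (A := K) (B := K ⊔ E) le_sup_left
  rw [Subgroup.relIndex_sup_left, relIndex_E e k hAL, ← Nat.card_congr e.toEquiv, card_sl2, hF] at h1
  rw [← h1]

theorem exists_iso (hF : Fintype.card F = 4) (hAL : ¬ E ≤ K) :
    Nonempty ((K ⊔ E : Subgroup H) ≃* Equiv.Perm (Fin 5)) := by
  have h1 : Nat.card (Sylow 2 (SpecialLinearGroup (Fin 2) F)) = 5 := by rw [card_syl, hF]
  have hfin : Finite (Sylow 2 (SpecialLinearGroup (Fin 2) F)) := Nat.finite_of_card_ne_zero (by rw [h1]; norm_num)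
  have h2 : Nat.card (Equiv.Perm (Sylow 2 (SpecialLinearGroup (Fin 2) F))) = 120 := by
    rw [Nat.card_perm, h1]; rfl
  have h3 : Function.Bijective (pm e (K ⊔ E)) := by
    rw [Nat.bijective_iff_injective_and_card]
    exact ⟨pm_injective e k, by rw [h2, card_X e k hF hAL]⟩
  let f := MulEquiv.ofBijective _ h3
  have g : Sylow 2 (SpecialLinearGroup (Fin 2) F) ≃ Fin 5 := Finite.equivFinOfCardEq h1
  exact ⟨f.trans g.permCongrHom⟩

end five

theorem hdis : ∀ i j k l : Fin 5, i ≠ j → k ≠ l →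
    Equiv.swap i j * Equiv.swap k l * (Equiv.swap i j * Equiv.swap k l) = 1 →
    Equiv.swap i j * Equiv.swap k l ≠ 1 → i ≠ k ∧ i ≠ l ∧ j ≠ k ∧ j ≠ l := by decide +kernel

/-- (iii) -/
theorem five_false (h : Nff ρ S O T E x) (k : OutB E x K) (e : SpecialLinearGroup (Fin 2) F ≃* K)
    (hF : Fintype.card F = 4) (hEK : ¬ E ≤ K) : False := by
  obtain ⟨-, hc2, hc4⟩ := card_of_not_le h k (by rw [hF]) e hEK
  have hk := ek h k
  obtain ⟨φ⟩ := exists_iso e hk hF hEK
  have hKX : K ≤ K ⊔ E := le_sup_left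
  have hEX : E ≤ K ⊔ E := le_sup_right
  have halt : (K.subgroupOf (K ⊔ E)).map φ.toMonoidHom = alternatingGroup (Fin 5) := by
    apply Equiv.Perm.eq_alternatingGroup_of_index_eq_two
    have h1 := ((K.subgroupOf (K ⊔ E)).map φ.toMonoidHom).card_mul_index
    have h2 := card_mul_relIndex (A := K) (B := K ⊔ E) le_sup_left
    rw [card_rP φ hKX, Nat.card_congr φ.symm.toEquiv, ← h2, Subgroup.relIndex_sup_left, relIndex_E e hk hEK] at h1
    exact Nat.eq_of_mul_eq_mul_left Nat.card_pos h1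
  have hmem : ∀ x : (K ⊔ E : Subgroup H), (x : H) ∈ K ↔ φ x ∈ alternatingGroup (Fin 5) := by
    intro x
    rw [← halt, ← Subgroup.mem_subgroupOf (H := K) (K := K ⊔ E)]
    exact (Subgroup.mem_map_iff_mem φ.injective).symm
  have hck : CS (rP ρ φ) (alternatingGroup (Fin 5)) = ⊥ := by
    rw [← halt, CS_rP φ hKX]
    exact h.ck K k.norm k.simple k.mem
  have hG : ∀ W : Subgroup V, (∀ g ∈ alternatingGroup (Fin 5), ∀ v, rP ρ φ g v * v⁻¹ ∈ W) → W = ⊤ := by
    intro W hW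
    refine OneSeven.comm_top h (K := K) (h.ck K k.norm k.simple k.mem) ?_
    intro g hg v
    have h1 := hW (φ ⟨g, hKX hg⟩) ((hmem ⟨g, hKX hg⟩).1 hg) v
    rwa [rP_apply] at h1
  -- the elements of `E`
  obtain ⟨b, hb, hbK⟩ := SetLike.not_le_iff_exists.1 hEK
  obtain ⟨v, hv1, hvu⟩ := (Nat.card_eq_two_iff' (1 : (E ⊓ K : Subgroup H))).1 hc2
  have hv1' : (v : H) ≠ 1 := fun h => hv1 (Subtype.ext h)
  have hbv : b * v ∈ E := mul_mem hb v.2.1
  have hbvK : b * v ∉ K := fun h1 => hbK (by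
    have := mul_mem h1 (inv_mem v.2.2)
    rwa [mul_inv_cancel_right] at this)
  have hodd : ∀ a (ha : a ∈ E), a ∉ K → ∃ i j, i ≠ j ∧ φ ⟨a, hEX ha⟩ = Equiv.swap i j := by
    intro a ha haK
    apply FFOuterPerm.invol_odd
    · rw [← map_mul, map_eq_one_iff φ φ.injective]
      exact Subtype.ext (h.E_sq a ha)
    · rcases Int.units_eq_one_or (Equiv.Perm.sign (φ ⟨a, hEX ha⟩)) with h1 | h1
      · exact absurd ((hmem ⟨a, hEX ha⟩).2 (Equiv.Perm.mem_alternatingGroup.2 h1)) haK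
      · exact h1
  obtain ⟨i, j, hij, hφ1⟩ := hodd b hb hbK
  obtain ⟨m, n, hmn, hφ2⟩ := hodd (b * v) hbv hbvK
  have hbb : b * b = 1 := h.E_sq b hb
  have hv' : φ ⟨v, hKX v.2.2⟩ = Equiv.swap i j * Equiv.swap m n := by
    rw [← hφ1, ← hφ2, ← map_mul]
    congr 1
    apply Subtype.ext
    show (v : H) = b * (b * v)
    rw [← mul_assoc, hbb, one_mul]
  have hvv : φ ⟨v, hKX v.2.2⟩ * φ ⟨v, hKX v.2.2⟩ = 1 := by
    rw [← map_mul, map_eq_one_iff φ φ.injective]
    exact Subtype.ext (h.E_sq v v.2.1)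
  have hvne : φ ⟨v, hKX v.2.2⟩ ≠ 1 := fun h1 => hv1' (congrArg Subtype.val ((map_eq_one_iff φ φ.injective).1 h1))
  rw [hv'] at hvv hvne
  obtain ⟨e1, e2, e3, e4⟩ := hdis i j m n hij hmn hvv hvne
  have hCS : CS ρ E = fx (rP ρ φ) (Equiv.swap i j) ⊓ fx (rP ρ φ) (Equiv.swap m n) := by
    rw [← hφ1, ← hφ2, fx_rP, fx_rP]
    apply le_antisymm
    · exact le_inf (CS_le_fx hb) (CS_le_fx hbv)
    · rintro w ⟨hw1, hw2⟩
      have hwv : w ∈ fx ρ (v : H) := by
        have h1 : (v : H) = b * (b * v) := by rw [← mul_assoc, hbb, one_mul]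
        rw [h1]
        exact fx_mul ρ hw1 hw2
      intro a ha
      by_cases haK : a ∈ K
      · by_cases ha1 : a = 1
        · rw [ha1, map_one]; rfl
        · have h1 := hvu ⟨a, ha, haK⟩ (fun h => ha1 (congrArg Subtype.val h))
          have h2 : a = v := congrArg Subtype.val h1
          rw [h2]; exact hwv
      · have h1 := mul_mem_K e hk hb hbK ha haK
        by_cases hab : b * a = 1
        · have h2 : a = b := by
            rw [eq_inv_of_mul_eq_one_right hab]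
            exact inv_eq_of_mul_eq_one_left hbb
          rw [h2]; exact hw1
        · have h2 := hvu ⟨b * a, mul_mem hb ha, h1⟩ (fun h => hab (congrArg Subtype.val h))
          have h3 : b * a = v := congrArg Subtype.val h2
          have h5 : a = b * v := by rw [← h3, ← mul_assoc, hbb, one_mul]
          rw [h5]; exact hw2
  have h8 : (fx (rP ρ φ) (Equiv.swap 0 1) ⊓ fx (rP ρ φ) (Equiv.swap 2 3)).index = 8 := by
    obtain ⟨g, ha, hb', hc, hd⟩ := FFOuterPerm.exists_conj_pair 0 1 2 3 i j m n (by decide) (by decide) (by decide)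
      (by decide) (by decide) (by decide) hij hmn e1 e2 e3 e4
    have h1 : fx (rP ρ φ) (Equiv.swap i j) ⊓ fx (rP ρ φ) (Equiv.swap m n) =
        (fx (rP ρ φ) (Equiv.swap 0 1) ⊓ fx (rP ρ φ) (Equiv.swap 2 3)).map (rP ρ φ g : V ≃* V).toMonoidHom := by
      rw [← ha, ← hb', ← hc, ← hd, Equiv.swap_apply_apply, Equiv.swap_apply_apply, fx_conj, fx_conj,
        Subgroup.map_inf _ _ _ (rP ρ φ g : V ≃* V).injective]
    rw [← index_map (rP ρ φ) g, ← h1, ← hCS, h.ind, hc4]
  refine OneSixFive.false_of (σ := rP ρ φ) h.sq hck hG h8 ?_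
  -- the four-group
  let A : Subgroup H := (OneSixFive.U4.comap φ.toMonoidHom).map (K ⊔ E).subtype
  have hAX : A ≤ K ⊔ E := Subgroup.map_subtype_le _
  have hA1 : (A.subgroupOf (K ⊔ E)).map φ.toMonoidHom = OneSixFive.U4 := by
    have h1 : A.subgroupOf (K ⊔ E) = OneSixFive.U4.comap φ.toMonoidHom :=
      Subgroup.comap_map_eq_self_of_injective (K ⊔ E).subtype_injective _
    rw [h1]
    exact Subgroup.map_comap_eq_self_of_surjective φ.surjective _
  have hA2 : Nat.card A = Nat.card OneSixFive.U4 := by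
    rw [← hA1, card_rP φ hAX]
  have h9 := h.nff A ?_ ?_
  · rwa [hA2, ← CS_rP φ hAX, hA1] at h9
  · intro h0
    have h10 := OneSixFive.four_le_U4
    rw [← hA2, h0, Subgroup.card_bot] at h10
    omega
  · rintro _ ⟨a, ha, rfl⟩
    have h10 : φ a * φ a = 1 := OneSixFive.U4_sq _ ha
    rw [← map_mul, map_eq_one_iff φ φ.injective] at h10
    exact congrArg Subtype.val h10

/-- **(1.6)** -/
theorem card_eq (h : Nff ρ S O T E x) (k : OutB E x K) (h4 : 4 ≤ Fintype.card F)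
    (e : SpecialLinearGroup (Fin 2) F ≃* K) :
    Fintype.card F = 4 ∧ E ≤ K ∧ Nat.card E = 2 ∧ O ⊓ K = ⊥ := by
  by_cases hEK : E ≤ K
  · obtain ⟨h1, h2, h3⟩ := card_eq_of_le h k h4 e hEK
    exact ⟨h1, hEK, h2, h3⟩
  · exact (five_false h k e (card_of_not_le h k h4 e hEK).1 hEK).elim

/-! ### the conclusion -/

/-- the involutions of `Alt(5)` are conjugate -/
theorem conj_alt (a b : alternatingGroup (Fin 5)) (ha : a * a = 1) (ha1 : a ≠ 1) (hb : b * b = 1) (hb1 : b ≠ 1) :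
    ∃ g : alternatingGroup (Fin 5), g * a * g⁻¹ = b := by
  obtain ⟨i, j, k, l, hij, hkl, hik, hil, hjk, hjl, h1⟩ := FFOuterPerm.invol_even a.1 (congrArg Subtype.val ha)
    (Equiv.Perm.mem_alternatingGroup.1 a.2) (fun h => ha1 (Subtype.ext h))
  obtain ⟨m, n, p, q, hmn, hpq, hmp, hmq, hnp, hnq, h2⟩ := FFOuterPerm.invol_even b.1 (congrArg Subtype.val hb)
    (Equiv.Perm.mem_alternatingGroup.1 b.2) (fun h => hb1 (Subtype.ext h))
  obtain ⟨g, e1, e2, e3, e4⟩ := FFOuterPerm.exists_conj_pair i j k l m n p q hij hkl hik hil hjk hjl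
    hmn hpq hmp hmq hnp hnq
  have h3 : g * a.1 * g⁻¹ = b.1 := by
    rw [h1, h2, ← e1, ← e2, ← e3, ← e4, Equiv.swap_apply_apply, Equiv.swap_apply_apply]; group
  rcases Int.units_eq_one_or (Equiv.Perm.sign g) with h4 | h4
  · exact ⟨⟨g, Equiv.Perm.mem_alternatingGroup.2 h4⟩, Subtype.ext h3⟩
  · refine ⟨⟨g * Equiv.swap i j, Equiv.Perm.mem_alternatingGroup.2 ?_⟩, Subtype.ext ?_⟩
    · rw [map_mul, h4, Equiv.Perm.sign_swap hij]; rfl
    · show g * Equiv.swap i j * a.1 * (g * Equiv.swap i j)⁻¹ = b.1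
      have h5 : Equiv.swap i j * a.1 * (Equiv.swap i j)⁻¹ = a.1 := by
        rw [h1, Equiv.swap_inv]
        have h6 : Equiv.swap i j * Equiv.swap k l = Equiv.swap k l * Equiv.swap i j := by
          have h7 : Equiv.swap i j * Equiv.swap k l * (Equiv.swap i j)⁻¹ = Equiv.swap k l := by
            rw [← Equiv.swap_apply_apply, Equiv.swap_apply_of_ne_of_ne hik.symm hjk.symm,
              Equiv.swap_apply_of_ne_of_ne hil.symm hjl.symm]
          rw [mul_inv_eq_iff_eq_mul] at h7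
          exact h7
        rw [← mul_assoc, Equiv.swap_mul_self, one_mul, h6]
      calc g * Equiv.swap i j * a.1 * (g * Equiv.swap i j)⁻¹
          = g * (Equiv.swap i j * a.1 * (Equiv.swap i j)⁻¹) * g⁻¹ := by group
        _ = b.1 := by rw [h5, h3]

/-- the conclusion of (1.6) for `K ≅ Alt(5)` -/
structure Five (ρ : H →* MulAut V) (O E K : Subgroup H) : Prop where
  iso : Nonempty (K ≃* alternatingGroup (Fin 5))
  le : E ≤ K
  card : Nat.card E = 2
  inf : O ⊓ K = ⊥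
  /-- involutions of `K` have index at most four -/
  ind : ∀ a ∈ K, a * a = 1 → (fx ρ a).index ≤ 4

omit [K.Normal] in
theorem five_of (h : Nff ρ S O T E x) (k : OutB E x K) (h4 : 4 ≤ Fintype.card F)
    (e : SpecialLinearGroup (Fin 2) F ≃* K) : Five ρ O E K := by
  have hn := k.norm
  have hs := k.simple
  obtain ⟨h1, h2, h3, h5⟩ := card_eq h k h4 e
  obtain ⟨φ⟩ := Cfsg.Agent.S0494.result (G := K) (by
    rw [← Nat.card_congr e.toEquiv, card_sl2, h1])
  refine ⟨⟨φ⟩, h2, h3, h5, ?_⟩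
  intro a ha haa
  by_cases ha1 : a = 1
  · rw [ha1, fx_one, Subgroup.index_top]; norm_num
  · obtain ⟨b, hb, hbO⟩ := h.exists_e
    have hb1 : b ≠ 1 := fun h => hbO (h ▸ one_mem O)
    have hbK := h2 hb
    obtain ⟨g, hg⟩ := conj_alt (φ ⟨b, hbK⟩) (φ ⟨a, ha⟩)
      (by rw [← map_mul, map_eq_one_iff φ φ.injective]; exact Subtype.ext (h.E_sq b hb))
      (fun h => hb1 (congrArg Subtype.val ((map_eq_one_iff φ φ.injective).1 h)))
      (by rw [← map_mul, map_eq_one_iff φ φ.injective]; exact Subtype.ext haa)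
      (fun h => ha1 (congrArg Subtype.val ((map_eq_one_iff φ φ.injective).1 h)))
    obtain ⟨c, rfl⟩ := φ.surjective g
    rw [← map_inv, ← map_mul, ← map_mul] at hg
    have h6 := congrArg (fun z : K => (z : H)) (φ.injective hg)
    have h7 : (c : H) * b * (c : H)⁻¹ = a := h6
    rw [← h7, index_fx_conj]
    have h8 := index_le h hb
    omega

omit [K.Normal] in
/-- **(1.5), (1.6)** -/
theorem cases (h : Nff ρ S O T E x) (k : OutB E x K) :
    (∃ (F : Type) (_ : Field F) (_ : Fintype F), Fintype.card F = 7 ∧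
      Nonempty (K ≃* Matrix.ProjectiveSpecialLinearGroup (Fin 2) F)) ∨ Five ρ O E K := by
  rcases OneFive.cases h k with ⟨F, iF, iT, h5 | h7, ⟨e⟩⟩ | ⟨F, iF, iT, f, hf, hF, ⟨e⟩⟩
  · right
    obtain ⟨F', _, _, _, hF4, ⟨e'⟩⟩ := T1Socle.exists_four h5
    exact five_of (F := F') h k (by rw [hF4]) (e.trans e').symm
  · exact Or.inl ⟨F, iF, iT, h7, ⟨e⟩⟩
  · right
    have h4 : 4 ≤ Fintype.card F := by
      rw [hF]
      calc 4 = 2 ^ 2 := by norm_num
        _ ≤ 2 ^ f := Nat.pow_le_pow_right (by norm_num) hf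
    have hch : CharP F 2 := by
      have hch := ringChar.charP F
      have h1 : ringChar F ∣ 2 ^ f := by
        rw [← hF, ← CharP.cast_eq_zero_iff F (ringChar F), Nat.cast_card_eq_zero]
      have h2 : (ringChar F).Prime := CharP.char_is_prime F (ringChar F)
      have h3 : ringChar F = 2 := (Nat.prime_dvd_prime_iff_eq h2 Nat.prime_two).1 (h2.dvd_of_dvd_pow h1)
      rwa [h3] at hch
    obtain ⟨g⟩ := WeakTI.PslTwo.nonempty_equiv (F := F)
    exact five_of h k h4 (g.trans e.symm)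

end Cfsg.Agent.OddCyclic.Bc.OneSix
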