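import Cfsg.Agent.OddCyclic.Bc.NFCases
import Cfsg.Agent.OddCyclic.Bc.OneSix
import Cfsg.Agent.OddCyclic.Bc.OneL3
import Cfsg.Agent.OddCyclic.Bc.OneB5

/-!
# S0342, leaf [Bc], section 1 of blueprints/S0342-Bc-helper108.md: the NFF theorem

`main`: in the NFF setting either outcome (A) of (1.3) holds, or `H ≅ Alt(5)` acts on `V` of order 16 as on the
vectors `z₀, …, z₄` with product 1 (outcome (B5)), `O = 1`, `|T| = 2`, `T ≠ S`.
-/

set_option autoImplicit false
set_option linter.unusedSectionVars false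

namespace Cfsg.Agent.OddCyclic.Bc.NFEnd

open Subgroup Cfsg Cfsg.Agent.OddCyclic.T1Defs Cfsg.Agent.OddCyclic.T1Module Cfsg.Agent.OddCyclic.Bc.NF
  Cfsg.Agent.OddCyclic.Bc.OneB5

variable {H V : Type*} [Group H] [Finite H] [CommGroup V] [Finite V] {ρ : H →* MulAut V} {S O T E : Subgroup H}
  {x : H}

/-- outcome (B5) -/
structure OutB5 (ρ : H →* MulAut V) (S O T : Subgroup H) (φ : H ≃* alternatingGroup (Fin 5)) (z : Fin 5 → V) :
    Prop where
  b5 : B5 ρ φ z
  O_eq : O = ⊥
  T_card : Nat.card T = 2
  ne : T ≠ S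

/-- **the NFF theorem** -/
theorem main (h : Nff ρ S O T E x) :
    (∃ e, OutA ρ E x e) ∨ ∃ (φ : H ≃* alternatingGroup (Fin 5)) (z : Fin 5 → V), OutB5 ρ S O T φ z := by
  rcases NFCases.cases h with h1 | ⟨K, k⟩
  · exact Or.inl h1
  · right
    rcases OneSix.cases h k with ⟨F, _, _, hF, ⟨e⟩⟩ | hf
    · exact (OneL3.false_of_equiv h k hF e).elim
    · obtain ⟨ψ⟩ := hf.iso
      obtain ⟨φ, z, hb⟩ := exists_b5 h k ψ hf.le hf.card
      have hs : IsSimpleGroup (alternatingGroup (Fin 5)) := alternatingGroup.isSimpleGroup (by simp)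
      have hsH : IsSimpleGroup H := φ.isSimpleGroup
      have hn := k.norm
      have hK : K = ⊤ := by
        rcases hsH.eq_bot_or_eq_top_of_normal K hn with h1 | h1
        · exfalso
          have h2 := k.mem
          rw [h1, mem_bot] at h2
          exact h.x_ne h2
        · exact h1
      have hO : O = ⊥ := by
        rw [← hf.inf, hK, inf_top_eq]
      have hT : Nat.card T = 2 := by
        have h1 := h.rel
        rwa [hO, Subgroup.relIndex_bot_left] at h1
      refine ⟨φ, z, hb, hO, hT, ?_⟩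
      rintro rfl
      apply h.S_syl
      have h1 := T.card_mul_index
      have h2 : Nat.card H = 60 := by
        rw [Nat.card_congr φ.toEquiv]
        have h3 : 2 * Nat.card (alternatingGroup (Fin 5)) = 120 := by
          rw [Nat.card_eq_fintype_card, two_mul_card_alternatingGroup, Fintype.card_perm, Fintype.card_fin]
          rfl
        omega
      rw [hT, h2] at h1
      omega

end Cfsg.Agent.OddCyclic.Bc.NFEnd
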