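import Cfsg.Agent.OddCyclic.Bc.Defs
import Cfsg.Agent.OddCyclic.Bc.NFCases

/-!
# S0342, leaf [Bc]: the frame `Defs.NF` gives the frame `NF.Nff`

* `nff` : `Defs.NF ρ S T O E ξ H₁ → NF.Nff ρ S O T E ξ`;
* `cases` : (1.3), (1.4) for `Defs.NF`.
-/

set_option autoImplicit false
set_option linter.unusedSectionVars false

namespace Cfsg.Agent.OddCyclic.Bc.NFOf

open Subgroup Cfsg
open Cfsg.Agent.OddCyclic.T1Defs Cfsg.Agent.OddCyclic.T1Module Cfsg.Agent.OddCyclic.FFBasic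

variable {H : Type*} [Group H] [Finite H] {V : Type*} [CommGroup V] [Finite V] {ρ : H →* MulAut V}
  {S T O E : Subgroup H} {ξ : H} {H₁ : Subgroup V}

theorem nff (h : Defs.NF ρ S T O E ξ H₁) : NF.Nff ρ S O T E ξ where
  cyc := h.cyc
  kz := h.simple
  core := by
    have : Fact (Nat.Prime 2) := ⟨Nat.prime_two⟩
    exact h.core _ (Cfsg.Agent.Lib.Cores.pCore_normal 2) (Cfsg.Agent.Lib.Cores.pCore_isPGroup 2)
  sq := h.sq
  inj := h.inj
  S_two := h.two
  S_syl := h.index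
  gen := h.gen
  O_le := h.O_le
  T_le := h.T_le
  rel := h.rel
  x3 := h.ξ3
  x_norm := h.ξ_norm
  inv := h.inv
  E_le := h.E_le
  E_not := h.E_not
  E_sq := h.E_sq
  ind := h.ind_eq
  nff := by
    intro A hA hA2
    have h1 := h.nff A hA hA2
    have h2 : 0 < Nat.card A := Nat.card_pos
    omega
  three := by
    intro y hy F hF hy' v hv
    exact h.three y hy F (by rw [h.H₁_eq]; exact hF) hy' v hv
  ck := h.ck

/-- **(1.3), (1.4)** -/
theorem cases (h : Defs.NF ρ S T O E ξ H₁) : (∃ e, NF.OutA ρ E ξ e) ∨ ∃ K, NF.OutB E ξ K :=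
  NFCases.cases (nff h)

end Cfsg.Agent.OddCyclic.Bc.NFOf
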