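import Cfsg.Agent.OddCyclic.Bc.Cases
import Cfsg.Agent.OddCyclic.Bc.Inst

/-!
# S0342, leaf [Bc], type (b): (SX) (blueprints/S0342-Bc-helper108.md, section 0; helper207)

`V = vv S`, `L₀ = N_G(V)`, `H = L₀/C_G(V)`, `⟨ξ̄⟩ ⊴ H`, `V₁ = [V, ξ]`, `L₀ = C_{L₀}(V₁) P₁`. In the case A2:

* `fx_le` : the module part: `C_V(ξ) = ⟨R₀^{C_H(V₁)}⟩`;
* **`LL_le`** : `N_G(V) ≤ N_G(L)`;   `false_of` : contradiction, if `⟨C_G(Z), N_G(V)⟩ ≰ N_G(L)`.
-/

set_option autoImplicit false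
set_option linter.unusedSectionVars false

namespace Cfsg.Agent.OddCyclic.Bc.SX

open Subgroup Cfsg Cfsg.Agent.MinSimple Cfsg.Agent.MinSimple.EmptySix
open Cfsg.Agent.ZN (zc zl zj jj bau o2)
open Cfsg.Agent.MinSimple.EmptyE.Closed (LL vv_comm vv_sq vv_mul_self vv_le jj_le_centralizer_vv conj_mem_vv)
open Cfsg.Agent.OddCyclic.T1Defs Cfsg.Agent.OddCyclic.T1Module Cfsg.Agent.OddCyclic.FFBasic
  Cfsg.Agent.OddCyclic.FFRed Cfsg.Agent.OddCyclic.RedRep Cfsg.Agent.OddCyclic.CompStart Cfsg.Agent.OddCyclic.CompBasic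
open Cfsg.Agent.OddCyclic.RedX (mod)
open Cfsg.Agent.OddCyclic.L32 Cfsg.Agent.OddCyclic.Bc.Cases Cfsg.Agent.OddCyclic.Bc.Inst

universe u

/-! ### The module part -/

section module

variable {H V : Type u} [Group H] [CommGroup V] {ρ : H →* MulAut V}

/-- the elements of `H` trivial on `V / W` -/
def Kr (ρ : H →* MulAut V) (W : Subgroup V) : Subgroup H where
  carrier := {y | ∀ u, ρ y u * u⁻¹ ∈ W}
  one_mem' := fun u => by rw [map_one, MulAut.one_apply, mul_inv_cancel]; exact W.one_mem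
  mul_mem' := by
    intro y z hy hz u
    have h1 : ρ (y * z) u * u⁻¹ = (ρ y (ρ z u) * (ρ z u)⁻¹) * (ρ z u * u⁻¹) := by
      rw [map_mul, MulAut.mul_apply]; group
    rw [h1]
    exact W.mul_mem (hy _) (hz _)
  inv_mem' := by
    intro y hy u
    have h1 := W.inv_mem (hy (ρ y⁻¹ u))
    have h2 : ρ y (ρ y⁻¹ u) = u := by rw [← MulAut.mul_apply, ← map_mul, mul_inv_cancel, map_one]; rfl
    rw [h2, mul_inv_rev, inv_inv] at h1
    exact h1

theorem mem_Kr {W : Subgroup V} {y : H} : y ∈ Kr ρ W ↔ ∀ u, ρ y u * u⁻¹ ∈ W := Iff.rfl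

theorem zpowers_le_Kr (ξ : H) : zpowers ξ ≤ Kr ρ (cm ρ ξ).range :=
  zpowers_le.2 fun u => ⟨u, rfl⟩

theorem range_inv {ξ : H} (hn : (zpowers ξ).Normal) (g : H) {v : V} (hv : v ∈ (cm ρ ξ).range) :
    ρ g v ∈ (cm ρ ξ).range := by
  obtain ⟨w, rfl⟩ := hv
  have h1 := zpowers_le_Kr (ρ := ρ) ξ (hn.conj_mem ξ (mem_zpowers ξ) g) (ρ g w)
  have h2 : ρ g (cm ρ ξ w) = ρ (g * ξ * g⁻¹) (ρ g w) * (ρ g w)⁻¹ := by
    rw [cm_apply, map_mul, map_inv, ← MulAut.mul_apply, ← MulAut.mul_apply, ← map_mul, ← map_mul,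
      inv_mul_cancel_right]
  rw [h2]
  exact h1

theorem fx_zpowers {ξ y : H} {v : V} (hv : ρ ξ v = v) (hy : y ∈ zpowers ξ) : ρ y v = v := by
  obtain ⟨k, rfl⟩ := hy
  have hv' : v ∈ fx ρ ξ := hv
  obtain ⟨m, rfl | rfl⟩ := k.eq_nat_or_neg
  · have := fx_pow ρ hv' m
    rw [← zpow_natCast] at this
    exact this
  · have := fx_inv ρ (fx_pow ρ hv' m)
    rw [← zpow_natCast, ← zpow_neg] at this
    exact this

theorem fx_inv' {ξ : H} (hn : (zpowers ξ).Normal) (g : H) {v : V} (hv : ρ ξ v = v) : ρ ξ (ρ g v) = ρ g v := by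
  have h1 := hn.conj_mem ξ (mem_zpowers ξ) g⁻¹
  rw [inv_inv] at h1
  have h2 := fx_zpowers (ρ := ρ) hv h1
  rw [← MulAut.mul_apply, ← map_mul, show ξ * g = g * (g⁻¹ * ξ * g) by group, map_mul, MulAut.mul_apply, h2]

theorem mul3 (a b w : V) : a * w⁻¹ * (b * a⁻¹) * (w * b⁻¹) = 1 := by
  rw [mul_comm b a⁻¹, mul_mul_mul_comm a w⁻¹ a⁻¹ b, mul_inv_cancel, one_mul, mul_comm w⁻¹ b]
  group

/-- `V₁ ∩ V₂ = 1` -/
theorem disj {ξ : H} (h3 : ξ ^ 3 = 1) (sq : ∀ v : V, v * v = 1) {v : V} (hv : v ∈ (cm ρ ξ).range)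
    (hf : ρ ξ v = v) : v = 1 := by
  obtain ⟨w, rfl⟩ := hv
  have h1 : ρ (ξ ^ 2) w = ρ ξ (ρ ξ w) := by rw [pow_two, map_mul]; rfl
  have h2 : ρ ξ (ρ ξ (ρ ξ w)) = w := by
    have h4 : ρ (ξ ^ 3) w = ρ ξ (ρ ξ (ρ ξ w)) := by
      rw [pow_succ, pow_two, map_mul, map_mul]; rfl
    rw [← h4, h3, map_one]; rfl
  set v := cm ρ ξ w with hv
  have e0 : v = ρ ξ w * w⁻¹ := cm_apply ρ ξ w
  have e1 : v = ρ ξ (ρ ξ w) * (ρ ξ w)⁻¹ := by
    have := hf
    rw [e0, map_mul, map_inv] at this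
    rw [this, e0]
  have e2 : v = w * (ρ ξ (ρ ξ w))⁻¹ := by
    have := hf
    rw [e1, map_mul, map_inv, h2] at this
    rw [this, e1]
  have e3 : v * v * v = 1 := by
    have h5 : v * v * v = (ρ ξ w * w⁻¹) * (ρ ξ (ρ ξ w) * (ρ ξ w)⁻¹) * (w * (ρ ξ (ρ ξ w))⁻¹) := by
      rw [← e0, ← e1, ← e2]
    rw [h5]
    exact mul3 _ _ _
  rwa [sq, one_mul] at e3

/-- **the module part of (SX)**: `C_V(ξ) = ⟨R₀^{C_H(V₁)}⟩` -/
theorem fx_le {ξ : H} (h3 : ξ ^ 3 = 1) (sq : ∀ v : V, v * v = 1) (hn : (zpowers ξ).Normal) {R Z : Set V}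
    (hR : ∀ v ∈ R, ρ ξ v = v) (hZ : ∀ z ∈ Z, ∃ a ∈ (cm ρ ξ).range, ∃ b ∈ R, z = a * b)
    (gen : ∀ W' : Subgroup V, (∀ z ∈ Z, z ∈ W') → (∀ h : H, ∀ w ∈ W', ρ h w ∈ W') → W' = ⊤)
    (act : ∀ g : H, ∃ k : H, (∀ v ∈ R, ρ k v = v) ∧ ∀ v ∈ (cm ρ ξ).range, ρ g v = ρ k v)
    {W : Subgroup V} (hW : ∀ c : H, (∀ v ∈ (cm ρ ξ).range, ρ c v = v) → ∀ v ∈ R, ρ c v ∈ W) :
    fx ρ ξ ≤ W := by
  -- `W₀ = ⟨R^C⟩`
  let X : Set V := {v | ∃ c : H, (∀ v ∈ (cm ρ ξ).range, ρ c v = v) ∧ ∃ w ∈ R, v = ρ c w}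
  set W₀ := closure X with hW₀
  have hW0W : W₀ ≤ W := by
    rw [hW₀, closure_le]
    rintro v ⟨c, hc, w, hw, rfl⟩
    exact hW c hc w hw
  have hW0f : W₀ ≤ fx ρ ξ := by
    rw [hW₀, closure_le]
    rintro v ⟨c, hc, w, hw, rfl⟩
    exact fx_inv' hn c (hR w hw)
  have hRW : ∀ v ∈ R, v ∈ W₀ := fun v hv => subset_closure ⟨1, fun v _ => by rw [map_one]; rfl, v, hv, by
    rw [map_one]; rfl⟩
  have hinv : ∀ h : H, ∀ w ∈ W₀, ρ h w ∈ W₀ := by
    intro g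
    have h1 : W₀ ≤ W₀.comap (ρ g).toMonoidHom := by
      rw [hW₀, closure_le]
      rintro v ⟨c, hc, w, hw, rfl⟩
      change ρ g (ρ c w) ∈ closure X
      obtain ⟨k, hk, hg⟩ := act (g * c)
      refine subset_closure ⟨g * c * k⁻¹, ?_, w, hw, ?_⟩
      · intro u hu
        have h2 := hg (ρ k⁻¹ u) (range_inv hn k⁻¹ hu)
        rw [map_mul, MulAut.mul_apply, h2, ← MulAut.mul_apply, ← map_mul, mul_inv_cancel, map_one]
        rfl
      · have h2 : ρ k⁻¹ w = w := by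
          conv_lhs => rw [← hk w hw]
          rw [← MulAut.mul_apply, ← map_mul, inv_mul_cancel, map_one]
          rfl
        rw [map_mul _ (g * c), MulAut.mul_apply, h2, map_mul]
        rfl
    intro w hw
    exact h1 hw
  have htop : (cm ρ ξ).range ⊔ W₀ = ⊤ := by
    apply gen
    · intro z hz
      obtain ⟨a, ha, b, hb, rfl⟩ := hZ z hz
      exact Subgroup.mul_mem_sup ha (hRW b hb)
    · intro h w hw
      obtain ⟨a, ha, b, hb, rfl⟩ := Subgroup.mem_sup.1 hw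
      rw [map_mul]
      exact Subgroup.mul_mem_sup (range_inv hn h ha) (hinv h b hb)
  intro v hv
  have hv1 : v ∈ (cm ρ ξ).range ⊔ W₀ := by rw [htop]; trivial
  obtain ⟨a, ha, b, hb, hab⟩ := Subgroup.mem_sup.1 hv1
  have h4 : a ∈ fx ρ ξ := by
    have h5 := (fx ρ ξ).mul_mem hv ((fx ρ ξ).inv_mem (hW0f hb))
    rwa [← hab, mul_inv_cancel_right] at h5
  have h6 : a = 1 := disj h3 sq ha h4
  rw [h6, one_mul] at hab
  rw [← hab]
  exact hW0W hb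

end module

/-! ### The group part -/

variable {G : Type u} [Group G] [Finite G] {S : Sylow 2 G} {T L O₁ O A : Subgroup G} {ξ x p : G}

/-- if `x` centralises `Y ≥ D`: `L` centralises `D` -/
theorem L_le (c : Conf S T L O₁ O A ξ x) {D : Subgroup G} (hT : T ≤ normalizer (D : Set G))
    (hξ : ξ ∈ centralizer (D : Set G)) (hx : x ∈ centralizer (D : Set G)) : L ≤ centralizer (D : Set G) := by
  have h1 : L ≤ normalizer (D : Set G) := by
    refine c.gen.trans (sup_le (sup_le hT ?_) ?_)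
    · rw [zpowers_le]
      exact centralizer_le_normalizer _ hξ
    · rw [zpowers_le]
      exact centralizer_le_normalizer _ hx
  have h2 : L ⊓ centralizer (D : Set G) = L := by
    refine eq_of_normal c.sev.perf c.sev.simp inf_le_left (fun l hl => ?_) (Conf'.not_two c ⟨c.ξL, hξ⟩)
    rw [ZN.ChoiceBase.mem_normalizer_iff_cj, ZN.ChoiceBase.cj_inf, ZN.ChoiceBase.cj_centralizer,
      ZN.ChoiceBase.cj_eq_of_mem_normalizer (h1 hl), ZN.ChoiceBase.cj_eq_of_mem_normalizer (le_normalizer hl)]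
  exact inf_eq_left.1 h2

variable {H V : Type u} [Group H] [CommGroup V] {r : LL (S : Subgroup G) →* H} {ρ : H →* MulAut V} {ι : V →* G}

/-- a point is moved by `ξ` -/
theorem ξ_ne (c : Conf S T L O₁ O A ξ x) (hp : p ∈ zc T) (hp1 : p ≠ 1) (hrz : rz ξ p = 1) : ξ * p ≠ p * ξ := by
  intro h1
  have h2 := (rz_of_comm (zc_sq hp) h1).1
  rw [hrz] at h2
  exact hp1 h2.symm

/-- `C_G(p)` is V-form if `⟨ξ̄⟩` is normal -/
theorem vform (hG : OddCyc G) (hE : ExH G) (c : Cb S (S : Subgroup G) L O₁ O A ξ x p)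
    (hr : Rep (LL (S : Subgroup G)) (vv (S : Subgroup G)) r ρ ι) [Finite H]
    (hn : (zpowers (r ⟨ξ, ξ_mem_LL c.toConf⟩)).Normal) :
    jj (S : Subgroup G) ≤ centralizer (zl (S : Subgroup G) (centralizer ({p} : Set G)) : Set G) := by
  have hpz : p ∈ zj (S : Subgroup G) := ZN.ChoiceBase.zc_le_zj _ c.p_mem
  have hSp : (S : Subgroup G) ≤ centralizer ({p} : Set G) := fun s hs =>
    mem_centralizer_singleton_iff.2 ((ZN.ChoiceBase.mem_zc.1 c.p_mem).2.2 s hs)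
  by_contra hcon
  rw [← c.nb.mod_eq S.isPGroup' (ZN.ChoiceBase.bau_le _)] at hcon
  obtain ⟨L', O₁', O', A', ξ', x', hc, hL⟩ := hE.e2 S _ c.nb (EmptyTI.isTwoLocal_centralizer hpz c.p1) hSp hcon
  have hpV : p ∈ vv (S : Subgroup G) := zc_le_vv _ c.p_mem
  have hξp := ξ_ne c.toConf c.p_mem c.p1 c.p_rz
  have hξ' : ∃ v ∈ vv (S : Subgroup G), ξ' * v ≠ v * ξ' := by
    obtain ⟨z, hz, hz1⟩ := hc.moved
    refine ⟨z, zc_le_vv _ hz, fun h1 => hz1 (rz_of_comm (zc_sq hz) h1).2⟩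
  have o1 := orderOf_ξ hr c.toConf ⟨p, hpV, hξp⟩
  have o2 := orderOf_ξ hr hc hξ'
  have hcyc : OddCyc H := T1Structure.oddCyc_of_surjective
    (T1Structure.oddCyc_of_injective hG (LL (S : Subgroup G)).subtype (LL (S : Subgroup G)).subtype_injective)
    r hr.surj
  have h1 : r ⟨ξ', ξ_mem_LL hc⟩ ∈ zpowers (r ⟨ξ, ξ_mem_LL c.toConf⟩) :=
    mem_of_orderOf hcyc Nat.prime_three (by norm_num) hn (by rw [Nat.card_zpowers, o1]) o2
  have h2 : zpowers (r ⟨ξ', ξ_mem_LL hc⟩) = zpowers (r ⟨ξ, ξ_mem_LL c.toConf⟩) := by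
    apply Subgroup.eq_of_le_of_card_ge (zpowers_le.2 h1)
    rw [Nat.card_zpowers, Nat.card_zpowers, o1, o2]
  obtain ⟨v, hv⟩ := hr.exists_v hpV
  have h3 : ρ (r ⟨ξ', ξ_mem_LL hc⟩) v = v := by
    rw [hr.fix, hv]
    exact mem_centralizer_singleton_iff.1 (hL hc.ξL)
  have h4 : ρ (r ⟨ξ, ξ_mem_LL c.toConf⟩) v = v := fx_zpowers h3 (by rw [h2]; exact mem_zpowers _)
  rw [hr.fix, hv] at h4
  exact hξp h4

/-- **(SX)**: `N_G(V) ≤ N_G(L)`. -/
theorem LL_le (hG : OddCyc G) (hE : ExH G) (c : CA2 S L O₁ O A ξ x p)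
    (hr : Rep (LL (S : Subgroup G)) (vv (S : Subgroup G)) r ρ ι) [Finite H]
    (hn : (zpowers (r ⟨ξ, ξ_mem_LL c.toConf⟩)).Normal)
    (hact : ∀ g : H, ∃ k ∈ im (LL (S : Subgroup G)) (S : Subgroup G) r ⊔ zpowers (r ⟨ξ, ξ_mem_LL c.toConf⟩),
      ∀ v ∈ (cm ρ (r ⟨ξ, ξ_mem_LL c.toConf⟩)).range, ρ g v = ρ k v) :
    LL (S : Subgroup G) ≤ normalizer (L : Set G) := by
  have hpV : p ∈ vv (S : Subgroup G) := zc_le_vv _ c.p_mem
  have hξp := ξ_ne c.toConf c.p_mem c.p1 c.p_rz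
  set y := r ⟨ξ, ξ_mem_LL c.toConf⟩ with hy
  have o1 : orderOf y = 3 := orderOf_ξ hr c.toConf ⟨p, hpV, hξp⟩
  have y3 : y ^ 3 = 1 := by rw [← o1]; exact pow_orderOf_eq_one y
  have sq := sq_of hr
  -- `p ∈ V₁`
  obtain ⟨vp, hvp⟩ := hr.exists_v hpV
  have hp1 : vp ∈ (cm ρ y).range := by
    refine ⟨ρ y vp, ?_⟩
    rw [cm_apply]
    have e1 : ι (ρ y vp) = ξ * p * ξ⁻¹ := by rw [hy, hr.act, hvp]
    have e2 : ι (ρ y (ρ y vp)) = ξ * ξ * p * (ξ * ξ)⁻¹ := by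
      rw [hy, hr.act, ← hy, e1]
      group
    have e3 : vp * ρ y vp * ρ y (ρ y vp) = 1 := by
      apply hr.iinj
      rw [map_mul, map_mul, map_one, e1, e2, hvp]
      exact c.p_rz
    have e4 : (ρ y vp)⁻¹ = ρ y vp := inv_eq_of_mul_eq_one_left (sq _)
    have e5 : vp * (ρ y (ρ y vp) * (ρ y vp)⁻¹) = 1 := by
      rw [e4, mul_comm (ρ y (ρ y vp)), ← mul_assoc, e3]
    have e6 := inv_eq_of_mul_eq_one_right e5
    rw [← e6]
    exact inv_eq_of_mul_eq_one_left (sq _)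
  -- `R₀`
  let R : Set V := {v | ι v ∈ zc (S : Subgroup G) ∧ L ≤ centralizer ({ι v} : Set G)}
  let Z : Set V := {v | ι v ∈ zc (S : Subgroup G)}
  have hRξ : ∀ v ∈ R, ρ y v = v := by
    rintro v ⟨-, hv⟩
    rw [hy, hr.fix]
    exact mem_centralizer_singleton_iff.1 (hv c.ξL)
  -- `Y = ⟨Z^{C_G(p)}⟩`
  have hV2 : fx ρ y ≤ (zl (S : Subgroup G) (centralizer ({p} : Set G))).comap ι := by
    refine fx_le y3 sq hn (R := R) (Z := Z) hRξ ?_ ?_ ?_ ?_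
    · intro z hz
      rcases c.cases_of hz with h1 | h1
      · exact ⟨1, (cm ρ y).range.one_mem, z, ⟨hz, by rw [h1]; exact c.rz_le hz⟩, (one_mul z).symm⟩
      · obtain ⟨b, hb⟩ := hr.exists_v (zc_le_vv _ (c.rz_mem _ hz))
        refine ⟨vp, hp1, b, ⟨by rw [hb]; exact c.rz_mem _ hz, by rw [hb]; exact c.rz_le hz⟩, ?_⟩
        apply hr.iinj
        rw [map_mul, hvp, hb]
        exact h1
    · intro W' hZW hW
      refine gen_of hr W' (fun v hv => hZW v ((mem_CS_S hr v).1 hv)) hW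
    · intro g
      obtain ⟨k, hk, hg⟩ := hact g
      refine ⟨k, fun v hv => ?_, hg⟩
      have h1 : im (LL (S : Subgroup G)) (S : Subgroup G) r ⊔ zpowers y ≤
          (MulAction.stabilizer (MulAut V) v).comap ρ := by
        refine sup_le ?_ ?_
        · intro b hb
          obtain ⟨t, ht, rfl⟩ := of_mem_im hb
          change ρ (r t) v = v
          rw [hr.fix]
          exact (ZN.ChoiceBase.mem_zc.1 hv.1).2.2 t ht
        · rw [zpowers_le]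
          exact hRξ v hv
      exact h1 hk
    · rintro g hg v ⟨hv, -⟩
      obtain ⟨c', rfl⟩ := hr.surj g
      have h1 : (c' : G) ∈ centralizer ({p} : Set G) := by
        have h2 := hg vp hp1
        rw [hr.fix, hvp] at h2
        exact mem_centralizer_singleton_iff.2 h2
      rw [mem_comap, hr.act]
      exact (VModule.le_normalizer_zl (S : Subgroup G) (centralizer ({p} : Set G)) h1 _).1
        (VModule.zc_le_zl _ _ hv)
  have hJ := vform hG hE c.toCb hr hn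
  set Y := zl (S : Subgroup G) (centralizer ({p} : Set G)) with hY
  set D := (fx ρ y).map ι with hD
  have hDY : D ≤ Y := map_le_iff_le_comap.2 hV2
  have hxp : x ∈ centralizer ({p} : Set G) := mem_centralizer_singleton_iff.2 (c.xZ p c.p_mem)
  have hxY : x ∈ normalizer (Y : Set G) := VModule.le_normalizer_zl (S : Subgroup G) _ hxp
  have hAY : A ≤ centralizer (Y : Set G) := (A_le_jj c.toConf).trans hJ
  have hxc : x ∈ centralizer (Y : Set G) := by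
    have h1 : A ⊔ A.map (MulAut.conj x).toMonoidHom ≤ centralizer (Y : Set G) := by
      refine sup_le hAY ?_
      rintro _ ⟨a, ha, rfl⟩
      rw [mem_centralizer_iff]
      intro w hw
      have h2 : x⁻¹ * w * x ∈ Y := by
        have := (mem_normalizer_iff.1 (inv_mem hxY) w).1 hw
        rwa [inv_inv] at this
      have h3 := mem_centralizer_iff.1 (hAY ha) _ h2
      change w * (x * a * x⁻¹) = x * a * x⁻¹ * w
      calc w * (x * a * x⁻¹) = x * ((x⁻¹ * w * x) * a) * x⁻¹ := by group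
        _ = x * (a * (x⁻¹ * w * x)) * x⁻¹ := by rw [h3]
        _ = _ := by group
    exact h1 c.gen_x
  have hLLD : LL (S : Subgroup G) ≤ normalizer (D : Set G) := by
    intro g hg
    refine CompStandard.mem_normalizer_of_forall ?_
    rintro _ ⟨v, hv, rfl⟩
    exact ⟨ρ (r ⟨g, hg⟩) v, fx_inv' hn _ hv, hr.act ⟨g, hg⟩ v⟩
  have hξD : ξ ∈ centralizer (D : Set G) := by
    rw [mem_centralizer_iff]
    rintro _ ⟨v, hv, rfl⟩
    have h1 : ρ y v = v := hv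
    rw [hy, hr.fix] at h1
    exact h1.symm
  have hLD : L ≤ centralizer (D : Set G) :=
    L_le c.toConf ((S_le_LL S).trans hLLD) hξD (centralizer_le hDY hxc)
  have hD1 : D ≠ ⊥ := by
    obtain ⟨r₀, hr₀, hr1, hrL⟩ := c.r_ex
    obtain ⟨v, hv⟩ := hr.exists_v (zc_le_vv _ hr₀)
    intro h1
    apply hr1
    rw [← mem_bot, ← h1]
    refine ⟨v, ?_, hv⟩
    refine hRξ v ⟨?_, ?_⟩
    · rw [hv]; exact hr₀
    · rw [hv]; exact hrL
  have hDV : D ≤ vv (S : Subgroup G) := by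
    rintro _ ⟨v, -, rfl⟩
    exact hr.mem v
  have hD2 : IsPGroup 2 D := S.isPGroup'.to_le (hDV.trans ((vv_le_zj _).trans (zj_le c.toConf)))
  have h2l : IsTwoLocal (normalizer (D : Set G)) := ⟨D, hD2, hD1, rfl⟩
  refine hLLD.trans (c.uniq _ (EmpTI.o2_ne_bot_of_isTwoLocal h2l) (hLD.trans (centralizer_le_normalizer _)) ?_)
  exact (ZN.ChoiceBase.jj_le (S : Subgroup G)).trans ((S_le_LL S).trans hLLD)

/-- **(SX)** : contradiction. -/
theorem false_of (hG : OddCyc G) (hE : ExH G) (c : CA2 S L O₁ O A ξ x p)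
    (hr : Rep (LL (S : Subgroup G)) (vv (S : Subgroup G)) r ρ ι) [Finite H]
    (hn : (zpowers (r ⟨ξ, ξ_mem_LL c.toConf⟩)).Normal)
    (hact : ∀ g : H, ∃ k ∈ im (LL (S : Subgroup G)) (S : Subgroup G) r ⊔ zpowers (r ⟨ξ, ξ_mem_LL c.toConf⟩),
      ∀ v ∈ (cm ρ (r ⟨ξ, ξ_mem_LL c.toConf⟩)).range, ρ g v = ρ k v)
    (hnot : ¬ (centralizer (zc (S : Subgroup G) : Set G) ≤ normalizer (L : Set G) ∧
      LL (S : Subgroup G) ≤ normalizer (L : Set G))) : False := by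
  refine hnot ⟨?_, LL_le hG hE c hr hn hact⟩
  obtain ⟨r₀, hr₀, hr1, hrL⟩ := c.r_ex
  refine le_trans ?_ (Conf'.cent_le c.toConf (ZN.ChoiceBase.zc_le_zj _ hr₀) hr1 hrL)
  exact centralizer_le (Set.singleton_subset_iff.2 hr₀)

end Cfsg.Agent.OddCyclic.Bc.SX
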