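import Cfsg.Agent.OddCyclic.Bc.AaZero
import Cfsg.Agent.OddCyclic.Bc.AaFF
import Cfsg.Agent.OddCyclic.Bc.AaCk
import Cfsg.Agent.OddCyclic.Bc.SX
import Cfsg.Agent.OddCyclic.Bc.EndLib
import Cfsg.Agent.OddCyclic.Bc.NFEnd
import Cfsg.Agent.OddCyclic.Bc.NFOf

/-!
# S0342, leaf [Bc], type (b): the case A2 is impossible

`T = S`, `R₀ ≠ 1`. `H = N_G(V)/C_G(V)` on `V = ⟨Ω₁Z(S)^{N_G(J)}⟩`.

* `⟨ξ̄⟩` not normal: there is no FF-offender (`AaFF`), and no outcome of the NFF theorem (`NFEnd`);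
* `⟨ξ̄⟩` normal: `H` acts on `[V, ξ]` as `S⟨ξ⟩` (`AaZero.MF0.act`), so `N_G(V) ≤ N_G(L)` (`SX`).
-/

set_option autoImplicit false
set_option linter.unusedSectionVars false

namespace Cfsg.Agent.OddCyclic.Bc.EndAa

open Subgroup Cfsg Cfsg.Agent.ZN Cfsg.Agent.ZN.ChoiceBase Cfsg.Agent.MinSimple Cfsg.Agent.MinSimple.EmptySix
open Cfsg.Agent.MinSimple.EmptyE.Closed (LL vv_comm)
open Cfsg.Agent.OddCyclic.T1Defs Cfsg.Agent.OddCyclic.T1Module Cfsg.Agent.OddCyclic.FFBasic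
  Cfsg.Agent.OddCyclic.FFRed Cfsg.Agent.OddCyclic.RedRep Cfsg.Agent.OddCyclic.CompStart Cfsg.Agent.OddCyclic.CompBasic
open Cfsg.Agent.OddCyclic.L32
open Cfsg.Agent.OddCyclic.Bc.Inst
open Cfsg.Agent.OddCyclic.Bc.Cases (CA1 CA2 CII Cb ExH)

universe u

variable {G : Type u} [Group G] [Finite G] {S : Sylow 2 G} {L O₁ O A : Subgroup G} {ξ x p : G}
variable {H V : Type u} [Group H] [CommGroup V] {r : LL (S : Subgroup G) →* H} {ρ : H →* MulAut V} {ι : V →* G}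

/-- `Aa` for `V = vv S` -/
theorem exists_aa [Finite H] [Finite V] (h : CA2 S L O₁ O A ξ x p)
    (hr : Rep (LL (S : Subgroup G)) (vv (S : Subgroup G)) r ρ ι)
    (hck : ∀ K : Subgroup H, K.Normal → IsSimpleGroup K → (∃ a b : K, a * b ≠ b * a) →
      r ⟨ξ, ξ_mem_LL h.toConf⟩ ∈ K → CS ρ K = ⊥) :
    ∃ p' r' : V, AaFF.Aa ρ (im (LL (S : Subgroup G)) (S : Subgroup G) r) (r ⟨ξ, ξ_mem_LL h.toConf⟩) p' r' := by
  obtain ⟨p', hp'⟩ := hr.exists_v (zc_le_vv _ h.p_mem)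
  obtain ⟨r₀, hr₀, hr1, hrL⟩ := h.r_ex
  obtain ⟨r', hr'⟩ := hr.exists_v (zc_le_vv _ hr₀)
  refine ⟨p', r', ?_⟩
  exact
    { cyc := T1Structure.oddCyc_of_surjective
        (T1Structure.oddCyc_of_injective h.nb.cx.cyc (LL (S : Subgroup G)).subtype
          (LL (S : Subgroup G)).subtype_injective) r hr.surj
      core := core_of hr
      inj := hr.inj
      sq := sq_of hr
      two := isPGroup_im r
      index := index_im hr
      ξ3 := orderOf_ξ hr h.toConf (GenI.CA2_ex h)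
      pS := (mem_CS_S hr p').2 (by rw [hp']; exact h.p_mem)
      rS := (mem_CS_S hr r').2 (by rw [hr']; exact hr₀)
      r1 := by
        rintro rfl
        rw [map_one] at hr'
        exact hr1 hr'.symm
      ξr := by
        rw [hr.fix, hr']
        exact GenI.ξ_comm h.toCb hrL
      ξp := by
        rw [Ne, hr.fix, hp']
        exact GenI.Cb_ξp h.toCb
      ck := hck }

/-- **the case A2 is impossible** -/
theorem false_of' (hE : ExH G) (h : CA2 S L O₁ O A ξ x p)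
    (hck : ∀ (H V : Type u) [Group H] [CommGroup V] [Finite H] [Finite V] (r : LL (S : Subgroup G) →* H)
      (ρ : H →* MulAut V) (ι : V →* G), Rep (LL (S : Subgroup G)) (vv (S : Subgroup G)) r ρ ι →
      ∀ K : Subgroup H, K.Normal → IsSimpleGroup K → (∃ a b : K, a * b ≠ b * a) →
      r ⟨ξ, ξ_mem_LL h.toConf⟩ ∈ K → CS ρ K = ⊥) : False := by
  have hcyc := h.nb.cx.cyc
  have hsec := h.nb.cx.sec
  have hL := GenI.ne_top h.nb (GenI.isTwoLocal_LL h.p_mem h.p1)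
  obtain ⟨H, V, _, _, _, _, r, ρ, ι, hr⟩ := EmpFF.exists_rep (X := LL (S : Subgroup G)) (Y := vv (S : Subgroup G)) le_rfl
    (fun a ha b hb => vv_comm ha hb)
  have hck' := hck H V r ρ ι hr
  obtain ⟨p', r', ha⟩ := exists_aa h hr hck'
  have m := AaZero.mf0_of hr h.toConf hcyc hsec hL (GenI.CA2_ex h)
  have hFFC : RedFFDefs.FFC H := FFSec.ffc hcyc hsec hL r hr.surj
  by_cases hn : (zpowers (r ⟨ξ, ξ_mem_LL h.toConf⟩)).Normal
  · -- `⟨ξ⟩` normal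
    have hidx : (fx ρ (r ⟨ξ, ξ_mem_LL h.toConf⟩)).index = 4 ∨
        ∀ A : Subgroup H, A ≠ ⊥ → (∀ a ∈ A, a * a = 1) → 2 * Nat.card A ≤ (CS ρ A).index := by
      by_cases hFF : ∃ A : Subgroup H, A ≠ ⊥ ∧ (∀ a ∈ A, a * a = 1) ∧ Nat.card V ≤ Nat.card A * Nat.card (CS ρ A)
      · exact Or.inl (ha.main hFFC hFF).2
      · exact Or.inr (EndLib.nff_of m.sq hFF)
    have hact := m.act hn hidx
    have h1 := SX.LL_le hcyc hE h hr hn hact
    -- `C_G(Z) ≤ N_G(L)`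
    have h2 : centralizer (zc (S : Subgroup G) : Set G) ≤ normalizer (L : Set G) := by
      obtain ⟨r₀, hr₀, hr1, hrL⟩ := h.r_ex
      refine le_trans ?_ (Cases.Conf'.cent_le h.toConf (ZN.ChoiceBase.zc_le_zj _ hr₀) hr1 hrL)
      exact centralizer_le (Set.singleton_subset_iff.2 hr₀)
    exact GenI.not_both h.nb h.loc h2 ((normalizer_jj_le_vv _).trans h1)
  · -- `⟨ξ⟩` not normal
    have hm := m.mf' hn hck'
    by_cases hFF : ∃ A : Subgroup H, A ≠ ⊥ ∧ (∀ a ∈ A, a * a = 1) ∧ Nat.card V ≤ Nat.card A * Nat.card (CS ρ A)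
    · exact hn (ha.main hFFC hFF).1
    · have hN := NFOf.nff (EndLib.nf_of hm hFF)
      rcases NFEnd.main hN with ⟨e, hA⟩ | ⟨φ, z, hB⟩
      · exact hn hA.norm
      · exact hB.ne rfl

/-- **the case A2 is impossible** -/
theorem false_of (hE : ExH G) (h : CA2 S L O₁ O A ξ x p) : False :=
  false_of' hE h fun _ _ _ _ _ _ _ _ _ hr K hK hs hn hξ =>
    AaCk.ck h.toConf h.nb.cx.cyc h.nb.cx.sec (GenI.ne_top h.nb (GenI.isTwoLocal_LL h.p_mem h.p1)) (GenI.CA2_ex h) hr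
      K hK hs hn hξ

end Cfsg.Agent.OddCyclic.Bc.EndAa
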