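import Cfsg.Agent.OddCyclic.Bc.Defs
import Cfsg.Agent.OddCyclic.EmpFFList
import Cfsg.Agent.OddCyclic.EN.NatTwo.Aut

/-!
# S0342, leaf [Bc], type (b), section 4, LIN (blueprints/S0342-Bc-helper108.md)

`main`: in the module frame `MF ρ S T O E ξ H₁`, if `L ≅ SL₂(q)` is normal in `H`, `V` is natural and `ξ ∈ L`, then `q = 4`,
`|V| = 16`, `|E| = 4`, `H₁ = C_V(E)` has order 2, all involutions of `H` have index 4, and `H ≅ S₅`.
-/

set_option autoImplicit false
set_option linter.unusedSectionVars false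

namespace Cfsg.Agent.OddCyclic.Bc.Lin

open Matrix Subgroup
open Cfsg.Agent.OddCyclic.T1Defs Cfsg.Agent.OddCyclic.T1Module Cfsg.Agent.OddCyclic.FFBasic
  Cfsg.Agent.OddCyclic.FFRed Cfsg.Agent.OddCyclic.FFSl2 Cfsg.Agent.OddCyclic.T1Sl2
open Cfsg.Agent.OddCyclic.FFOuter (ac e_ac ac_coe ac_eq_iff)
open Cfsg.Agent.Classification.QDW.TypeHom
open Cfsg.Agent.Lib.SL2Mat (fieldAut)
open Cfsg.Agent.OddCyclic.EN.NatTwo (IsU Fm Fo exists_isU mem_iff_exists e_inj ecj ecj_apply)
open Cfsg.Agent.MinSimple.Geo (cj mem_cj mem_normalizer_iff_cj)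
open Cfsg.Agent.OddCyclic.Bc.Defs (MF)

universe u

variable {H : Type u} [Group H] [Finite H] {V : Type u} [CommGroup V] [Finite V] {ρ : H →* MulAut V}
  {S T O E L U U' : Subgroup H} {ξ : H} {H₁ : Subgroup V} {F : Type} [Field F] [Fintype F] [CharP F 2]

section nat

theorem eq_of_ac (hl : EmpFFList.Lin ρ L F) [L.Normal] (e : SpecialLinearGroup (Fin 2) F ≃* L) {x y : H}
    (hxy : ac e x = ac e y) : x = y := by
  rw [ac_eq_iff] at hxy
  have h1 : y⁻¹ * x ∈ centralizer (L : Set H) := by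
    rw [mem_centralizer_iff]
    intro g hg
    have h2 := hxy g hg
    calc g * (y⁻¹ * x) = y⁻¹ * (y * g * y⁻¹) * x := by group
      _ = y⁻¹ * (x * g * x⁻¹) * x := by rw [h2]
      _ = y⁻¹ * x * g := by group
  rw [hl.cent, mem_bot] at h1
  exact (inv_mul_eq_one.1 h1).symm

theorem mem_iff_typ (hl : EmpFFList.Lin ρ L F) [L.Normal] (e : SpecialLinearGroup (Fin 2) F ≃* L) {x : H} :
    x ∈ L ↔ typ (ac e x) = 1 := by
  constructor
  · intro hx
    obtain ⟨s, rfl⟩ := (mem_iff_exists e).1 hx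
    rw [ac_coe]
    exact L2Model.typ_conj s
  · intro hx
    obtain ⟨s, hs⟩ := (L2Model.inner_iff _).1 hx
    rw [← ac_coe e s] at hs
    rw [eq_of_ac hl e hs]
    exact (e s).2

/-- outer involutions are field automorphisms -/
theorem exists_outer (hl : EmpFFList.Lin ρ L F) {t : H} (ht : t * t = 1) (htL : t ∉ L) :
    ∃ (e : SpecialLinearGroup (Fin 2) F ≃* L) (σ : F ≃+* F), σ ≠ 1 ∧ (∀ a, σ (σ a) = a) ∧
      ∀ s, t * (e s : L) * t⁻¹ = (e (fieldAut σ s) : L) := by
  have := hl.norm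
  obtain ⟨e'⟩ := hl.iso
  set e := e'.symm
  have h1 : typ (ac e t) ≠ 1 := fun h1 => htL ((mem_iff_typ hl e).2 h1)
  have h2 : ac e t * ac e t = 1 := by rw [← map_mul, ht, map_one]
  obtain ⟨g, hg⟩ := L2Model.exists_std h2 h1
  refine ⟨ecj e g, typ (ac e t), h1, fun a => L2Model.typ_mul_self h2 a, fun s => ?_⟩
  rw [ecj_apply, ← e_ac, ecj_apply]
  congr 2
  conv_lhs => rw [hg]
  rw [MulAut.mul_apply, MulAut.mul_apply, ← map_inv, MulAut.conj_apply, MulAut.conj_apply]
  congr 3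
  group

theorem mul_mem_L (hl : EmpFFList.Lin ρ L F) {s t : H} (hs : s * s = 1) (hsL : s ∉ L) (ht : t * t = 1) (htL : t ∉ L) :
    s * t ∈ L := by
  have := hl.norm
  obtain ⟨e'⟩ := hl.iso
  set e := e'.symm
  have h1 : typ (ac e s) ≠ 1 := fun h1 => hsL ((mem_iff_typ hl e).2 h1)
  have h2 : typ (ac e t) ≠ 1 := fun h1 => htL ((mem_iff_typ hl e).2 h1)
  have h3 : typ (ac e s) * typ (ac e s) = 1 := by rw [← map_mul, ← map_mul, hs, map_one, map_one]
  have h4 : typ (ac e t) * typ (ac e t) = 1 := by rw [← map_mul, ← map_mul, ht, map_one, map_one]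
  have h5 := L2Borel.ringAut_invol h3 h4 h1 h2
  refine (mem_iff_typ hl e).2 ?_
  rw [map_mul, map_mul, ← h5, h3]

theorem isNat (hV : ∀ v : V, v * v = 1) (hinj : Function.Injective ρ) (hl : EmpFFList.Lin ρ L F)
    (e : L ≃* SpecialLinearGroup (Fin 2) F) : IsNat (ρ.comp (L.subtype.comp e.symm.toMonoidHom)) := by
  obtain ⟨U, hU, -⟩ := exists_isU e.symm (A := ⊥) bot_le (IsPGroup.of_bot)
  refine COneXL.isNat_of_lin hV hinj (fun a ha => hU.sq e.symm ha) hU.le hl.four e hU.card ?_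
  have h1 := (hl.syl U hU.le hU.two hU.card).1
  have h2 := (CS ρ U).card_mul_index
  rw [h1, hl.card, sq] at h2
  exact Nat.eq_of_mul_eq_mul_left Fintype.card_pos h2

/-- elements of odd order of `L` are fixed point free -/
theorem fpf (hV : ∀ v : V, v * v = 1) (hinj : Function.Injective ρ) (hl : EmpFFList.Lin ρ L F) {y : H} (hy : y ∈ L)
    (ho : Odd (orderOf y)) (hy1 : y ≠ 1) : fx ρ y = ⊥ := by
  obtain ⟨e⟩ := hl.iso
  rw [eq_bot_iff, ← hl.bot]
  exact COneXL.fpf_of_nat e (isNat hV hinj hl e) hy ho hy1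

theorem card_CS (hl : EmpFFList.Lin ρ L F) (hU : IsU L U F) : Nat.card (CS ρ U) = Fintype.card F :=
  (hl.syl U hU.le hU.two hU.card).1

theorem fx_eq (hl : EmpFFList.Lin ρ L F) (hU : IsU L U F) {a : H} (ha : a ∈ U) (ha1 : a ≠ 1) : fx ρ a = CS ρ U :=
  (hl.syl U hU.le hU.two hU.card).2 a ha ha1

theorem odd_dg (s : Fˣ) : Odd (orderOf (dg s : SpecialLinearGroup (Fin 2) F)) := by
  have h1 : orderOf (dg s : SpecialLinearGroup (Fin 2) F) ∣ Fintype.card F - 1 := by
    apply orderOf_dvd_of_pow_eq_one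
    rw [← dgHom_apply, ← map_pow]
    have : s ^ (Fintype.card F - 1) = 1 := by
      have h2 : Nat.card Fˣ = Fintype.card F - 1 := by
        rw [Nat.card_units, Nat.card_eq_fintype_card]
      rw [← h2]
      exact pow_card_eq_one'
    rw [this, map_one]
  obtain ⟨n, hn, hF⟩ := card_pow F
  have h3 : Odd (Fintype.card F - 1) := by
    have h4 : Even (Fintype.card F) := by
      rw [hF]; exact (Nat.even_pow.2 ⟨even_two, hn.ne'⟩)
    exact Nat.Even.sub_odd Fintype.card_pos h4 odd_one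
  exact Odd.of_dvd_nat h3 h1

/-- outer involutions have few fixed points -/
theorem le_index_outer (hV : ∀ v : V, v * v = 1) (hinj : Function.Injective ρ) (hl : EmpFFList.Lin ρ L F) {t : H}
    (ht : t * t = 1) (htL : t ∉ L) : Fintype.card F ≤ (fx ρ t).index := by
  obtain ⟨e, σ, hσ, hσ2, he⟩ := exists_outer hl ht htL
  obtain ⟨a, ha⟩ : ∃ a, σ a ≠ a := by
    by_contra hcon
    push Not at hcon
    apply hσ
    ext a
    exact hcon a
  have ha0 : a ≠ 0 := by
    rintro rfl
    exact ha (map_zero σ)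
  have hσa0 : σ a ≠ 0 := by
    rw [Ne, map_eq_zero]; exact ha0
  set u : Fˣ := Units.mk0 (σ a) hσa0 * (Units.mk0 a ha0)⁻¹ with hu
  have hu1 : u ≠ 1 := by
    intro h1
    rw [hu, mul_inv_eq_one] at h1
    exact ha (congrArg Units.val h1)
  set y : H := ((e (dg u) : L) : H) with hy
  have hyo : Odd (orderOf y) := by
    rw [hy, Subgroup.orderOf_coe, MulEquiv.orderOf_eq]
    exact odd_dg u
  have hy1 : y ≠ 1 := by
    intro h1
    have h2 : e (dg u) = 1 := Subtype.ext h1
    rw [MulEquiv.map_eq_one_iff, ← dgHom_apply] at h2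
    exact hu1 (dgHom_injective (h2.trans (map_one dgHom).symm))
  have h3 : σ (u : F) = ((u⁻¹ : Fˣ) : F) := by
    rw [hu, Units.val_inv_eq_inv_val, Units.val_mul, Units.val_inv_eq_inv_val, Units.val_mk0, Units.val_mk0,
      map_mul, map_inv₀, hσ2, _root_.mul_inv_rev, inv_inv]
  have h4 : σ ((u⁻¹ : Fˣ) : F) = (u : F) := by
    rw [← h3, hσ2]
  have h6 : fieldAut σ (dg u) = (dg u)⁻¹ := by
    apply ext2
    · rw [FFOuter.fieldAut_apply, inv00, dg00, dg11, h3]
    · rw [FFOuter.fieldAut_apply, inv01, dg01, map_zero, neg_zero]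
    · rw [FFOuter.fieldAut_apply, inv10, dg10, map_zero, neg_zero]
    · rw [FFOuter.fieldAut_apply, inv11, dg11, dg00, h4]
  have hinv : t * y * t⁻¹ = y⁻¹ := by
    rw [hy, he, h6, map_inv, Subgroup.coe_inv]
  have h5 := half' ρ hyo hinv
  rw [fpf hV hinj hl (e (dg u)).2 hyo hy1, index_bot, hl.card] at h5
  exact (Nat.pow_le_pow_iff_left (by norm_num)).1 h5

theorem card_fx_outer (hV : ∀ v : V, v * v = 1) (hinj : Function.Injective ρ) (hl : EmpFFList.Lin ρ L F) {t : H}
    (ht : t * t = 1) (htL : t ∉ L) : Nat.card (fx ρ t) ≤ Fintype.card F := by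
  have h1 := le_index_outer hV hinj hl ht htL
  have h2 := (fx ρ t).card_mul_index
  rw [hl.card, sq] at h2
  have h3 : 0 < Fintype.card F := Fintype.card_pos
  by_contra hcon
  push Not at hcon
  have h4 : Fintype.card F * Fintype.card F < Nat.card (fx ρ t) * (fx ρ t).index :=
    Nat.mul_lt_mul_of_lt_of_le hcon h1 (lt_of_lt_of_le h3 h1)
  omega

/-- involutions have index at most `q` -/
theorem card_le_fx (hV : ∀ v : V, v * v = 1) (hl : EmpFFList.Lin ρ L F) {t : H} (ht : t * t = 1) :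
    Fintype.card F ≤ Nat.card (fx ρ t) := by
  have h1 : (cm ρ t).range ≤ fx ρ t := by
    rintro _ ⟨v, rfl⟩
    rw [cm_apply, mem_fx, map_mul, map_inv, ← MulAut.mul_apply, ← map_mul, ht, map_one, MulAut.one_apply]
    have h2 := hV (ρ t v)
    have h3 := hV v
    have h4 : (ρ t v)⁻¹ = ρ t v := inv_eq_of_mul_eq_one_left h2
    have h5 : v⁻¹ = v := inv_eq_of_mul_eq_one_left h3
    rw [h4, h5, mul_comm]
  have h2 := Nat.card_le_card_of_injective _ (Subgroup.inclusion_injective h1)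
  rw [card_range_cm] at h2
  have h3 := (fx ρ t).card_mul_index
  rw [hl.card] at h3
  by_contra hcon
  push Not at hcon
  have h4 : Nat.card (fx ρ t) * (fx ρ t).index < Fintype.card F * Fintype.card F := by
    calc Nat.card (fx ρ t) * (fx ρ t).index ≤ Nat.card (fx ρ t) * Nat.card (fx ρ t) := Nat.mul_le_mul_left _ h2
      _ < Fintype.card F * Fintype.card F := Nat.mul_lt_mul_of_lt_of_le hcon hcon.le Fintype.card_pos
  rw [h3, sq] at h4
  exact lt_irrefl _ h4

end nat

section frame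

theorem cj_eq (e₀ : SpecialLinearGroup (Fin 2) F ≃* L) (hL : L.Normal) (hU : IsU L U F) {g d : H} (hd : d ∈ U)
    (hd1 : d ≠ 1) (hgd : g * d * g⁻¹ ∈ U) : cj g U = U := by
  by_contra hne
  apply hd1
  have h1 : g * d * g⁻¹ = 1 := IsU.inf e₀ (hU.cj hL g) hU hne (by
    rw [mem_cj]
    have : g⁻¹ * (g * d * g⁻¹) * g = d := by group
    rw [this]; exact hd) hgd
  have h2 : d = g⁻¹ * (g * d * g⁻¹) * g := by group
  rw [h2, h1]; group

theorem mem_of_cj (e₀ : SpecialLinearGroup (Fin 2) F ≃* L) (hU : IsU L U F) {g : H} (hg : g ∈ L)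
    (h2 : g * g = 1) (hc : cj g U = U) : g ∈ U := by
  have : Fact (Nat.Prime 2) := ⟨Nat.prime_two⟩
  have hz : IsPGroup 2 (zpowers g) := by
    rintro ⟨y, k, rfl⟩
    refine ⟨1, Subtype.ext ?_⟩
    show (g ^ k) ^ 2 ^ 1 = 1
    rw [pow_one, ← zpow_natCast, ← _root_.zpow_mul, mul_comm, _root_.zpow_mul]
    have : g ^ ((2 : ℕ) : ℤ) = 1 := by rw [zpow_natCast, pow_two, h2]
    rw [this, _root_.one_zpow]
  have hn : zpowers g ≤ normalizer (U : Set H) := by
    rw [zpowers_le]
    exact mem_normalizer_iff_cj.2 hc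
  have h3 : IsPGroup 2 (U ⊔ zpowers g : Subgroup H) := IsPGroup.to_sup_of_normal_left' hU.two hz hn
  obtain ⟨U', hU', hle⟩ := exists_isU e₀ (A := U ⊔ zpowers g) (sup_le hU.le (zpowers_le.2 hg)) h3
  have h4 : U = U' := Subgroup.eq_of_le_of_card_ge (le_sup_left.trans hle) (by rw [hU.card, hU'.card])
  rw [h4]
  exact hle ((le_sup_right : zpowers g ≤ _) (mem_zpowers g))

theorem card_le_two_of {B : Subgroup H} {a : H} (h : ∀ b ∈ B, b = 1 ∨ b = a) : Nat.card B ≤ 2 := by
  classical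
  let f : B → Bool := fun x => decide ((x : H) = 1)
  have hf : Function.Injective f := by
    intro x x' hx
    have h1 : ((x : H) = 1) ↔ ((x' : H) = 1) := by
      simpa [f] using hx
    apply Subtype.ext
    rcases h x x.2 with h2 | h2
    · rw [h2, h1.1 h2]
    · rcases h x' x'.2 with h3 | h3
      · rw [h3, h1.2 h3]
      · rw [h2, h3]
  have h1 := Nat.card_le_card_of_injective _ hf
  simpa using h1

/-- `q = 4`: a primitive third root of unity -/
theorem exists_om (h4 : Fintype.card F = 4) : ∃ w : F, w * w + w + 1 = 0 := by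
  have h1 : Nat.card Fˣ = 3 := by rw [Nat.card_units, Nat.card_eq_fintype_card, h4]
  have : Nontrivial Fˣ := by
    rw [← Finite.one_lt_card_iff_nontrivial, h1]; norm_num
  obtain ⟨u, hu⟩ := exists_ne (1 : Fˣ)
  have h3 : u ^ 3 = 1 := by rw [← h1]; exact pow_card_eq_one'
  refine ⟨u, ?_⟩
  have h5 : ((u : F) - 1) * ((u : F) * u + u + 1) = 0 := by
    have : ((u : F) - 1) * ((u : F) * u + u + 1) = (u : F) ^ 3 - 1 := by ring
    rw [this, ← Units.val_pow_eq_pow_val, h3, Units.val_one, sub_self]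
  rcases mul_eq_zero.1 h5 with h6 | h6
  · exfalso
    apply hu
    apply Units.ext
    rw [Units.val_one]
    exact sub_eq_zero.1 h6
  · exact h6

/-- (1.6)(i) -/
theorem not_le (h : MF ρ S T O E ξ H₁) (hl : EmpFFList.Lin ρ L F) (hξ : ξ ∈ L) : ¬ E ≤ L := by
  intro hEL
  have : Fact (Nat.Prime 2) := ⟨Nat.prime_two⟩
  obtain ⟨e'⟩ := hl.iso
  set e₀ := e'.symm
  have hLn := hl.norm
  obtain ⟨e, heE, heO⟩ := h.exists_e
  have hee := h.E_sq e heE
  have he1 : e ≠ 1 := by
    rintro rfl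
    exact heO (one_mem _)
  have hξ3 : ξ * ξ * ξ = 1 := by
    have := pow_orderOf_eq_one ξ
    rwa [h.ξ3, pow_succ, pow_two] at this
  have hξ1 : ξ ≠ 1 := by
    rintro rfl
    have := h.ξ3
    rw [orderOf_one] at this
    omega
  have hO2 : IsPGroup 2 O := h.two.to_le (h.O_le.trans h.T_le)
  -- `O ∩ L = 1`
  have hOL : O ⊓ L = ⊥ := by
    by_contra hne
    obtain ⟨⟨d, hdO, hdL⟩, hd1'⟩ := ne_bot_iff_exists_ne_one.1 hne
    have hd1 : d ≠ 1 := fun hd => hd1' (Subtype.ext hd)
    obtain ⟨U, hU, hOU⟩ := exists_isU e₀ (A := O ⊓ L) inf_le_right (hO2.to_le inf_le_left)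
    have hc : ∀ g ∈ L, g ∈ normalizer (O : Set H) → cj g U = U := by
      intro g hg hgO
      refine cj_eq e₀ hLn hU (hOU ⟨hdO, hdL⟩) hd1 (hOU ⟨(mem_normalizer_iff.1 hgO d).1 hdO, ?_⟩)
      exact hLn.conj_mem d hdL g
    have heU : e ∈ U := mem_of_cj e₀ hU (hEL heE) hee (hc e (hEL heE) (h.T_norm (h.E_le heE)))
    have hξU := hc ξ hξ h.ξ_norm
    have h1 : e * ξ * e⁻¹ * ξ ∈ U := by
      refine hOU ⟨h.inv e (h.E_le heE) heO, ?_⟩
      exact L.mul_mem (L.mul_mem (L.mul_mem (hEL heE) hξ) (L.inv_mem (hEL heE))) hξ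
    have h2 : ξ * e⁻¹ * ξ⁻¹ ∈ U := by
      rw [← hξU, mem_cj]
      have : ξ⁻¹ * (ξ * e⁻¹ * ξ⁻¹) * ξ = e⁻¹ := by group
      rw [this]; exact U.inv_mem heU
    have h3 : ξ * ξ ∈ U := by
      have h4 := mul_mem (inv_mem (mul_mem heU h2)) h1
      have : (e * (ξ * e⁻¹ * ξ⁻¹))⁻¹ * (e * ξ * e⁻¹ * ξ) = ξ * ξ := by group
      rwa [this] at h4
    have h5 := hU.sq e₀ h3
    apply hξ1
    have h6 : ξ * ξ * (ξ * ξ) = ξ * ξ * ξ * ξ := by group
    rw [h6, hξ3, one_mul] at h5
    exact h5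
  -- `|E| ≤ 2`
  have hcE : Nat.card E ≤ 2 := by
    apply card_le_two_of (a := e)
    intro x hx
    have key : ∀ y ∈ E, y ∈ O → y = 1 := by
      intro y hyE hyO
      have : y ∈ O ⊓ L := ⟨hyO, hEL hyE⟩
      rwa [hOL, mem_bot] at this
    by_cases hxO : x ∈ O
    · exact Or.inl (key x hx hxO)
    · right
      have hidx : (O.subgroupOf T).index = 2 := h.rel
      have h1 := Subgroup.mul_mem_iff_of_index_two hidx (a := ⟨x, h.E_le hx⟩) (b := ⟨e, h.E_le heE⟩)
      have h2 : x * e ∈ O := by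
        have h3 : ((⟨x, h.E_le hx⟩ : T) * ⟨e, h.E_le heE⟩) ∈ O.subgroupOf T := by
          rw [h1]
          exact ⟨fun h4 => absurd h4 hxO, fun h4 => absurd h4 heO⟩
        exact h3
      have h3 := key _ (mul_mem hx heE) h2
      calc x = x * e * e := by rw [mul_assoc, hee, mul_one]
        _ = e := by rw [h3, one_mul]
  have hind : H₁.index ≤ 4 := h.ind.trans (by omega)
  -- the Sylow subgroup of `e`
  have hz : IsPGroup 2 (zpowers e) := h.two.to_le ((zpowers_le.2 (h.E_le heE)).trans h.T_le)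
  obtain ⟨U, hU, heU'⟩ := exists_isU e₀ (A := zpowers e) (zpowers_le.2 (hEL heE)) hz
  have heU : e ∈ U := heU' (mem_zpowers e)
  have hfx := fx_eq hl hU heU he1
  have hcU := card_CS hl hU
  have hH₁ : H₁ ≤ CS ρ U := by
    rw [← hfx]
    exact h.H₁_le.trans (CS_le_fx heE)
  have hc1 := H₁.card_mul_index
  rw [hl.card, sq] at hc1
  have hc2 : Nat.card H₁ ≤ Fintype.card F := by
    rw [← hcU]
    exact Nat.card_le_card_of_injective _ (Subgroup.inclusion_injective hH₁)
  have h4 := hl.four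
  have hq : Fintype.card F = 4 := by
    by_contra hne
    have h5 : 4 < Fintype.card F := by omega
    have h6 : Nat.card H₁ * H₁.index < Fintype.card F * Fintype.card F :=
      Nat.mul_lt_mul_of_le_of_lt hc2 (by omega) (by omega)
    omega
  have hcH : Nat.card H₁ = 4 := by
    rw [hq] at hc1 hc2
    have : 0 < H₁.index := Nat.pos_of_ne_zero Subgroup.index_ne_zero_of_finite
    interval_cases hh : Nat.card H₁ <;> omega
  have hHU : H₁ = CS ρ U := Subgroup.eq_of_le_of_card_ge hH₁ (by rw [hcU, hcH, hq])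
  obtain ⟨g, hgL, hg3, hgU⟩ := hU.torus e₀ (exists_om hq)
  have hg1 : g ≠ 1 := by
    rintro rfl
    rw [orderOf_one] at hg3
    omega
  have h7 := h.three g hg3 H₁ le_rfl (by
    intro v hv
    rw [hHU] at hv ⊢
    exact CS_stable (mem_normalizer_iff_cj.2 hgU) hv)
  have h8 : H₁ ≤ ⊥ := by
    rw [← fpf h.sq h.inj hl hgL (by rw [hg3]; decide) hg1]
    exact h7
  rw [le_bot_iff.1 h8, card_bot] at hcH
  omega

/-- `|E ∩ L| ≤ q₀`, `q = q₀²` -/
theorem card_inf_le (hl : EmpFFList.Lin ρ L F) (hE : ∀ a ∈ E, a * a = 1) {b : H} (hb : b ∈ E) (hbL : b ∉ L) :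
    ∃ q : ℕ, Fintype.card F = q ^ 2 ∧ Nat.card (E ⊓ L : Subgroup H) ≤ q := by
  have hLn := hl.norm
  obtain ⟨e'⟩ := hl.iso
  set e := e'.symm
  have hcomm : ∀ x ∈ E, b * x = x * b := fun x hx => comm_of_sq hE hb hx
  have h1' : typ (ac e b) ≠ 1 := fun h1 => hbL ((mem_iff_typ hl e).2 h1)
  have h2' : ac e b * ac e b = 1 := by rw [← map_mul, hE b hb, map_one]
  obtain ⟨q, hq, hc⟩ := L2Model.card_fix h2' h1'
  have hcF : Nat.card F = Fintype.card F := Nat.card_eq_fintype_card
  rw [hcF] at hq hc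
  refine ⟨q, hq, ?_⟩
  have hq0 : 0 < q := by
    rcases Nat.eq_zero_or_pos q with h0 | h0
    · rw [h0] at hq
      have := Fintype.card_pos (α := F)
      omega
    · exact h0
  have h1 : Nat.card (E ⊓ L : Subgroup H) ∣ Nat.card (L2Model.fix (ac e b)) := by
    let f : (E ⊓ L : Subgroup H) →* L2Model.fix (ac e b) :=
      { toFun := fun x => ⟨e.symm ⟨x, x.2.2⟩, by
          rw [L2Model.mem_fix]
          apply e.injective
          apply Subtype.ext
          rw [e_ac, e.apply_symm_apply]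
          show b * (x : H) * b⁻¹ = x
          rw [hcomm x x.2.1, mul_inv_cancel_right]⟩
        map_one' := Subtype.ext (map_one e.symm)
        map_mul' := fun x y => Subtype.ext (by
          show e.symm _ = e.symm _ * e.symm _
          rw [← map_mul]; rfl) }
    have hf : Function.Injective f := by
      intro x y hxy
      have h2 := congrArg Subtype.val hxy
      have h3 := e.symm.injective h2
      exact Subtype.ext (congrArg (fun z : L => (z : H)) h3)
    rw [Nat.card_congr (MonoidHom.ofInjective hf).toEquiv]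
    exact f.range.card_subgroup_dvd_card
  have hp : IsPGroup 2 (E ⊓ L : Subgroup H) := fun a => ⟨1, by
    rw [pow_one, pow_two]; exact Subtype.ext (hE a a.2.1)⟩
  have : Fact (Nat.Prime 2) := ⟨Nat.prime_two⟩
  obtain ⟨m, hm⟩ := (IsPGroup.iff_card (p := 2)).1 hp
  rw [hm, hc] at h1
  rw [hm]
  apply Nat.le_of_dvd hq0
  refine Nat.Coprime.dvd_of_dvd_mul_right ?_ h1
  obtain ⟨n, hn, hF⟩ := card_pow F
  rw [hF]
  apply Nat.Coprime.pow_left
  rw [Nat.coprime_two_left]
  have h5 : Even (2 ^ n) := (Nat.even_pow' hn.ne').2 even_two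
  have h6 : 0 < 2 ^ n := by positivity
  rcases h5 with ⟨r, hr⟩
  exact ⟨r - 1, by omega⟩

/-- `|E| ≤ 2 |E ∩ L|` -/
theorem card_le_two_mul (hl : EmpFFList.Lin ρ L F) (hE : ∀ a ∈ E, a * a = 1) {b : H} (hb : b ∈ E) (hbL : b ∉ L) :
    Nat.card E ≤ 2 * Nat.card (E ⊓ L : Subgroup H) := by
  have h1 : (L.subgroupOf E).index = 2 := by
    rw [Subgroup.index_eq_two_iff]
    refine ⟨⟨b, hb⟩, fun c => ?_⟩
    by_cases hc : (c : H) ∈ L
    · refine Or.inr ⟨hc, fun h => hbL ?_⟩
      have h1 : (c : H) * b ∈ L := h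
      have h2 := mul_mem (inv_mem hc) h1
      rwa [inv_mul_cancel_left] at h2
    · exact Or.inl ⟨mul_mem_L hl (hE c c.2) hc (hE b hb) hbL, hc⟩
  have h2 := (L.subgroupOf E).card_mul_index
  rw [h1] at h2
  have h3 : Nat.card (L.subgroupOf E) = Nat.card (E ⊓ L : Subgroup H) := by
    rw [← Subgroup.inf_subgroupOf_left]
    exact Nat.card_congr (subgroupOfEquivOfLe inf_le_left).toEquiv
  omega

/-- an outer involution does not centralise `C_V(U)` -/
theorem not_CS_le (hV : ∀ v : V, v * v = 1) (hinj : Function.Injective ρ) (hl : EmpFFList.Lin ρ L F) {t : H}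
    (ht : t * t = 1) (htL : t ∉ L) (hU : IsU L U F) : ¬ CS ρ U ≤ fx ρ t := by
  intro hle
  have hLn := hl.norm
  obtain ⟨e, σ, hσ, hσ2, he⟩ := exists_outer hl ht htL
  have heq : CS ρ U = fx ρ t :=
    Subgroup.eq_of_le_of_card_ge hle (by rw [card_CS hl hU]; exact card_fx_outer hV hinj hl ht htL)
  have key : ∀ s : SpecialLinearGroup (Fin 2) F, s * s = 1 → fieldAut σ s = s → ((e s : L) : H) ∈ U := by
    intro s hs hσs
    set g : H := ((e s : L) : H) with hg
    have htg : t * g = g * t := by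
      have h1 := he s
      rw [hσs] at h1
      rw [← hg] at h1
      calc t * g = t * g * t⁻¹ * t := by group
        _ = g * t := by rw [h1]
    have hgg : g * g = 1 := by
      rw [hg, ← Subgroup.coe_mul, ← map_mul, hs, map_one, Subgroup.coe_one]
    apply mem_of_cj e hU (e s).2 hgg
    by_contra hne
    have h2 : L ≤ U ⊔ cj g U := IsU.gen e hU (hU.cj hLn g) (fun h => hne h.symm) le_sup_left le_sup_right
    have h3 : CS ρ U ≤ CS ρ (cj g U) := by
      intro w hw x hx
      rw [mem_cj] at hx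
      have h4 : ρ g⁻¹ w ∈ CS ρ U := by
        rw [heq] at hw ⊢
        rw [mem_fx] at hw ⊢
        have h5 : t * g⁻¹ = g⁻¹ * t := by
          have : g⁻¹ = g := inv_eq_of_mul_eq_one_left hgg
          rw [this, htg]
        rw [← MulAut.mul_apply, ← map_mul, h5, map_mul, MulAut.mul_apply, hw]
      have h5 := h4 _ hx
      rw [← MulAut.mul_apply, ← map_mul] at h5
      have h6 : ρ g (ρ (g⁻¹ * x * g * g⁻¹) w) = ρ g (ρ g⁻¹ w) := congrArg _ h5
      rw [← MulAut.mul_apply, ← map_mul, ← MulAut.mul_apply, ← map_mul] at h6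
      have e1 : g * (g⁻¹ * x * g * g⁻¹) = x := by group
      rw [e1, mul_inv_cancel, map_one, MulAut.one_apply] at h6
      exact h6
    have h4 : CS ρ U ≤ CS ρ L := by
      refine le_trans ?_ (CS_anti h2)
      rw [CS_sup]
      exact le_inf le_rfl h3
    rw [hl.bot, le_bot_iff] at h4
    have h5 := card_CS hl hU
    rw [h4, card_bot] at h5
    have := hl.four
    omega
  have h1 := key (up 1) (by rw [up_mul, CharTwo.add_self_eq_zero, up_zero]) (by
    rw [FFOuter.fieldAut_up', map_one])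
  have hlo2 : lo (1 : F) * lo 1 = 1 := by
    have h2 : (2 : F) = 0 := CharTwo.two_eq_zero
    apply ext2
    · rw [mul00]; simp
    · rw [mul01]; simp
    · rw [mul10]; simp; linear_combination h2
    · rw [mul11]; simp
  have h2 := key (lo 1) hlo2 (by
    apply ext2 <;> rw [FFOuter.fieldAut_apply] <;> simp)
  have h3 := IsU.comm e hU h1 h2
  have h4 : up (1 : F) * lo 1 = lo 1 * up 1 := by
    apply e.injective
    apply Subtype.ext
    rw [map_mul, map_mul, Subgroup.coe_mul, Subgroup.coe_mul]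
    exact h3
  have h5 := congrArg (fun y : SpecialLinearGroup (Fin 2) F => y 0 0) h4
  simp only [mul00, up00, up01, lo00, lo01, lo10, up10] at h5
  have h6 : (1 : F) = 0 := by linear_combination h5
  exact one_ne_zero h6

/-- the outcome -/
structure Out (ρ : H →* MulAut V) (E : Subgroup H) (H₁ : Subgroup V) (F : Type) [Fintype F] : Prop where
  four : Fintype.card F = 4
  cardV : Nat.card V = 16
  H₁_eq : H₁ = CS ρ E
  card_H₁ : Nat.card H₁ = 2
  card_E : Nat.card E = 4
  inv : ∀ t : H, t * t = 1 → t ≠ 1 → (fx ρ t).index = 4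
  iso : Nonempty (H ≃* Equiv.Perm (Fin 5))

theorem exists_iso (hl : EmpFFList.Lin ρ L F) (hF : Fintype.card F = 4) {b : H} (hbL : b ∉ L) :
    Nonempty (H ≃* Equiv.Perm (Fin 5)) := by
  have hLn := hl.norm
  obtain ⟨e'⟩ := hl.iso
  set e := e'.symm
  have h1 : Nat.card (Sylow 2 (SpecialLinearGroup (Fin 2) F)) = 5 := by rw [FFOuter.card_syl, hF]
  have hfin : Finite (Sylow 2 (SpecialLinearGroup (Fin 2) F)) := Nat.finite_of_card_ne_zero (by rw [h1]; norm_num)
  have h2 : Nat.card (Equiv.Perm (Sylow 2 (SpecialLinearGroup (Fin 2) F))) = 120 := by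
    rw [Nat.card_perm, h1]; rfl
  let f : H →* Equiv.Perm (Sylow 2 (SpecialLinearGroup (Fin 2) F)) :=
    (MulAction.toPermHom (MulAut (SpecialLinearGroup (Fin 2) F)) _).comp (ac e)
  have hf : Function.Injective f := by
    rw [injective_iff_map_eq_one]
    intro x hx
    apply eq_of_ac hl e
    rw [map_one]
    exact FFOuter.eq_one_of_syl _ (fun U => DFunLike.congr_fun hx U)
  have h3 : 120 ≤ Nat.card H := by
    have h4 : L.index ≠ 1 := by
      intro h4
      rw [index_eq_one] at h4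
      exact hbL (by rw [h4]; trivial)
    have h5 : L.index ≠ 0 := Subgroup.index_ne_zero_of_finite
    have h6 := L.card_mul_index
    have h7 : Nat.card L = 60 := by
      rw [← Nat.card_congr e.toEquiv, card_sl2, hF]
    rw [← h6, h7]
    have : 2 ≤ L.index := by omega
    omega
  have h4 := Nat.card_le_card_of_injective f hf
  have h5 : Function.Bijective f := by
    rw [Nat.bijective_iff_injective_and_card]
    exact ⟨hf, by omega⟩
  have g : Sylow 2 (SpecialLinearGroup (Fin 2) F) ≃ Fin 5 := Finite.equivFinOfCardEq h1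
  exact ⟨(MulEquiv.ofBijective f h5).trans g.permCongrHom⟩

theorem index_inv (hV : ∀ v : V, v * v = 1) (hinj : Function.Injective ρ) (hl : EmpFFList.Lin ρ L F) {t : H}
    (ht : t * t = 1) (ht1 : t ≠ 1) : (fx ρ t).index = Fintype.card F := by
  have h1 : Nat.card (fx ρ t) = Fintype.card F := by
    by_cases htL : t ∈ L
    · obtain ⟨e'⟩ := hl.iso
      have hz : IsPGroup 2 (zpowers t) := by
        rintro ⟨y, k, rfl⟩
        refine ⟨1, Subtype.ext ?_⟩
        show (t ^ k) ^ 2 ^ 1 = 1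
        rw [pow_one, ← zpow_natCast, ← _root_.zpow_mul, mul_comm, _root_.zpow_mul]
        have : t ^ ((2 : ℕ) : ℤ) = 1 := by rw [zpow_natCast, pow_two, ht]
        rw [this, _root_.one_zpow]
      obtain ⟨U, hU, htU⟩ := exists_isU e'.symm (A := zpowers t) (zpowers_le.2 htL) hz
      rw [fx_eq hl hU (htU (mem_zpowers t)) ht1, card_CS hl hU]
    · exact le_antisymm (card_fx_outer hV hinj hl ht htL) (card_le_fx hV hl ht)
  have h2 := (fx ρ t).card_mul_index
  rw [h1, hl.card, sq] at h2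
  exact Nat.eq_of_mul_eq_mul_left Fintype.card_pos h2

/-- **section 4, LIN** -/
theorem main (h : MF ρ S T O E ξ H₁) (hl : EmpFFList.Lin ρ L F) (hξ : ξ ∈ L) : Out ρ E H₁ F := by
  obtain ⟨b, hbE, hbL⟩ := SetLike.not_le_iff_exists.1 (not_le h hl hξ)
  have hbb := h.E_sq b hbE
  have hLn := hl.norm
  obtain ⟨e'⟩ := hl.iso
  have h4 := hl.four
  have hq0 : 0 < Fintype.card F := Fintype.card_pos
  have hHb : H₁ ≤ fx ρ b := h.H₁_le.trans (CS_le_fx hbE)
  have hcb := card_fx_outer h.sq h.inj hl hbb hbL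
  have hH1 := H₁.card_mul_index
  rw [hl.card] at hH1
  have hidx := h.ind
  have hE2 := card_le_two_mul hl h.E_sq hbE hbL
  -- `E ∩ L ≠ 1`
  have hEL : E ⊓ L ≠ ⊥ := by
    intro hbot
    rw [hbot, card_bot, mul_one] at hE2
    have hc1 : Nat.card H₁ ≤ Fintype.card F :=
      (Nat.card_le_card_of_injective _ (Subgroup.inclusion_injective hHb)).trans hcb
    have hq : Fintype.card F = 4 := by
      by_contra hne
      have h6 : Nat.card H₁ * H₁.index < Fintype.card F * Fintype.card F :=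
        Nat.mul_lt_mul_of_le_of_lt hc1 (by omega) (by omega)
      rw [hH1, sq] at h6
      exact lt_irrefl _ h6
    have hcH : Nat.card H₁ = 4 := by
      rw [hq] at hH1 hc1
      interval_cases hh : Nat.card H₁ <;> omega
    have hHeq : H₁ = fx ρ b := Subgroup.eq_of_le_of_card_ge hHb (by rw [hcH, ← hq]; exact hcb)
    obtain ⟨e, σ, hσ, hσ2, he⟩ := exists_outer hl hbb hbL
    have h2 : (2 : F) = 0 := CharTwo.two_eq_zero
    obtain ⟨s, hs⟩ : ∃ s : SpecialLinearGroup (Fin 2) F, s = T1Sl2.mk 1 1 1 0 (by linear_combination (-1 : F) * h2) :=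
      ⟨_, rfl⟩
    have hs3 : orderOf s = 3 := order_three (by rw [hs]; simp)
    have hσs : fieldAut σ s = s := by
      rw [hs]
      apply ext2 <;> rw [FFOuter.fieldAut_apply] <;> simp
    set y : H := ((e s : L) : H) with hy
    have hy3 : orderOf y = 3 := by rw [hy, Subgroup.orderOf_coe, MulEquiv.orderOf_eq, hs3]
    have hy1 : y ≠ 1 := by
      intro h1
      rw [h1, orderOf_one] at hy3
      omega
    have hby : b * y = y * b := by
      have h1 := he s
      rw [hσs, ← hy] at h1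
      calc b * y = b * y * b⁻¹ * b := by group
        _ = y * b := by rw [h1]
    have h7 := h.three y hy3 H₁ le_rfl (by
      intro v hv
      rw [hHeq, mem_fx] at hv ⊢
      rw [← MulAut.mul_apply, ← map_mul, hby, map_mul, MulAut.mul_apply, hv])
    have h8 : H₁ ≤ ⊥ := by
      rw [← fpf h.sq h.inj hl (e s).2 (by rw [← hy, hy3]; decide) hy1]
      exact h7
    rw [le_bot_iff.1 h8, card_bot] at hcH
    omega
  obtain ⟨⟨a, haE, haL⟩, ha1'⟩ := ne_bot_iff_exists_ne_one.1 hEL
  have ha1 : a ≠ 1 := fun ha => ha1' (Subtype.ext ha)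
  have hE2p : IsPGroup 2 (E ⊓ L : Subgroup H) := h.two.to_le (inf_le_left.trans (h.E_le.trans h.T_le))
  obtain ⟨U, hU, hEU⟩ := exists_isU e'.symm (A := E ⊓ L) inf_le_right hE2p
  have hHU : CS ρ E ≤ CS ρ U := by
    rw [← fx_eq hl hU (hEU ⟨haE, haL⟩) ha1]
    exact CS_le_fx haE
  have hne : CS ρ E ≠ CS ρ U := by
    intro heq
    apply not_CS_le h.sq h.inj hl hbb hbL hU
    rw [← heq]
    exact CS_le_fx hbE
  have hcE : 2 * Nat.card (CS ρ E) ≤ Fintype.card F := by
    rw [← card_CS hl hU]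
    have h5 : (CS ρ E).relIndex (CS ρ U) ≠ 1 := fun h5 => hne (le_antisymm hHU (relIndex_eq_one.1 h5))
    have h6 : (CS ρ E).relIndex (CS ρ U) ≠ 0 := Subgroup.index_ne_zero_of_finite
    have h7 : Nat.card (CS ρ E) * (CS ρ E).relIndex (CS ρ U) = Nat.card (CS ρ U) := card_mul_relIndex hHU
    rw [← h7, mul_comm 2]
    exact Nat.mul_le_mul_left _ (by omega)
  have hcH : Nat.card H₁ ≤ Nat.card (CS ρ E) :=
    Nat.card_le_card_of_injective _ (Subgroup.inclusion_injective h.H₁_le)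
  obtain ⟨q, hq, hEq⟩ := card_inf_le hl h.E_sq hbE hbL
  have hH0 : 0 < Nat.card H₁ := Nat.card_pos
  -- `q² ≤ |H₁| · 4 q₀ ≤ 2 q q₀`
  have h5 : H₁.index ≤ 4 * q := by omega
  have hqle : q ≤ 2 := by
    have h6 : Fintype.card F * Fintype.card F ≤ Nat.card H₁ * (4 * q) := by
      rw [← sq, ← hH1]
      exact Nat.mul_le_mul_left _ h5
    have h7 : 2 * (Fintype.card F * Fintype.card F) ≤ Fintype.card F * (4 * q) := by
      calc 2 * (Fintype.card F * Fintype.card F) ≤ 2 * (Nat.card H₁ * (4 * q)) := Nat.mul_le_mul_left _ h6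
        _ = (2 * Nat.card H₁) * (4 * q) := by ring
        _ ≤ Fintype.card F * (4 * q) := Nat.mul_le_mul_right _ (by omega)
    have h8 : Fintype.card F ≤ 2 * q := by
      have h9 : Fintype.card F * (2 * Fintype.card F) ≤ Fintype.card F * (4 * q) := by
        calc Fintype.card F * (2 * Fintype.card F) = 2 * (Fintype.card F * Fintype.card F) := by ring
          _ ≤ _ := h7
      have := Nat.le_of_mul_le_mul_left h9 hq0
      omega
    rw [hq, sq] at h8
    have : 0 < q := by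
      rcases Nat.eq_zero_or_pos q with h0 | h0
      · rw [h0] at hq
        omega
      · exact h0
    exact Nat.le_of_mul_le_mul_right h8 this
  have hq2 : q = 2 := by
    interval_cases q
    · omega
    · omega
    · rfl
  have hF : Fintype.card F = 4 := by rw [hq, hq2]; norm_num
  have h2EL : 2 ≤ Nat.card (E ⊓ L : Subgroup H) := by
    have h6 : Nat.card (E ⊓ L : Subgroup H) ≠ 1 := fun h6 => hEL (Subgroup.card_eq_one.1 h6)
    have h7 : 0 < Nat.card (E ⊓ L : Subgroup H) := Nat.card_pos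
    omega
  have hEL2 : Nat.card (E ⊓ L : Subgroup H) = 2 := by omega
  have hcE4 : Nat.card E = 4 := by
    have h6 : (E ⊓ L : Subgroup H) < E := by
      refine lt_of_le_of_ne inf_le_left fun h7 => hbL ?_
      rw [← h7] at hbE
      exact hbE.2
    have h7 : (E ⊓ L).relIndex E ≠ 1 := fun h7 => h6.ne (le_antisymm inf_le_left (relIndex_eq_one.1 h7))
    have h8 : (E ⊓ L).relIndex E ≠ 0 := Subgroup.index_ne_zero_of_finite
    have h9 : Nat.card (E ⊓ L : Subgroup H) * (E ⊓ L).relIndex E = Nat.card E := card_mul_relIndex inf_le_left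
    rw [hEL2] at h9
    omega
  have hcH2 : Nat.card H₁ = 2 := by
    rw [hF] at hH1 hcE
    have h6 : H₁.index ≤ 8 := by omega
    have h7 : Nat.card H₁ ≤ 2 := by omega
    interval_cases hh : Nat.card H₁ <;> omega
  refine ⟨hF, by rw [hl.card, hF]; norm_num, ?_, hcH2, hcE4, fun t ht ht1 => ?_, exists_iso hl hF hbL⟩
  · exact Subgroup.eq_of_le_of_card_ge h.H₁_le (by rw [hcH2]; omega)
  · rw [index_inv h.sq h.inj hl ht ht1, hF]

end frame

end Cfsg.Agent.OddCyclic.Bc.Lin
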