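import Cfsg.Agent.OddCyclic.Bc.Line
import Cfsg.Agent.OddCyclic.Bc.Lin
import Cfsg.Agent.Lib.SylowNormalInf

/-!
# S0342, leaf [Bc], type (b): the `S`-invariant line in the natural `SL₂(4)`-module

* `Ln.of_lin` : `W = C_V(T ∩ L)`;
* `two_three_lin` : elements of `H ≅ S₅` fixing `v ≠ 1` are `{2,3}`-elements.
-/

set_option autoImplicit false
set_option linter.unusedSectionVars false

namespace Cfsg.Agent.OddCyclic.Bc.Line

open Matrix Subgroup Cfsg
open Cfsg.Agent.OddCyclic.T1Defs Cfsg.Agent.OddCyclic.T1Module Cfsg.Agent.OddCyclic.FFBasic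
  Cfsg.Agent.OddCyclic.FFRed Cfsg.Agent.OddCyclic.FFSl2 Cfsg.Agent.OddCyclic.T1Sl2
open Cfsg.Agent.OddCyclic.EN.NatTwo (IsU exists_isU)
open Cfsg.Agent.MinSimple.Geo (mem_normalizer_iff_cj)
open Cfsg.Agent.OddCyclic.EmpC (exists_fixed)

universe u

variable {H : Type u} [Group H] [Finite H] {V : Type u} [CommGroup V] [Finite V] {ρ : H →* MulAut V}
  {T L : Subgroup H} {F : Type} [Field F] [Fintype F] [CharP F 2]

theorem isU_inf (hl : EmpFFList.Lin ρ L F) (hT2 : IsPGroup 2 T) (hTi : ¬ 2 ∣ T.index) : IsU L (T ⊓ L) F := by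
  have hf : Fact (Nat.Prime 2) := ⟨Nat.prime_two⟩
  have hLn := hl.norm
  obtain ⟨e'⟩ := hl.iso
  obtain ⟨TH, hTH⟩ : ∃ TH : Sylow 2 H, (TH : Subgroup H) = T := ⟨hT2.toSylow hTi, rfl⟩
  obtain ⟨U, hU, hle⟩ := exists_isU e'.symm (A := T ⊓ L) inf_le_right (hT2.to_le inf_le_left)
  have h1 := Lib.SylowNormalInf.not_dvd_relIndex TH L
  rw [hTH, ← Subgroup.inf_relIndex_right] at h1
  have h2 : (T ⊓ L).relIndex U ∣ (T ⊓ L).relIndex L := by
    rw [← Subgroup.relIndex_mul_relIndex (T ⊓ L) U L hle hU.le]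
    exact dvd_mul_right _ _
  have h3 : (T ⊓ L).relIndex U = 1 := by
    obtain ⟨n, hn⟩ := (IsPGroup.iff_card.1 hU.two)
    have h4 : (T ⊓ L).relIndex U ∣ Nat.card U := Subgroup.relIndex_dvd_card _ _
    rw [hn] at h4
    obtain ⟨m, -, hm⟩ := (Nat.dvd_prime_pow Nat.prime_two).1 h4
    rcases Nat.eq_zero_or_pos m with h5 | h5
    · rw [hm, h5, pow_zero]
    · exfalso
      apply h1
      refine dvd_trans ?_ h2
      rw [hm]
      exact dvd_pow_self 2 h5.ne'
  have h4 : T ⊓ L = U := le_antisymm hle (Subgroup.relIndex_eq_one.1 h3)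
  rw [h4]
  exact hU

/-- `SL₂(4)` on its natural module -/
theorem Ln.of_lin (hl : EmpFFList.Lin ρ L F) (hF : Fintype.card F = 4) (hsq : ∀ v : V, v * v = 1)
    (hinj : Function.Injective ρ) (hT2 : IsPGroup 2 T) (hTi : ¬ 2 ∣ T.index) {v : V}
    (hv : ∀ w, w ∈ CS ρ T → w = 1 ∨ w = v) (hvT : v ∈ CS ρ T) (hv1 : v ≠ 1) : Ln ρ T v (CS ρ (T ⊓ L)) := by
  have hU := isU_inf hl hT2 hTi
  have hLn := hl.norm
  obtain ⟨e'⟩ := hl.iso
  have hTN : T ≤ normalizer ((T ⊓ L : Subgroup H) : Set H) := by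
    intro t ht
    rw [mem_normalizer_iff]
    intro g
    constructor
    · rintro ⟨h1, h2⟩
      exact ⟨T.mul_mem (T.mul_mem ht h1) (T.inv_mem ht), hLn.conj_mem g h2 t⟩
    · rintro ⟨h1, h2⟩
      have h3 := T.mul_mem (T.mul_mem (T.inv_mem ht) h1) ht
      have h4 := hLn.conj_mem _ h2 t⁻¹
      have e1 : t⁻¹ * (t * g * t⁻¹) * t = g := by group
      have e2 : t⁻¹ * (t * g * t⁻¹) * t⁻¹⁻¹ = g := by group
      rw [e1] at h3
      rw [e2] at h4
      exact ⟨h3, h4⟩
  have hc4 : Nat.card (CS ρ (T ⊓ L)) = 4 := by rw [Lin.card_CS hl hU, hF]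
  refine
    { card := hc4
      mem := CS_anti inf_le_left hvT
      inv := fun t ht w hw => CS_stable (hTN ht) hw
      ex := ?_
      uni := fun U hUT => ?_ }
  · obtain ⟨g, hgL, hg3, hgU⟩ := hU.torus e'.symm (Lin.exists_om hF)
    have hg1 : g ≠ 1 := by
      rintro rfl
      rw [orderOf_one] at hg3
      omega
    refine ⟨g, hg3, fun w hw => CS_stable (mem_normalizer_iff_cj.2 hgU) hw, fun h1 => hv1 ?_⟩
    have h2 := Lin.fpf hsq hinj hl hgL (by rw [hg3]; decide) hg1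
    have h3 : v ∈ fx ρ g := h1
    rw [h2] at h3
    exact mem_bot.1 h3
  · by_contra hcon
    push Not at hcon
    obtain ⟨hU1, hWU⟩ := hcon
    obtain ⟨u, hu, hu1⟩ := SetLike.not_le_iff_exists.1 hU1
    have hzp : ∀ w, w ∈ zpowers v ↔ w = 1 ∨ w = v := fun w =>
      Cfsg.Agent.MinSimple.Geo.mem_zpowers_iff_of_mul_self (hsq v)
    rw [hzp] at hu1
    push Not at hu1
    have hUb : U ≠ ⊥ := by rintro rfl; exact hu1.1 (mem_bot.1 hu)
    have hvU : v ∈ U := by
      obtain ⟨w, hwU, hw1, hwT⟩ := exists_fixed (ρ := ρ) hsq hT2 (W := U) (fun t ht w hw => hUT t ht w hw) hUb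
      rcases hv w hwT with h1 | h1
      · exact absurd h1 hw1
      · rw [← h1]; exact hwU
    apply hWU
    by_cases huC : u ∈ CS ρ (T ⊓ L)
    · -- `CS = {1, v, u, vu}`
      have hf : Cfsg.Agent.GH.L2Aut.Four v u := ⟨hsq v, hsq u, hv1, hu1.1, hu1.2.symm, mul_comm _ _⟩
      have h1 : hf.sub = CS ρ (T ⊓ L) := by
        apply Subgroup.eq_of_le_of_card_ge
        · rintro x (rfl | rfl | rfl | rfl)
          · exact one_mem _
          · exact CS_anti inf_le_left hvT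
          · exact huC
          · exact mul_mem (CS_anti inf_le_left hvT) huC
        · rw [hc4, FFThree.card_sub]
      rw [← h1]
      rintro x (rfl | rfl | rfl | rfl)
      · exact one_mem _
      · exact hvU
      · exact hu
      · exact mul_mem hvU hu
    · -- `a ↦ [u, a]` is injective
      have hmem : ∀ a ∈ T ⊓ L, ρ a u * u⁻¹ ∈ U ⊓ CS ρ (T ⊓ L) := by
        intro a ha
        refine ⟨U.mul_mem (hUT a ha.1 u hu) (U.inv_mem hu), ?_⟩
        change ρ a u * u⁻¹ ∈ CS ρ (T ⊓ L)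
        by_cases ha1 : a = 1
        · rw [ha1, map_one, MulAut.one_apply, mul_inv_cancel]; exact one_mem _
        · rw [← Lin.fx_eq hl hU ha ha1, mem_fx, map_mul, map_inv, ← MulAut.mul_apply, ← map_mul, hU.sq e'.symm ha,
            map_one, MulAut.one_apply]
          have h4 : (ρ a u)⁻¹ = ρ a u := inv_eq_of_mul_eq_one_left (hsq _)
          have h5 : u⁻¹ = u := inv_eq_of_mul_eq_one_left (hsq u)
          rw [h4, h5, mul_comm]
      let f : (T ⊓ L : Subgroup H) → (U ⊓ CS ρ (T ⊓ L) : Subgroup V) := fun a => ⟨ρ (a : H) u * u⁻¹, hmem a a.2⟩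
      have hf : Function.Injective f := by
        intro a b hab
        have h1 : ρ (a : H) u = ρ (b : H) u := mul_right_cancel (congrArg Subtype.val hab)
        by_contra hne
        apply huC
        have h2 : (b : H)⁻¹ * a ∈ T ⊓ L := mul_mem (inv_mem b.2) a.2
        have h3 : (b : H)⁻¹ * a ≠ 1 := fun h4 => hne (Subtype.ext (inv_mul_eq_one.1 h4)).symm
        rw [← Lin.fx_eq hl hU h2 h3, mem_fx, map_mul, MulAut.mul_apply, h1, ← MulAut.mul_apply, ← map_mul,
          inv_mul_cancel, map_one, MulAut.one_apply]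
      have h1 := Nat.card_le_card_of_injective f hf
      rw [hU.card, hF] at h1
      have h2 : U ⊓ CS ρ (T ⊓ L) = CS ρ (T ⊓ L) := Subgroup.eq_of_le_of_card_ge inf_le_right (by rw [hc4]; exact h1)
      rw [← h2]
      exact inf_le_left

/-- elements of `H ≅ S₅` fixing `v ≠ 1` are `{2,3}`-elements -/
theorem two_three_lin (hl : EmpFFList.Lin ρ L F) (hF : Fintype.card F = 4) (hsq : ∀ v : V, v * v = 1)
    (hinj : Function.Injective ρ) (hiso : Nonempty (H ≃* Equiv.Perm (Fin 5))) {v : V} (hv1 : v ≠ 1) {c : H}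
    (hc : ρ c v = v) : ∃ i j : ℕ, c ^ (2 ^ i * 3 ^ j) = 1 := by
  have hf5 : Fact (Nat.Prime 5) := ⟨Nat.prime_five⟩
  obtain ⟨e⟩ := hiso
  obtain ⟨e'⟩ := hl.iso
  have hLn := hl.norm
  have hH : Nat.card H = 120 := by rw [Nat.card_congr e.toEquiv, EmpFFList.card_perm5]
  have hL : Nat.card L = 60 := by rw [Nat.card_congr e'.toEquiv, card_sl2, hF]
  have hidx : L.index = 2 := by
    have := L.card_mul_index
    rw [hL, hH] at this
    omega
  have hd : orderOf c ∣ 120 := by rw [← hH]; exact orderOf_dvd_natCard c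
  have h5 : ¬ 5 ∣ orderOf c := by
    intro h5
    obtain ⟨m, hm⟩ := h5
    have hm0 : m ≠ 0 := by rintro rfl; exact (orderOf_pos c).ne' (by rw [hm, mul_zero])
    have ho : orderOf (c ^ m) = 5 := by
      rw [orderOf_pow_of_dvd hm0 (by rw [hm]; exact dvd_mul_left m 5), hm, Nat.mul_div_cancel _ (Nat.pos_of_ne_zero hm0)]
    have hL' : c ^ m ∈ L := by
      have h1 : c ^ m * c ^ m ∈ L := (Subgroup.mul_mem_iff_of_index_two hidx).2 Iff.rfl
      have h2 : (c ^ m * c ^ m) ^ 3 = c ^ m := by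
        have h3 : (c ^ m) ^ 5 = 1 := by rw [← ho]; exact pow_orderOf_eq_one _
        calc (c ^ m * c ^ m) ^ 3 = (c ^ m) ^ 5 * c ^ m := by rw [← pow_two, ← pow_mul, ← pow_succ]
          _ = c ^ m := by rw [h3, one_mul]
      rw [← h2]
      exact pow_mem h1 3
    have h1 := Lin.fpf hsq hinj hl hL' (by rw [ho]; decide) (by
      intro h2
      rw [h2, orderOf_one] at ho
      omega)
    have h2 : v ∈ fx ρ (c ^ m) := by
      have h4 : ∀ k : ℕ, ρ (c ^ k) v = v := by
        intro k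
        induction k with
        | zero => rw [pow_zero, map_one]; rfl
        | succ k ih => rw [pow_succ, map_mul, MulAut.mul_apply, hc, ih]
      exact h4 m
    rw [h1] at h2
    exact hv1 (mem_bot.1 h2)
  refine ⟨3, 1, ?_⟩
  rw [← orderOf_dvd_iff_pow_eq_one]
  have h6 : Nat.Coprime (orderOf c) 5 := Nat.coprime_comm.1 ((Nat.Prime.coprime_iff_not_dvd Nat.prime_five).2 h5)
  have h7 : orderOf c ∣ 24 * 5 := by norm_num; exact hd
  have h8 := h6.dvd_of_dvd_mul_right h7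
  norm_num
  exact h8

end Cfsg.Agent.OddCyclic.Bc.Line
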