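import Cfsg.Agent.OddCyclic.Bc.Inst
import Cfsg.Agent.OddCyclic.Bc.Lin

/-!
# S0342, leaf [Bc], type (b), (L1): LIN is impossible if `T = S`

`false_of`: in a configuration with `T = S` and a point `p`, `L₀/C(V) ≅ S₅` on the natural `SL₂(4)`-module `V` of order 16 is
impossible: `V ≤ O₂(P)` by `N`, then `[V, V^x] = 1` and `[V, V^x] ≠ 1` both contradict `|V : V ∩ V^x| = 8`, `|Ē| = 4`.
-/

set_option autoImplicit false
set_option linter.unusedSectionVars false

namespace Cfsg.Agent.OddCyclic.Bc.LinA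

open Subgroup Cfsg Cfsg.Agent.ZN Cfsg.Agent.MinSimple Cfsg.Agent.MinSimple.EmptySix
open Cfsg.Agent.MinSimple.EmptyE.Closed (LL vv_comm vv_sq vv_mul_self vv_le jj_le_centralizer_vv conj_mem_vv)
open Cfsg.Agent.OddCyclic.T1Defs Cfsg.Agent.OddCyclic.T1Module Cfsg.Agent.OddCyclic.FFBasic
  Cfsg.Agent.OddCyclic.FFRed Cfsg.Agent.OddCyclic.RedRep
open Cfsg.Agent.OddCyclic.L32
open Cfsg.Agent.OddCyclic.Bc.Inst

universe u

/-- centralisers of involutions in `S₅` -/
theorem card_cent : ∀ t : Equiv.Perm (Fin 5), t * t = 1 → t ≠ 1 →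
    (Finset.univ.filter fun g : Equiv.Perm (Fin 5) => g * t = t * g).card = 8 ∨
    (Finset.univ.filter fun g : Equiv.Perm (Fin 5) => g * t = t * g).card = 12 := by decide +kernel

/-- no involution of `S₅` is centralised by a Sylow 2-subgroup and an element of order 3 -/
theorem no_central {H : Type*} [Group H] (e : H ≃* Equiv.Perm (Fin 5)) {P : Subgroup H} (hP : ¬ 2 ∣ P.index)
    {t : H} (ht : t * t = 1) (ht1 : t ≠ 1) (hPt : ∀ g ∈ P, g * t = t * g) {g : H} (hg : orderOf g = 3)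
    (hgt : g * t = t * g) : False := by
  have hfin : Finite H := Finite.of_equiv _ e.symm.toEquiv
  have hH : Nat.card H = 120 := by
    rw [Nat.card_congr e.toEquiv, Nat.card_perm, Nat.card_eq_fintype_card, Fintype.card_fin]; rfl
  set C : Subgroup H := centralizer ({t} : Set H) with hC
  have hPC : P ≤ C := fun g hg => mem_centralizer_singleton_iff.2 (hPt g hg)
  have h8 : 8 ∣ Nat.card P := by
    have h1 : Nat.card P * P.index = 120 := by rw [P.card_mul_index, hH]
    have h2 : Nat.Coprime 8 P.index := by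
      have : Nat.Coprime 2 P.index := (Nat.Prime.coprime_iff_not_dvd Nat.prime_two).2 hP
      exact Nat.Coprime.pow_left 3 this
    refine h2.dvd_of_dvd_mul_right ?_
    rw [h1]
    norm_num
  have h8C : 8 ∣ Nat.card C := h8.trans (card_dvd_of_le hPC)
  have h3C : 3 ∣ Nat.card C := by
    have hgC : g ∈ C := mem_centralizer_singleton_iff.2 hgt
    rw [← hg, ← Subgroup.orderOf_mk g hgC]
    exact orderOf_dvd_natCard _
  have h4 : Nat.card C = (Finset.univ.filter fun g : Equiv.Perm (Fin 5) => g * e t = e t * g).card := by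
    rw [← Fintype.card_subtype, ← Nat.card_eq_fintype_card]
    refine Nat.card_congr (Equiv.subtypeEquiv e.toEquiv fun a => ?_)
    change a ∈ C ↔ e a * e t = e t * e a
    rw [hC, mem_centralizer_singleton_iff, ← map_mul, ← map_mul, e.injective.eq_iff]
  have h5 := card_cent (e t) (by rw [← map_mul, ht, map_one]) (by
    intro h
    exact ht1 (e.injective (by rw [h, map_one])))
  rw [← h4] at h5
  omega

variable {G : Type u} [Group G] [Finite G] {S : Sylow 2 G} {L O₁ O A : Subgroup G} {ξ x p : G}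

/-- a normal 2-subgroup of an overgroup of `S` lies in `S` -/
theorem le_syl {N : Subgroup G} (hN : IsPGroup 2 N) (h : (S : Subgroup G) ≤ normalizer (N : Set G)) :
    N ≤ (S : Subgroup G) := by
  have hf : Fact (Nat.Prime 2) := ⟨Nat.prime_two⟩
  have h1 : IsPGroup 2 ((S : Subgroup G) ⊔ N : Subgroup G) := IsPGroup.to_sup_of_normal_right' S.isPGroup' hN h
  have h2 := S.is_maximal' h1 le_sup_left
  rw [← h2]
  exact le_sup_right

/-- `V ≤ A` -/
theorem vv_le_A (c : Conf S (S : Subgroup G) L O₁ O A ξ x) : vv (S : Subgroup G) ≤ A := by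
  have d := dt c
  have hn : A ≤ normalizer (vv (S : Subgroup G) : Set G) := d.A_le.trans (centralizer_le_normalizer _)
  have h1 : ∀ b ∈ A ⊔ vv (S : Subgroup G), b * b = 1 := by
    intro b hb
    obtain ⟨a, ha, v, hv, rfl⟩ := FFBlock.mem_sup_of_le_normalizer hn hb
    have h2 := d.comm v hv a ha
    calc a * v * (a * v) = a * (v * a) * v := by group
      _ = (a * a) * (v * v) := by rw [h2]; group
      _ = 1 := by rw [d.asq a ha, d.vsq v hv, mul_one]
  have h2 := d.max _ h1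
  have h3 := eq_of_le_of_card_ge (le_sup_left : A ≤ A ⊔ vv (S : Subgroup G)) h2
  rw [h3]
  exact le_sup_right

variable {H V : Type u} [Group H] [CommGroup V] {r : LL (S : Subgroup G) →* H} {ρ : H →* MulAut V} {ι : V →* G}

/-- `V ≤ O₂(P)` -/
theorem vv_le_O (c : Conf S (S : Subgroup G) L O₁ O A ξ x) (hp : p ∈ zc (S : Subgroup G)) (p1 : p ≠ 1)
    (hrz : rz ξ p = 1) (hr : Rep (LL (S : Subgroup G)) (vv (S : Subgroup G)) r ρ ι)
    (e : H ≃* Equiv.Perm (Fin 5)) : vv (S : Subgroup G) ≤ O := by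
  obtain ⟨N, n⟩ := c.nat p hp p1 hrz
  have hSL : (S : Subgroup G) ≤ normalizer (L : Set G) := by
    have h1 := c.T_eq
    exact le_of_eq h1 |>.trans inf_le_right
  have hvS : vv (S : Subgroup G) ≤ (S : Subgroup G) := vv_le
  have hN2 : IsPGroup 2 N := by
    refine IsPGroup.of_card (n := 3) ?_
    rw [n.card]; norm_num
  have hNS : N ≤ (S : Subgroup G) := le_syl hN2 (hSL.trans n.norm)
  by_contra hcon
  have hm : ∃ m ∈ N, ∃ v ∈ vv (S : Subgroup G), v * m ≠ m * v := by
    by_contra h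
    push Not at h
    apply hcon
    intro v hv
    rw [n.memO v ((le_sup_right : (S : Subgroup G) ≤ L ⊔ S) (hvS hv))]
    intro m hm
    left
    rw [h m hm v hv, mul_inv_cancel_right]
  obtain ⟨m, hmN, v, hv, hvm⟩ := hm
  have hJ : vv (S : Subgroup G) ≤ jj (S : Subgroup G) := (vv_le_zj _).trans (EmptyTI.zj_le_jj _)
  have hmL : m ∈ LL (S : Subgroup G) := S_le_LL S (hNS hmN)
  -- the key: `r g` commutes with `r m`
  have key : ∀ g : LL (S : Subgroup G), (g : G) ∈ normalizer (L : Set G) → r g * r ⟨m, hmL⟩ = r ⟨m, hmL⟩ * r g := by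
    intro g hg
    have hgm : (g : G) * m * (g : G)⁻¹ ∈ N := (mem_normalizer_iff.1 (n.norm hg) m).1 hmN
    have hgmL : (g : G) * m * (g : G)⁻¹ ∈ LL (S : Subgroup G) := S_le_LL S (hNS hgm)
    -- both are moved by `J`
    have hm1 : ¬ ∀ j ∈ jj (S : Subgroup G), j * m = m * j := fun h => hvm (h v (hJ hv))
    have hm2 : ¬ ∀ j ∈ jj (S : Subgroup G), j * ((g : G) * m * (g : G)⁻¹) = (g : G) * m * (g : G)⁻¹ * j := by
      intro h
      have h1 := h _ (hJ (conj_mem_vv g.2 hv))
      apply hvm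
      have h2 : (g : G) * (v * m) * (g : G)⁻¹ = g * (m * v) * (g : G)⁻¹ := by
        calc (g : G) * (v * m) * (g : G)⁻¹ = (g : G) * v * (g : G)⁻¹ * ((g : G) * m * (g : G)⁻¹) := by group
          _ = (g : G) * m * (g : G)⁻¹ * ((g : G) * v * (g : G)⁻¹) := h1
          _ = _ := by group
      exact mul_left_cancel (mul_right_cancel h2)
    obtain ⟨a, ha, hat⟩ := n.tr p n.pN (fun j hj => n.pT j (jj_le _ hj))
    have ha1 := hat m hmN hm1
    have ha2 := hat _ hgm hm2
    have haJ : a ∈ jj (S : Subgroup G) := A_le_jj c ha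
    have hprod : (g : G) * m * (g : G)⁻¹ * m ∈ N := mul_mem hgm hmN
    have ham : a * ((g : G) * m * (g : G)⁻¹ * m) = (g : G) * m * (g : G)⁻¹ * m * a := by
      rw [← mul_inv_eq_iff_eq_mul]
      calc a * ((g : G) * m * (g : G)⁻¹ * m) * a⁻¹
          = (a * ((g : G) * m * (g : G)⁻¹) * a⁻¹) * (a * m * a⁻¹) := by group
        _ = p * ((g : G) * m * (g : G)⁻¹) * (p * m) := by rw [ha1, ha2]
        _ = p * (((g : G) * m * (g : G)⁻¹) * p) * m := by group
        _ = p * (p * ((g : G) * m * (g : G)⁻¹)) * m := by rw [n.comm _ hgm p n.pN]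
        _ = (p * p) * ((g : G) * m * (g : G)⁻¹ * m) := by group
        _ = _ := by rw [n.sq p n.pN, one_mul]
    have hne : a * m ≠ m * a := by
      intro h
      rw [← mul_inv_eq_iff_eq_mul, ha1] at h
      exact p1 (mul_eq_right.1 h)
    have h3 := n.ax a haJ ⟨m, hmN, hne⟩ _ hprod ham
    -- `r (g m g⁻¹ m) = 1`
    have h4 : r (g * ⟨m, hmL⟩ * g⁻¹ * ⟨m, hmL⟩) = 1 := by
      rw [hr.r_eq_one]
      intro w hw
      change (g : G) * m * (g : G)⁻¹ * m * w = w * ((g : G) * m * (g : G)⁻¹ * m)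
      exact (h3 w (hJ hw)).symm
    have h5 : r ⟨m, hmL⟩ * r ⟨m, hmL⟩ = 1 := by
      rw [← map_mul]
      have : (⟨m, hmL⟩ : LL (S : Subgroup G)) * ⟨m, hmL⟩ = 1 := Subtype.ext (n.sq m hmN)
      rw [this, map_one]
    rw [map_mul, map_mul, map_mul, map_inv] at h4
    have h6 : (r ⟨m, hmL⟩)⁻¹ = r ⟨m, hmL⟩ := inv_eq_of_mul_eq_one_left h5
    rw [mul_eq_one_iff_eq_inv, h6, mul_inv_eq_iff_eq_mul] at h4
    exact h4
  have hξ : ∃ v ∈ vv (S : Subgroup G), ξ * v ≠ v * ξ := ⟨p, zc_le_vv _ hp, n.xp⟩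
  refine no_central e (index_im hr) (t := r ⟨m, hmL⟩) ?_ ?_ ?_ (orderOf_ξ hr c hξ) ?_
  · rw [← map_mul]
    have : (⟨m, hmL⟩ : LL (S : Subgroup G)) * ⟨m, hmL⟩ = 1 := Subtype.ext (n.sq m hmN)
    rw [this, map_one]
  · intro h
    rw [hr.r_eq_one] at h
    exact hvm (h v hv).symm
  · intro g hg
    obtain ⟨g, hg', rfl⟩ := of_mem_im hg
    exact key g (hSL hg')
  · exact key ⟨ξ, ξ_mem_LL c⟩ (le_normalizer c.ξL)

/-- **(L1): LIN is impossible if `T = S`** -/
theorem false_of (c : Conf S (S : Subgroup G) L O₁ O A ξ x) (hp : p ∈ zc (S : Subgroup G)) (p1 : p ≠ 1)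
    (hrz : rz ξ p = 1) (hr : Rep (LL (S : Subgroup G)) (vv (S : Subgroup G)) r ρ ι) [Finite H] [Finite V]
    {F : Type} [Fintype F]
    (o : Lin.Out ρ (im (LL (S : Subgroup G)) (FD.cj x A ⊓ O) r)
      ((vv (S : Subgroup G) ⊓ FD.cj x (vv (S : Subgroup G))).comap ι) F) : False := by
  obtain ⟨e⟩ := o.iso
  have hVO := vv_le_O c hp p1 hrz hr e
  have d := dt c
  set E₀ : Subgroup G := FD.cj x A ⊓ O with hE₀
  set E : Subgroup H := im (LL (S : Subgroup G)) E₀ r with hE
  set H₁ : Subgroup V := (vv (S : Subgroup G) ⊓ FD.cj x (vv (S : Subgroup G))).comap ι with hH₁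
  have hEL : E₀ ≤ LL (S : Subgroup G) := inf_le_right.trans (O_le_LL c)
  have hcE : (E₀ ⊓ centralizer (vv (S : Subgroup G) : Set G)).relIndex E₀ = 4 := by
    rw [← card_im hr hEL]; exact o.card_E
  have hidx : H₁.index = 8 := by
    have h1 := H₁.card_mul_index
    rw [o.card_H₁, o.cardV] at h1
    omega
  have hF : (vv (S : Subgroup G) ⊓ FD.cj x (vv (S : Subgroup G))).relIndex (vv (S : Subgroup G)) = 8 := by
    rw [← hidx, hH₁, index_comap, hr.range]
  have hEsq : ∀ e ∈ E, e * e = 1 := by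
    rintro _ ⟨e, he, rfl⟩
    have h1 := d.asq' x e (mem_subgroupOf.1 he).1
    rw [← map_mul]
    have h2 : e * e = 1 := Subtype.ext h1
    rw [h2, map_one]
  by_cases hcomm : ∀ v ∈ vv (S : Subgroup G), ∀ w ∈ FD.cj x (vv (S : Subgroup G)), v * w = w * v
  · -- `[V, V^x] = 1`
    have hne : ∃ e ∈ E, e ≠ 1 := by
      by_contra h
      push Not at h
      have h1 : E = ⊥ := (eq_bot_iff_forall _).2 h
      have h2 := o.card_E
      rw [h1, card_bot] at h2
      omega
    obtain ⟨b, hb, hb1⟩ := hne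
    have h1 : (cm ρ b).range ≤ H₁ := by
      rintro _ ⟨v, rfl⟩
      obtain ⟨g, hg, rfl⟩ := of_mem_im hb
      rw [hH₁, mem_comap, cm_apply, map_mul, map_inv, hr.act]
      have h2 := d.comm_mem hcomm (by rw [hcE, hF]) (hr.mem v) hg
      have h3 := inv_mem h2
      have h4 : (ι v * g * (ι v)⁻¹ * (g : G)⁻¹)⁻¹ = g * ι v * (g : G)⁻¹ * (ι v)⁻¹ := by group
      rwa [h4] at h3
    have h2 := card_le_of_le h1
    rw [card_range_cm, o.inv b (hEsq b hb) hb1, o.card_H₁] at h2
    omega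
  · -- `[V, V^x] ≠ 1`
    push Not at hcomm
    obtain ⟨v, hv, w, hw, hvw⟩ := hcomm
    have hxE : FD.cj x (vv (S : Subgroup G)) ≤ E₀ := by
      refine le_inf (FD.cj_le (vv_le_A c)) ?_
      have h1 := FD.cj_le (g := x) hVO
      rwa [FD.cj_of_mem d.xO] at h1
    have hxL : FD.cj x (vv (S : Subgroup G)) ≤ LL (S : Subgroup G) := hxE.trans hEL
    set I : Subgroup H := im (LL (S : Subgroup G)) (FD.cj x (vv (S : Subgroup G))) r with hI
    have hIE : I ≤ E := im_mono hxE
    have hcI : Nat.card I = (CS ρ I).index := by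
      have h1 : CS ρ I = (centralizer (FD.cj x (vv (S : Subgroup G)) : Set G)).comap ι := by
        ext u
        rw [mem_comap, mem_centralizer_iff]
        constructor
        · intro hu w hw
          exact (hr.fix (x := ⟨w, hxL hw⟩)).1 (hu _ (mem_im hxL hw))
        · rintro hu _ ⟨g, hg, rfl⟩
          rw [hr.fix]
          exact hu _ (mem_subgroupOf.1 hg)
      rw [h1, index_comap, hr.range, card_im hr hxL, ← d.off, inf_comm, Subgroup.inf_relIndex_right]
    set t : H := r ⟨w, hxL hw⟩ with ht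
    have htI : t ∈ I := mem_im hxL hw
    have ht1 : t ≠ 1 := by
      intro h
      rw [ht, hr.r_eq_one] at h
      exact hvw (h v hv).symm
    have h4 : (fx ρ t).index ∣ (CS ρ I).index := by
      refine index_dvd_of_le fun u hu => ?_
      exact hu t htI
    rw [o.inv t (hEsq t (hIE htI)) ht1, ← hcI] at h4
    have h5 : Nat.card I = Nat.card E := by
      have h6 := card_dvd_of_le hIE
      rw [o.card_E] at h6 ⊢
      exact Nat.dvd_antisymm h6 h4
    have h6 : I = E := eq_of_le_of_card_ge hIE h5.ge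
    rw [h5, h6, ← o.H₁_eq, hidx, o.card_E] at hcI
    omega

end Cfsg.Agent.OddCyclic.Bc.LinA
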