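import Cfsg.Agent.OddCyclic.Bc.Defs
import Cfsg.Agent.OddCyclic.CompBasic
import Cfsg.Agent.OddCyclic.EN.S7Mod
import Cfsg.Agent.OddCyclic.EN.SevGrp
import Cfsg.Agent.OddCyclic.EmpC.L32

/-!
# S0342, leaf [Bc], type (b), section 4: `L₃(2)` and `|V| = 64`

`false_of (h : MF ρ S T O E ξ H₁)`: no normal simple subgroup `K ∋ ξ` of order 168 if `|V| = 64`.
No module list: `|V : C_V(a)| ≥ 4` for involutions, `|V : C_V(y)| ≥ 16` for `y` of order 3 (`K` is generated by two
elements of order 3).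
-/

set_option autoImplicit false
set_option linter.unusedSectionVars false

namespace Cfsg.Agent.OddCyclic.Bc.Seven

open Subgroup
open Cfsg.Agent.OddCyclic.T1Defs Cfsg.Agent.OddCyclic.T1Module Cfsg.Agent.OddCyclic.FFBasic
  Cfsg.Agent.OddCyclic.FFRed Cfsg.Agent.OddCyclic.FFPsl Cfsg.Agent.OddCyclic.FFThree Cfsg.Agent.OddCyclic.FFSl2
  Cfsg.Agent.GH.L2Aut Cfsg.Agent.OddCyclic.Bc.Defs
open Cfsg.Agent.OddCyclic.EmpC (exists_gen_three exists_fixed)

section abs

variable {L : Type*} [Group L] [Finite L] {V : Type*} [CommGroup V] [Finite V] {σ : L →* MulAut V}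

/-- submodules have order at least 8 -/
theorem eight_le (h : Mod σ) (hs : IsSimpleGroup L) (htop : CS σ (⊤ : Subgroup L) = ⊥) {D : Subgroup V}
    (hD : ∀ x, ∀ d ∈ D, σ x d ∈ D) (hD1 : D ≠ ⊥) : 8 ≤ Nat.card D := by
  let τ : (⊤ : Subgroup L) →* MulAut D := res σ ⊤ D (fun n _ w hw => hD n w hw)
  let τ' : L →* MulAut D := τ.comp (Subgroup.topEquiv.symm : L ≃* (⊤ : Subgroup L)).toMonoidHom
  have hτ : ∀ (x : L) (d : D), ((τ' x d : D) : V) = σ x d := fun x d => rfl
  have hmod : Mod τ' := by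
    refine ⟨h.l32, fun v => Subtype.ext (h.sq v), fun y hy => ?_⟩
    by_contra hcon
    push Not at hcon
    have hk : y ∈ τ'.ker := by
      rw [MonoidHom.mem_ker]
      ext v
      rw [hcon v]; rfl
    rcases hs.eq_bot_or_eq_top_of_normal τ'.ker inferInstance with h1 | h1
    · rw [h1, mem_bot] at hk
      exact hy hk
    · apply hD1
      rw [eq_bot_iff, ← htop]
      intro d hd x _
      have h2 : x ∈ τ'.ker := by rw [h1]; trivial
      rw [MonoidHom.mem_ker] at h2
      have h3 := congrArg (fun α : MulAut D => ((α ⟨d, hd⟩ : D) : V)) h2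
      exact h3
  exact hmod.top_le.trans (Nat.le_of_dvd Nat.card_pos (Subgroup.index_dvd_card _))

/-- the module of order 64 -/
structure M64 (σ : L →* MulAut V) : Prop extends Mod σ where
  simp : IsSimpleGroup L
  top : CS σ (⊤ : Subgroup L) = ⊥
  card : Nat.card V = 64
  eq3 : ∀ y z : L, orderOf y = 3 → orderOf z = 3 → (fx σ y).index = (fx σ z).index

namespace M64

variable (h : M64 σ)
include h

theorem index_top : (CS σ (⊤ : Subgroup L)).index = 64 := by
  rw [h.top, index_bot, h.card]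

theorem four_le {a : L} (ha1 : a ≠ 1) (ha : a * a = 1) : 4 ≤ (fx σ a).index := by
  obtain ⟨w, b, c, hw, hw1, hb, hb1, hc, hc1, -, hgen⟩ := h.l32.gen
  have hle : fx σ w ⊓ (fx σ b ⊓ fx σ c) ≤ CS σ (⊤ : Subgroup L) := by
    rintro v ⟨h1, h2, h3⟩
    rw [h.toMod.CS_top_eq hgen]
    exact ⟨h1, fx_mul σ (fx_mul σ h2 h3) h1⟩
  have h1 := index_le_of_le hle
  have h2 := Subgroup.index_inf_le (H := fx σ w) (K := fx σ b ⊓ fx σ c)
  have h3 := Subgroup.index_inf_le (H := fx σ b) (K := fx σ c)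
  rw [h.toMod.idx hw1 hw ha1 ha] at h2
  rw [h.toMod.idx hb1 hb ha1 ha, h.toMod.idx hc1 hc ha1 ha] at h3
  rw [h.index_top] at h1
  have h4 : 64 ≤ (fx σ a).index * ((fx σ a).index * (fx σ a).index) :=
    h1.trans (h2.trans (Nat.mul_le_mul_left _ h3))
  by_contra hcon
  have h5 : (fx σ a).index ≤ 3 := by omega
  have h6 := Nat.mul_le_mul h5 (Nat.mul_le_mul h5 h5)
  omega

theorem sixteen_le {y : L} (hy : orderOf y = 3) : 16 ≤ (fx σ y).index := by
  have : Fact (Nat.Prime 7) := ⟨by norm_num⟩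
  have hs := h.simp
  obtain ⟨e⟩ := Cfsg.Agent.S0495.result (G := L) h.l32.card (F := ZMod 7) (ZMod.card 7)
  obtain ⟨z, z', hz, hz', hg⟩ := exists_gen_three
    (Cfsg.Agent.GH.L2Aut.Rep.ofEquiv (F := ZMod 7) COneSeven.two_ne e) (by simp) hs
  have h1 := Subgroup.index_inf_le (H := fx σ z) (K := fx σ z')
  rw [← h.toMod.CS_top_eq hg, h.index_top, h.eq3 z y hz hy, h.eq3 z' y hz' hy] at h1
  have hy1 : y ≠ 1 := by rintro rfl; rw [orderOf_one] at hy; norm_num at hy
  obtain ⟨d, -, h2, h3⟩ := prim (ρ := σ) h.sq Nat.prime_three (by norm_num) hy (h.faith y hy1)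
  rw [h2] at h1 ⊢
  have hd : 4 ≤ d := by
    by_contra hcon
    have hd3 : (2 : ℕ) ^ d = 1 ∨ (2 : ℕ) ^ d = 2 ∨ (2 : ℕ) ^ d = 4 ∨ (2 : ℕ) ^ d = 8 := by
      have : d = 0 ∨ d = 1 ∨ d = 2 ∨ d = 3 := by omega
      rcases this with rfl | rfl | rfl | rfl <;> norm_num
    rcases hd3 with h4 | h4 | h4 | h4 <;> rw [h4] at h1 h3 <;> omega
  calc 16 = 2 ^ 4 := by norm_num
    _ ≤ 2 ^ d := Nat.pow_le_pow_right (by norm_num) hd

theorem card_nor (T : Sylow 2 L) {A : Subgroup L} (hA : IsFour A) (hAT : A ≤ T) {y : L} (hy : orderOf y = 3)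
    (hyN : y ∈ normalizer (A : Set L)) : Nat.card (normalizer (A : Set L)) = 24 := by
  have hs := h.simp
  have h8 : 8 ∣ Nat.card (normalizer (A : Set L)) := by
    have h2 := Subgroup.card_dvd_of_le (sylow_le_normalizer h.l32 T hA hAT)
    change Nat.card T ∣ _ at h2
    rwa [card_sylow h.l32 T] at h2
  have h3 : 3 ∣ Nat.card (normalizer (A : Set L)) := by
    rw [← hy, ← Subgroup.orderOf_mk y hyN]
    exact orderOf_dvd_natCard _
  obtain ⟨k, hk⟩ := Nat.Coprime.mul_dvd_of_dvd_of_dvd (by norm_num : Nat.Coprime 8 3) h8 h3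
  have hL : Nat.card (normalizer (A : Set L)) ∣ 168 := by
    rw [← h.l32.card]; exact Subgroup.card_subgroup_dvd_card _
  obtain ⟨j, hj⟩ := hL
  have hkj : k * j = 7 := by
    rw [hk] at hj
    have h1 : 24 * (k * j) = 24 * 7 := by
      calc 24 * (k * j) = 8 * 3 * k * j := by ring
        _ = 24 * 7 := by rw [← hj]
    exact Nat.eq_of_mul_eq_mul_left (by norm_num) h1
  rcases (Nat.dvd_prime (by norm_num)).1 ⟨j, hkj.symm⟩ with rfl | rfl
  · omega
  · exfalso
    have htop : normalizer (A : Set L) = ⊤ := by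
      apply Subgroup.eq_top_of_card_eq
      rw [hk, h.l32.card]
    have hn : A.Normal := normalizer_eq_top_iff.1 htop
    rcases hs.eq_bot_or_eq_top_of_normal A hn with h1 | h1
    · have := hA.card
      rw [h1, card_bot] at this
      omega
    · have := hA.card
      rw [h1, card_top, h.l32.card] at this
      omega

theorem nor_le (T : Sylow 2 L) {A : Subgroup L} (hA : IsFour A) (hAT : A ≤ T) {M : Subgroup L}
    (hTM : (T : Subgroup L) ≤ M) {y : L} (hy : orderOf y = 3) (hyN : y ∈ normalizer (A : Set L)) (hyM : y ∈ M) :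
    normalizer (A : Set L) ≤ M := by
  have h24 := h.card_nor T hA hAT hy hyN
  have h8 : 8 ∣ Nat.card (M ⊓ normalizer (A : Set L) : Subgroup L) := by
    have h2 := Subgroup.card_dvd_of_le (le_inf hTM (sylow_le_normalizer h.l32 T hA hAT))
    change Nat.card T ∣ _ at h2
    rwa [card_sylow h.l32 T] at h2
  have h3 : 3 ∣ Nat.card (M ⊓ normalizer (A : Set L) : Subgroup L) := by
    have h4 : y ∈ M ⊓ normalizer (A : Set L) := ⟨hyM, hyN⟩
    rw [← hy, ← Subgroup.orderOf_mk y h4]
    exact orderOf_dvd_natCard _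
  have h4 := Nat.Coprime.mul_dvd_of_dvd_of_dvd (by norm_num : Nat.Coprime 8 3) h8 h3
  have h5 : M ⊓ normalizer (A : Set L) = normalizer (A : Set L) := by
    apply Subgroup.eq_of_le_of_card_ge inf_le_right
    rw [h24]
    exact Nat.le_of_dvd Nat.card_pos h4
  rw [← h5]
  exact inf_le_left

theorem exists_w (T : Sylow 2 L) : ∃ w : V, w ≠ 1 ∧ w ∈ CS σ (T : Subgroup L) := by
  obtain ⟨w, -, h1, h2⟩ := exists_fixed (ρ := σ) h.sq T.isPGroup' (W := ⊤) (fun _ _ _ _ => mem_top _) (by
    intro h1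
    have h2 := h.card
    rw [← card_top (G := V), h1, card_bot] at h2
    omega)
  exact ⟨w, h1, h2⟩

theorem not_fixed {A B : Subgroup L} (hg : normalizer (A : Set L) ⊔ normalizer (B : Set L) = ⊤) {w : V} (hw : w ≠ 1)
    (h1 : normalizer (A : Set L) ≤ stb σ w) (h2 : normalizer (B : Set L) ≤ stb σ w) : False := by
  apply hw
  rw [← mem_bot, ← h.top, mem_CS_iff, ← hg]
  exact sup_le h1 h2

/-- `|E| = 2` -/
theorem one {e : L} (he1 : e ≠ 1) (he : e * e = 1)
    (three : ∀ y, orderOf y = 3 → ∀ F : Subgroup V, F ≤ fx σ e → (∀ v ∈ F, σ y v ∈ F) → ∀ v ∈ F, σ y v = v) : False := by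
  obtain ⟨a₀, b₀, hf₀⟩ := h.l32.four
  have hp : IsPGroup 2 hf₀.sub := IsPGroup.of_card (n := 2) (by rw [card_sub hf₀]; norm_num)
  obtain ⟨T, hT⟩ := hp.exists_le_sylow
  obtain ⟨z, a, b, hza, hzb, hAeq, hBT, -, -, -, -, hgen⟩ := exists_other h.l32 T (isFour_sub hf₀) hT
  rw [hAeq] at hgen hT
  obtain ⟨g, hg⟩ := h.l32.conj e z he1 he hza.a1 hza.aa
  have three' : ∀ y, orderOf y = 3 → ∀ F : Subgroup V, F ≤ fx σ z → (∀ v ∈ F, σ y v ∈ F) → ∀ v ∈ F, σ y v = v := by
    intro y hy F hF hinv v hv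
    have hm : ∀ (x : L) (u : V), σ g (σ (g⁻¹ * x * g) u) = σ x (σ g u) := by
      intro x u
      rw [← MulAut.mul_apply, ← MulAut.mul_apply, ← map_mul, ← map_mul]
      congr 2; group
    have hgg : ∀ u : V, σ g (σ g⁻¹ u) = u := by
      intro u
      rw [← MulAut.mul_apply, ← map_mul, mul_inv_cancel, map_one]; rfl
    have hinj : Function.Injective (σ g) := (σ g).injective
    have h1 := three (g⁻¹ * y * g) (by
      have : orderOf (g⁻¹ * y * g) = orderOf y := by
        have := MulEquiv.orderOf_eq (MulAut.conj g⁻¹) y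
        rwa [MulAut.conj_apply, inv_inv] at this
      rw [this, hy]) (F.comap (σ g : V ≃* V).toMonoidHom) ?_ ?_ (σ g⁻¹ v) (by
        show σ g (σ g⁻¹ v) ∈ F
        rw [hgg]; exact hv)
    · have h2 := congrArg (σ g) h1
      rwa [hm, hgg] at h2
    · intro u hu
      have h2 : σ z (σ g u) = σ g u := hF hu
      apply hinj
      rw [← hg, ← hm] at h2
      have e1 : g⁻¹ * (g * e * g⁻¹) * g = e := by group
      rwa [e1] at h2
    · intro u hu
      show σ g (σ (g⁻¹ * y * g) u) ∈ F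
      rw [hm]
      exact hinv _ hu
  obtain ⟨w, hw1, hw⟩ := h.exists_w T
  have key : ∀ C : Subgroup L, IsFour C → C ≤ T → z ∈ C → normalizer (C : Set L) ≤ stb σ w := by
    intro C hC hCT hzC
    obtain ⟨s, hs, t, ht, hst, hmem⟩ := hC.exists_four
    obtain ⟨y, hyN, hy3, hy1, -⟩ := fuse_mem h.l32 hst hmem
    have hyo : orderOf y = 3 := by
      have : Fact (Nat.Prime 3) := ⟨Nat.prime_three⟩
      refine orderOf_eq_prime (by rw [pow_succ, pow_two]; exact hy3) ?_
      rintro rfl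
      rw [one_mul, inv_one, mul_one] at hy1
      exact hst.ne hy1
    refine h.nor_le T hC hCT (mem_CS_iff.1 hw) hyo hyN ?_
    exact three' y hyo (CS σ C) (CS_le_fx hzC) (fun v hv => CS_stable hyN hv) w (CS_anti hCT hw)
  exact h.not_fixed hgen hw1 (key _ (isFour_sub hza) hT (Or.inr (Or.inl rfl)))
    (key _ (isFour_sub hzb) hBT (Or.inr (Or.inl rfl)))

/-- `|E| = 4` -/
theorem two {A : Subgroup L} (hA : IsFour A) {P : Subgroup V} (hP : P ≤ CS σ A) (hi : P.index ≤ 8)
    (three : ∀ y, orderOf y = 3 → ∀ F : Subgroup V, F ≤ P → (∀ v ∈ F, σ y v ∈ F) → ∀ v ∈ F, σ y v = v) : False := by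
  have hp : IsPGroup 2 A := IsPGroup.of_card (n := 2) (by rw [hA.card]; norm_num)
  obtain ⟨T, hAT⟩ := hp.exists_le_sylow
  obtain ⟨s, hs, t, ht, hst, hmem⟩ := hA.exists_four
  obtain ⟨y, hyN, hy3, hy1, -⟩ := fuse_mem h.l32 hst hmem
  have hyo : orderOf y = 3 := by
    have : Fact (Nat.Prime 3) := ⟨Nat.prime_three⟩
    refine orderOf_eq_prime (by rw [pow_succ, pow_two]; exact hy3) ?_
    rintro rfl
    rw [one_mul, inv_one, mul_one] at hy1
    exact hst.ne hy1
  have hyC : ∀ v ∈ CS σ A, σ y v ∈ CS σ A := fun v hv => CS_stable hyN hv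
  obtain ⟨d, hd⟩ := index_pow h.sq (CS σ A)
  have hd1 : (CS σ A).index ≤ 8 := (index_le_of_le hP).trans hi
  have hd2 : 4 ≤ (CS σ A).index := (h.four_le hst.a1 hst.aa).trans (index_le_of_le (CS_le_fx hs))
  have hd3 : (CS σ A).index = 4 ∨ (CS σ A).index = 8 := by
    have h1 : d ≤ 3 := by
      have : (2 : ℕ) ^ d ≤ 2 ^ 3 := by rw [← hd]; exact hd1
      exact (Nat.pow_le_pow_iff_right (by norm_num)).1 this
    have h2 : 2 ≤ d := by
      have : (2 : ℕ) ^ 2 ≤ 2 ^ d := by rw [← hd]; exact hd2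
      exact (Nat.pow_le_pow_iff_right (by norm_num)).1 this
    have h3 : d = 2 ∨ d = 3 := by omega
    rcases h3 with rfl | rfl
    · left; rw [hd]; norm_num
    · right; rw [hd]; norm_num
  rcases hd3 with hd4 | hd4
  · -- the index is 4
    have hfix : ∀ a ∈ A, a ≠ 1 → fx σ a = CS σ A := by
      intro a ha ha1
      refine (eq_of_index_le (CS_le_fx ha) ?_).symm
      rw [hd4]
      exact h.four_le ha1 (hA.sq a ha)
    obtain ⟨B, hB⟩ := par h.l32 T hA hAT hfix
    -- the subgroup `F`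
    have hyy : ∀ v, σ (y * y) v = σ y (σ y v) := fun v => by rw [map_mul, MulAut.mul_apply]
    have hyyy : ∀ v, σ y (σ y (σ y v)) = v := by
      intro v
      rw [← MulAut.mul_apply, ← MulAut.mul_apply, ← map_mul, ← map_mul, hy3, map_one]; rfl
    set P₁ := P.comap (σ y : V ≃* V).toMonoidHom with hP₁
    set P₂ := P.comap (σ (y * y) : V ≃* V).toMonoidHom with hP₂
    have hm₁ : ∀ v, v ∈ P₁ ↔ σ y v ∈ P := fun v => Iff.rfl
    have hm₂ : ∀ v, v ∈ P₂ ↔ σ (y * y) v ∈ P := fun v => Iff.rfl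
    have hrel : ∀ g : L, (∀ v ∈ CS σ A, σ g v ∈ CS σ A) →
        (P.comap (σ g : V ≃* V).toMonoidHom).relIndex (CS σ A) ≤ 2 := by
      intro g hg
      have h1 : P.relIndex (CS σ A) ≤ 2 := by
        have h2 := relIndex_mul_index hP
        rw [hd4] at h2
        omega
      have h2 : (CS σ A).map (σ g : V ≃* V).toMonoidHom = CS σ A := by
        apply Subgroup.eq_of_le_of_card_ge
        · rintro _ ⟨v, hv, rfl⟩
          exact hg v hv
        · rw [Subgroup.card_map_of_injective (f := (σ g : V ≃* V).toMonoidHom) (σ g).injective]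
      rw [relIndex_comap, h2]
      exact h1
    have hF : 2 ≤ Nat.card (P ⊓ (P₁ ⊓ P₂) ⊓ CS σ A : Subgroup V) := by
      have h0 : P.relIndex (CS σ A) ≤ 2 := by
        have h2 := relIndex_mul_index hP
        rw [hd4] at h2
        omega
      have h1 := relIndex_inf_le (H := P) (K := P₁ ⊓ P₂) (L := CS σ A)
      have h2 := relIndex_inf_le (H := P₁) (K := P₂) (L := CS σ A)
      have h3 := hrel y hyC
      have h4 := hrel (y * y) (fun v hv => by rw [hyy]; exact hyC _ (hyC v hv))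
      have h5 : (P ⊓ (P₁ ⊓ P₂)).relIndex (CS σ A) ≤ 8 :=
        h1.trans (calc _ ≤ 2 * (2 * 2) := Nat.mul_le_mul h0 (h2.trans (Nat.mul_le_mul h3 h4))
          _ = 8 := by norm_num)
      have h6 := card_mul_relIndex (inf_le_right : P ⊓ (P₁ ⊓ P₂) ⊓ CS σ A ≤ CS σ A)
      rw [inf_relIndex_right] at h6
      have h7 := (CS σ A).card_mul_index
      rw [hd4, h.card] at h7
      have h8 : Nat.card (CS σ A) = 16 := by omega
      rw [h8] at h6
      by_contra hcon
      have h9 : Nat.card (P ⊓ (P₁ ⊓ P₂) ⊓ CS σ A : Subgroup V) ≤ 1 := by omega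
      have h10 := Nat.mul_le_mul h9 h5
      omega
    have hfixF : ∀ v ∈ P ⊓ (P₁ ⊓ P₂), σ y v = v := by
      apply three y hyo _ inf_le_left
      rintro v ⟨h1, h2, h3⟩
      refine ⟨h2, (hm₁ _).2 ?_, (hm₂ _).2 ?_⟩
      · rw [← hyy]; exact h3
      · rw [hyy, hyyy]; exact h1
    -- the fixed points of `A⟨y⟩`
    set Q := A ⊔ zpowers y with hQ
    have hQN : Q ≤ normalizer (A : Set L) := sup_le le_normalizer (by rw [zpowers_le]; exact hyN)
    have hcN := h.card_nor T hA hAT hyo hyN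
    have hNQ : normalizer (A : Set L) ≤ normalizer (Q : Set L) := by
      have h4 : 4 ∣ Nat.card Q := by
        rw [← hA.card]; exact Subgroup.card_dvd_of_le le_sup_left
      have h3 : 3 ∣ Nat.card Q := by
        rw [← hyo, ← Nat.card_zpowers]; exact Subgroup.card_dvd_of_le le_sup_right
      have h12 := Nat.Coprime.mul_dvd_of_dvd_of_dvd (by norm_num : Nat.Coprime 4 3) h4 h3
      have h5 := card_mul_relIndex hQN
      rw [hcN] at h5
      obtain ⟨k, hk⟩ := h12
      have h6 : k * Q.relIndex (normalizer (A : Set L)) = 2 := by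
        have h7 : 12 * (k * Q.relIndex (normalizer (A : Set L))) = 12 * 2 := by
          calc _ = 4 * 3 * k * Q.relIndex (normalizer (A : Set L)) := by ring
            _ = 12 * 2 := by rw [← hk, h5]
        exact Nat.eq_of_mul_eq_mul_left (by norm_num) h7
      have h7 : Q.relIndex (normalizer (A : Set L)) = 1 ∨ Q.relIndex (normalizer (A : Set L)) = 2 :=
        (Nat.dvd_prime Nat.prime_two).1 ⟨k, by rw [mul_comm]; exact h6.symm⟩
      rcases h7 with h7 | h7
      · rw [relIndex_eq_one] at h7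
        exact h7.trans le_normalizer
      · have h8 : (Q.subgroupOf (normalizer (A : Set L))).Normal := Subgroup.normal_of_index_eq_two h7
        exact (Subgroup.normal_subgroupOf_iff_le_normalizer hQN).1 h8
    have hD : CS σ Q ≠ ⊥ := by
      intro h1
      have h2 : P ⊓ (P₁ ⊓ P₂) ⊓ CS σ A ≤ CS σ Q := by
        rintro v ⟨h3, h4⟩
        rw [mem_CS_iff]
        refine sup_le (mem_CS_iff.1 h4) ?_
        rw [zpowers_le]
        exact hfixF v h3
      rw [h1, le_bot_iff] at h2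
      rw [h2, card_bot] at hF
      omega
    obtain ⟨w, hw, hw1, hwT⟩ := exists_fixed (ρ := σ) h.sq T.isPGroup' (W := CS σ Q)
      (fun x hx v hv => CS_stable (hNQ (sylow_le_normalizer h.l32 T hA hAT hx)) hv) hD
    refine h.not_fixed hB.gen hw1 (h.nor_le T hA hAT (mem_CS_iff.1 hwT) hyo hyN ?_) (fun x hx => hB.cent x hx w hwT)
    exact hw y (mem_sup_right (mem_zpowers y))
  · -- the index is 8
    have hPC : P = CS σ A := eq_of_index_le hP (by rw [hd4]; exact hi)
    have h1 : CS σ A ≤ fx σ y := fun v hv => three y hyo (CS σ A) (by rw [hPC]) hyC v hv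
    have h2 := index_le_of_le h1
    have h3 := h.sixteen_le hyo
    omega

end M64

end abs

section main

variable {H : Type*} [Group H] [Finite H] {V : Type*} [CommGroup V] [Finite V] {ρ : H →* MulAut V}
  {S T O E : Subgroup H} {ξ : H} {H₁ : Subgroup V} {K : Subgroup H}

theorem ex_order (hc : Nat.card K = 168) {p : ℕ} (hp : p.Prime) (h : p ∣ 168) : ∃ y ∈ K, orderOf y = p := by
  have : Fact p.Prime := ⟨hp⟩
  obtain ⟨y, hy⟩ := exists_prime_orderOf_dvd_card' (G := K) p (by rw [hc]; exact h)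
  exact ⟨y, y.2, by rw [Subgroup.orderOf_coe]; exact hy⟩

theorem mod (h : MF ρ S T O E ξ H₁) (hs : IsSimpleGroup K) (hc : Nat.card K = 168) : Mod (ρ.comp K.subtype) := by
  refine ⟨COneSeven.l32 hs hc, h.sq, fun y hy => ?_⟩
  by_contra hcon
  push Not at hcon
  apply hy
  apply K.subtype_injective
  apply h.inj
  rw [map_one, map_one]
  ext v
  exact hcon v

theorem cs_top (h : MF ρ S T O E ξ H₁) (hK : K.Normal) (hs : IsSimpleGroup K) (hξ : ξ ∈ K) :
    CS (ρ.comp K.subtype) (⊤ : Subgroup K) = ⊥ := by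
  rw [eq_bot_iff, ← h.ck K hK hs hξ]
  exact fun v hv k hk => hv ⟨k, hk⟩ (mem_top _)

theorem m64 (h : MF ρ S T O E ξ H₁) (hK : K.Normal) (hs : IsSimpleGroup K) (hc : Nat.card K = 168) (hξ : ξ ∈ K)
    (hV : Nat.card V = 64) : M64 (ρ.comp K.subtype) := by
  refine ⟨mod h hs hc, hs, cs_top h hK hs hξ, hV, fun y z hy hz => ?_⟩
  exact index_eq_of_orderOf ρ h.cyc Nat.prime_three (by norm_num) (y := (y : H)) (z := (z : H))
    (by rw [Subgroup.orderOf_coe]; exact hy) (by rw [Subgroup.orderOf_coe]; exact hz)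

theorem cent_eq (h : MF ρ S T O E ξ H₁) (hK : K.Normal) (hs : IsSimpleGroup K) (hc : Nat.card K = 168) (hξ : ξ ∈ K)
    (hV : Nat.card V = 64) : centralizer (K : Set H) = ⊥ := by
  by_contra hne
  have hCn : (centralizer (K : Set H)).Normal := Subgroup.normal_centralizer
  -- an element of odd prime order
  obtain ⟨p, hp, hp2, x, hxC, hx⟩ : ∃ p : ℕ, p.Prime ∧ p ≠ 2 ∧ ∃ x ∈ centralizer (K : Set H), orderOf x = p := by
    by_contra hcon
    push Not at hcon
    apply hne
    apply h.core _ hCn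
    have h1 : Nat.card (centralizer (K : Set H)) =
        2 ^ (Nat.card (centralizer (K : Set H))).primeFactorsList.length := by
      apply Nat.eq_prime_pow_of_unique_prime_dvd Nat.card_pos.ne'
      intro d hd hdvd
      by_contra hd2
      have : Fact d.Prime := ⟨hd⟩
      obtain ⟨x, hx⟩ := exists_prime_orderOf_dvd_card' (G := centralizer (K : Set H)) d hdvd
      exact hcon d hd hd2 x x.2 (by rw [Subgroup.orderOf_coe]; exact hx)
    exact IsPGroup.of_card h1
  have hx1 : x ≠ 1 := by rintro rfl; rw [orderOf_one] at hx; exact hp.one_lt.ne hx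
  have hxK : ∀ k ∈ K, k * x = x * k := fun k hk => mem_centralizer_iff.1 hxC k hk
  have hxne : ∃ v, ρ x v ≠ v := by
    by_contra hcon
    push Not at hcon
    apply hx1
    apply h.inj
    rw [map_one]
    ext v
    exact hcon v
  obtain ⟨d, hd0, hd1, hd2⟩ := prim (ρ := ρ) h.sq hp hp2 hx hxne
  have hmod := mod h hs hc
  have hm64 := m64 h hK hs hc hξ hV
  have hd6 : d ≤ 6 := by
    have h1 : (2 : ℕ) ^ d ∣ 2 ^ 6 := by
      have := (fx ρ x).index_dvd_card
      rwa [hd1, hV] at this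
    exact (Nat.pow_dvd_pow_iff_le_right (by norm_num)).1 h1
  have hp37 : p = 3 ∨ p = 7 := by
    by_cases hD : fx ρ x = ⊥
    · rw [hD, index_bot, hV] at hd1
      rw [← hd1] at hd2
      have h1 : p ∣ 3 * 3 * 7 := hd2
      rcases (Nat.Prime.dvd_mul hp).1 h1 with h2 | h2
      · left
        rcases (Nat.Prime.dvd_mul hp).1 h2 with h3 | h3 <;>
          exact (Nat.prime_dvd_prime_iff_eq hp Nat.prime_three).1 h3
      · right; exact (Nat.prime_dvd_prime_iff_eq hp (by norm_num)).1 h2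
    · have h8 := eight_le hmod hs hm64.top (D := fx ρ x) (by
        intro k v hv
        show ρ x (ρ (k : H) v) = ρ (k : H) v
        rw [← MulAut.mul_apply, ← map_mul, ← hxK k k.2, map_mul, MulAut.mul_apply, show ρ x v = v from hv]) hD
      have h1 := (fx ρ x).card_mul_index
      rw [hV, hd1] at h1
      have h2 : (2 : ℕ) ^ d ≤ 8 := by
        by_contra hcon
        have h3 : 9 ≤ (2 : ℕ) ^ d := by omega
        have h4 := Nat.mul_le_mul h8 h3
        omega
      have h3 : d ≤ 3 := (Nat.pow_le_pow_iff_right (a := 2) (by norm_num)).1 (h2.trans (by norm_num : 8 ≤ 2 ^ 3))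
      have h4 : d = 1 ∨ d = 2 ∨ d = 3 := by omega
      rcases h4 with rfl | rfl | rfl
      · exfalso
        have h5 : p ∣ 1 := hd2
        exact hp.one_lt.ne' (Nat.dvd_one.1 h5)
      · left; exact (Nat.prime_dvd_prime_iff_eq hp Nat.prime_three).1 hd2
      · right; exact (Nat.prime_dvd_prime_iff_eq hp (by norm_num)).1 hd2
  obtain ⟨y, hyK, hy⟩ := ex_order hc hp (by rcases hp37 with rfl | rfl <;> norm_num)
  have h1 := CompBasic.zpowers_eq_of_commute h.cyc hp hp2 hy hx (hxK y hyK)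
  have hxK' : x ∈ K := by
    have h2 : x ∈ zpowers y := by rw [h1]; exact mem_zpowers x
    exact (zpowers_le.2 hyK : zpowers y ≤ K) h2
  -- `x` is central in `K`
  have h2 : (⟨x, hxK'⟩ : K) ∈ center K := by
    rw [Subgroup.mem_center_iff]
    intro k
    exact Subtype.ext (hxK k k.2)
  rcases hs.eq_bot_or_eq_top_of_normal (center K) inferInstance with h3 | h3
  · rw [h3, mem_bot] at h2
    exact hx1 (congrArg Subtype.val h2)
  · obtain ⟨a, b, hf⟩ := hmod.l32.four
    obtain ⟨y', hy3, hy1, -⟩ := hmod.l32.fuse a b hf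
    have h4 : a ∈ center K := by rw [h3]; trivial
    rw [Subgroup.mem_center_iff] at h4
    apply hf.ne
    rw [← hy1, h4 y', mul_inv_cancel_right]

theorem false_of (h : MF ρ S T O E ξ H₁) (hK : K.Normal) (hs : IsSimpleGroup K) (hc : Nat.card K = 168) (hξ : ξ ∈ K)
    (hV : Nat.card V = 64) : False := by
  have hcent := cent_eq h hK hs hc hξ hV
  have hm := m64 h hK hs hc hξ hV
  have hsv : EN.SevGrp.Sv K := ⟨hK, hs, hc, hcent⟩
  have hamb : EN.S7Grp.Amb K := ⟨hK, hs, hc, hcent⟩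
  have hE4 : Nat.card E ≤ 4 := hsv.card_le_four h.E_sq
  have hE2 : ∃ n, Nat.card E = 2 ^ n := by
    have : Fact (Nat.Prime 2) := ⟨Nat.prime_two⟩
    have h1 : IsPGroup 2 E := h.two.to_le (h.E_le.trans h.T_le)
    exact IsPGroup.iff_card.1 h1
  obtain ⟨e, he, heO⟩ := h.exists_e
  have he1 : e ≠ 1 := fun h1 => heO (h1 ▸ one_mem O)
  have hE24 : Nat.card E = 2 ∨ Nat.card E = 4 := by
    obtain ⟨n, hn⟩ := hE2
    have h1 : n ≤ 2 := by
      have : (2 : ℕ) ^ n ≤ 2 ^ 2 := by rw [← hn]; exact hE4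
      exact (Nat.pow_le_pow_iff_right (by norm_num)).1 this
    have h2 : n ≠ 0 := by
      rintro rfl
      rw [pow_zero, Subgroup.card_eq_one] at hn
      exact h.E_ne hn
    have h3 : n = 1 ∨ n = 2 := by omega
    rcases h3 with rfl | rfl
    · left; rw [hn]; norm_num
    · right; rw [hn]; norm_num
  have hthree : ∀ y : K, orderOf y = 3 → ∀ F : Subgroup V, F ≤ H₁ → (∀ v ∈ F, (ρ.comp K.subtype) y v ∈ F) →
      ∀ v ∈ F, (ρ.comp K.subtype) y v = v := fun y hy F hF hinv =>
    h.three y (by rw [Subgroup.orderOf_coe]; exact hy) F hF hinv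
  by_cases hEK : E ≤ K
  · have hle : H₁ ≤ CS (ρ.comp K.subtype) (E.subgroupOf K) := fun v hv k hk => h.H₁_le hv k hk
    rcases hE24 with h2 | h4
    · -- `|E| = 2`
      have h3 : H₁ = fx (ρ.comp K.subtype) ⟨e, hEK he⟩ := by
        refine eq_of_index_le (fun v hv => h.H₁_le hv e he) ?_
        refine le_trans ?_ (hm.four_le (a := ⟨e, hEK he⟩) (fun h1 => he1 (congrArg Subtype.val h1))
          (Subtype.ext (h.E_sq e he)))
        have := h.ind
        rw [h2] at this
        exact this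
      rw [h3] at hthree
      exact hm.one (e := ⟨e, hEK he⟩) (fun h1 => he1 (congrArg Subtype.val h1)) (Subtype.ext (h.E_sq e he)) hthree
    · refine hm.two (A := E.subgroupOf K) ⟨?_, fun a ha => Subtype.ext (h.E_sq _ ha)⟩ hle ?_ hthree
      · rw [← h4, ← Subgroup.card_map_of_injective (K := E.subgroupOf K) K.subtype_injective, subgroupOf_map_subtype,
          inf_eq_left.2 hEK]
      · have := h.ind
        rw [h4] at this
        exact this
  · obtain ⟨b, hb, hbK⟩ : ∃ b ∈ E, b ∉ K := by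
      by_contra hcon
      push Not at hcon
      exact hEK hcon
    have hb1 : b ≠ 1 := fun h1 => hbK (h1 ▸ one_mem K)
    have hne : ∃ j ∈ K, ∃ v, ρ j v ≠ v := by
      obtain ⟨y, hyK, hy⟩ := ex_order hc Nat.prime_three (by norm_num)
      refine ⟨y, hyK, ?_⟩
      by_contra hcon
      push Not at hcon
      have : y = 1 := h.inj (by rw [map_one]; ext v; exact hcon v)
      rw [this, orderOf_one] at hy
      norm_num at hy
    have h5 := EN.S7Mod.outer hamb h.sq hne hbK (h.E_sq b hb)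
    obtain ⟨d, hd⟩ := index_pow h.sq (fx ρ b)
    have h8 : 8 ≤ (fx ρ b).index := by
      rw [hd] at h5 ⊢
      have h6 : 3 ≤ d := by
        by_contra hcon
        have h7 := Nat.pow_le_pow_right (n := 2) (by norm_num) (show d ≤ 2 by omega)
        omega
      calc 8 = 2 ^ 3 := by norm_num
        _ ≤ 2 ^ d := Nat.pow_le_pow_right (by norm_num) h6
    have hle : H₁ ≤ fx ρ b := fun v hv => h.H₁_le hv b hb
    have h9 := index_le_of_le hle
    have h10 := h.ind
    have h11 : Nat.card E = 4 := by omega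
    have hH : H₁ = fx ρ b := eq_of_index_le hle (by omega)
    obtain ⟨t, ht, ht1, htb⟩ : ∃ t ∈ E, t ≠ 1 ∧ b ≠ t := by
      by_contra hcon
      push Not at hcon
      have h12 : Nat.card E ≤ 2 := card_le_two_of (B := E) (a := b) (fun t ht => by
        by_cases h1 : t = 1
        · exact Or.inl h1
        · exact Or.inr (hcon t ht h1).symm)
      omega
    obtain ⟨u, huK, hu, hub, -⟩ := hsv.outer_three hbK (t := t)
      ⟨h.E_sq b hb, h.E_sq t ht, hb1, ht1, htb, h.E_comm hb ht⟩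
    have hub' : b * u = u * b := mul_inv_eq_iff_eq_mul.1 hub
    have h13 : fx ρ b ≤ fx ρ u := by
      intro v hv
      refine h.three u hu (fx ρ b) (by rw [hH]) ?_ v hv
      intro w hw
      show ρ b (ρ u w) = ρ u w
      rw [act_comm hub', show ρ b w = w from hw]
    have h14 := index_le_of_le h13
    have h15 := hm.sixteen_le (y := ⟨u, huK⟩) (by rw [Subgroup.orderOf_mk]; exact hu)
    have h16 : (fx (ρ.comp K.subtype) ⟨u, huK⟩).index = (fx ρ u).index := rfl
    rw [← hH] at h14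
    omega

end main

end Cfsg.Agent.OddCyclic.Bc.Seven
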