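import Cfsg.Agent.OddCyclic.FFStruct
import Cfsg.Agent.OddCyclic.FFSl2

/-!
# S0342, leaf [Bc], section 1 of blueprints/S0342-Bc-helper108.md: the NFF theorem, setting

`Nff ρ S O T E x` : `H` (odd Sylow subgroups cyclic, simple subgroups in `KZero`, `O₂(H) = 1`) acts faithfully on the
elementary abelian 2-group `V`, no `1 ≠ A ≤ H` elementary abelian satisfies `|V : C_V(A)| ≤ |A|`, `S` is a Sylow
2-subgroup, `V = ⟨C_V(S)^H⟩`, `O ≤ T ≤ S`, `|T : O| = 2`, `x` of order 3 normalises `O` and is inverted mod `O` by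
`T - O`, `E ≤ T` is elementary abelian, `E ≰ O`, `|V : C_V(E)| = 2 |E|`, and elements of order 3 normalising
`F ≤ C_V(E)` centralise `F`; if `x ∈ K ⊴ H` is simple then `C_V(K) = 1`.

* `OutA`, `OutB` : the two outcomes of (1.3);
* `Nff.no_three` (N1): no element of order 3 centralises `E`;
* `Nff.exists_inv` (inv): every `e ∈ E - O` inverts an element of order 3.
-/

set_option autoImplicit false
set_option linter.unusedSectionVars false

namespace Cfsg.Agent.OddCyclic.Bc.NF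

open Subgroup Cfsg Cfsg.Agent.OddCyclic.T1Defs Cfsg.Agent.OddCyclic.T1Module Cfsg.Agent.OddCyclic.FFBasic
  Cfsg.Agent.OddCyclic.FFRed Cfsg.Agent.OddCyclic.CompBasic Cfsg.Agent.OddCyclic.FFSl2
open Cfsg.Agent.OddCyclic.PumpMain (KZero)

variable {H V : Type*} [Group H] [CommGroup V] {ρ : H →* MulAut V} {S O T E : Subgroup H} {x : H}

/-- the setting of the NFF theorem, without `ck` -/
structure Nff0 (ρ : H →* MulAut V) (S O T E : Subgroup H) (x : H) : Prop where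
  cyc : OddCyc H
  kz : ∀ J : Subgroup H, IsSimpleGroup J → (∃ a b : J, a * b ≠ b * a) → KZero J
  core : pCore 2 H = ⊥
  sq : ∀ v : V, v * v = 1
  inj : Function.Injective ρ
  S_two : IsPGroup 2 S
  S_syl : ¬ 2 ∣ S.index
  gen : ∀ W : Subgroup V, CS ρ S ≤ W → (∀ h, ∀ w ∈ W, ρ h w ∈ W) → W = ⊤
  O_le : O ≤ T
  T_le : T ≤ S
  rel : O.relIndex T = 2
  x3 : orderOf x = 3
  x_norm : x ∈ normalizer (O : Set H)
  inv : ∀ t ∈ T, t ∉ O → t * x * t⁻¹ * x ∈ O
  E_le : E ≤ T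
  E_not : ¬ E ≤ O
  E_sq : ∀ a ∈ E, a * a = 1
  ind : (CS ρ E).index = 2 * Nat.card E
  nff : ∀ A : Subgroup H, A ≠ ⊥ → (∀ a ∈ A, a * a = 1) → Nat.card A < (CS ρ A).index
  three : ∀ y : H, orderOf y = 3 → ∀ F : Subgroup V, F ≤ CS ρ E → (∀ v ∈ F, ρ y v ∈ F) → ∀ v ∈ F, ρ y v = v

/-- the setting of the NFF theorem -/
structure Nff (ρ : H →* MulAut V) (S O T E : Subgroup H) (x : H) : Prop extends Nff0 ρ S O T E x where
  ck : ∀ K : Subgroup H, K.Normal → IsSimpleGroup K → x ∈ K → CS ρ K = ⊥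

/-- outcome (A) of (1.3), with (1.4) -/
structure OutA (ρ : H →* MulAut V) (E : Subgroup H) (x e : H) : Prop where
  norm : (zpowers x).Normal
  E_eq : ∀ a, a ∈ E ↔ a = 1 ∨ a = e
  ne : e ≠ 1
  sq : e * e = 1
  inv : e * x * e⁻¹ = x⁻¹
  ind : (fx ρ e).index = 4
  idx : (fx ρ x).index = 4 ∨ (fx ρ x).index = 16
  dec : ∃ R : Subgroup H, R.Normal ∧ IsPGroup 3 R ∧ IsCyclic R ∧ x ∈ R ∧ (∀ r ∈ R, e * r * e⁻¹ = r⁻¹) ∧
    ∀ h : H, ∃ o ∈ R, ∃ c : H, c * e = e * c ∧ h = o * c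

/-- outcome (B) of (1.3) -/
structure OutB (E : Subgroup H) (x : H) (K : Subgroup H) : Prop where
  norm : K.Normal
  simple : IsSimpleGroup K
  kz : KZero K
  nsz : ¬ Cfsg.Lie.IsoSuzuki K
  mem : x ∈ K
  /-- `E` is faithful on `K` -/
  faith : ∀ a ∈ E, (∀ k ∈ K, a * k = k * a) → a = 1
  /-- `E ∩ K C_H(K) = E ∩ K` -/
  inn : ∀ a ∈ E, ∀ g ∈ K, (∀ k ∈ K, a * k * a⁻¹ = g * k * g⁻¹) → a = g

namespace Nff0

variable (h : Nff0 ρ S O T E x)

include h

theorem ne {k : H} (hk : k ≠ 1) : ∃ v, ρ k v ≠ v := by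
  by_contra hcon
  push Not at hcon
  apply hk
  apply h.inj
  rw [map_one]
  ext v
  exact hcon v

theorem T_two : IsPGroup 2 T := h.S_two.to_le h.T_le

theorem O_two : IsPGroup 2 O := h.T_two.to_le h.O_le

theorem x_ne : x ≠ 1 := by
  intro h1
  have := h.x3
  rw [h1, orderOf_one] at this
  omega

theorem comm {a b : H} (ha : a ∈ E) (hb : b ∈ E) : a * b = b * a := comm_of_sq h.E_sq ha hb

/-- `|V : C_V(A)| ≥ 2 |A|` -/
theorem nff2 [Finite V] {A : Subgroup H} (hA : A ≠ ⊥) (h2 : ∀ a ∈ A, a * a = 1) [Finite H] :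
    2 * Nat.card A ≤ (CS ρ A).index := by
  have h1 := h.nff A hA h2
  obtain ⟨m, hm⟩ := index_pow h.sq (CS ρ A)
  have hp : IsPGroup 2 A := fun b => ⟨1, by rw [pow_one, pow_two]; exact Subtype.ext (h2 b b.2)⟩
  have : Fact (Nat.Prime 2) := ⟨Nat.prime_two⟩
  obtain ⟨n, hn⟩ := (IsPGroup.iff_card (p := 2)).1 hp
  rw [hm, hn] at h1 ⊢
  have h3 : n < m := (Nat.pow_lt_pow_iff_right (by norm_num)).1 h1
  calc 2 * 2 ^ n = 2 ^ (n + 1) := by ring
    _ ≤ 2 ^ m := Nat.pow_le_pow_right (by norm_num) h3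

/-- (N2): elements of order 3 in `N_H(E)` centralise `C_V(E)` -/
theorem norm_three {y : H} (hy : orderOf y = 3) (hn : y ∈ normalizer (E : Set H)) {v : V} (hv : v ∈ CS ρ E) :
    ρ y v = v :=
  h.three y hy _ le_rfl (fun _ hw => CS_stable hn hw) v hv

/-- (N1): no element of order 3 centralises `E` -/
theorem no_three [Finite V] {y : H} (hy : orderOf y = 3) (hc : ∀ a ∈ E, a * y = y * a) : False := by
  have hy1 : y ≠ 1 := by
    rintro rfl
    rw [orderOf_one] at hy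
    omega
  have hp : IsPGroup 2 E := fun b => ⟨1, by rw [pow_one, pow_two]; exact Subtype.ext (h.E_sq b b.2)⟩
  obtain ⟨v, hv, hyv⟩ := axb (ρ := ρ) h.sq hp (by rw [hy]; decide) hc (h.ne hy1)
  apply hyv
  refine h.norm_three hy ?_ hv
  refine Subgroup.centralizer_le_normalizer _ ?_
  rw [Subgroup.mem_centralizer_iff]
  intro b hb
  exact hc b hb

theorem exists_e : ∃ e ∈ E, e ∉ O := by
  by_contra hcon
  push Not at hcon
  exact h.E_not hcon

theorem x_notMem : x ∉ O := by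
  intro hx
  obtain ⟨k, hk⟩ := h.O_two ⟨x, hx⟩
  have h1 : x ^ 2 ^ k = 1 := congrArg Subtype.val hk
  have h2 : orderOf x ∣ 2 ^ k := orderOf_dvd_of_pow_eq_one h1
  rw [h.x3] at h2
  have h3 : (3 : ℕ) ∣ 2 := Nat.prime_three.dvd_of_dvd_pow h2
  omega

/-- (inv): `e ∈ E - O` inverts an element of order 3 of `O⟨x⟩` -/
theorem exists_inv {e : H} (he : e ∈ E) (heO : e ∉ O) :
    ∃ y ∈ O ⊔ zpowers x, orderOf y = 3 ∧ e * y * e⁻¹ = y⁻¹ := by
  have hee := h.E_sq e he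
  have he1 : e⁻¹ = e := inv_eq_of_mul_eq_one_left hee
  have ho := h.inv e (h.E_le he) heO
  set o := e * x * e⁻¹ * x with hodef
  have hx3 : x * x * x = 1 := by
    have := pow_orderOf_eq_one x
    rwa [h.x3, pow_succ, pow_two] at this
  have hxi : x⁻¹ = x * x := inv_eq_of_mul_eq_one_left (by rw [hx3])
  set c := e * x * e⁻¹ * x⁻¹ with hc
  have hco : c = o * x := by
    rw [hc, hodef, hxi]; group
  have hcinv : e * c * e⁻¹ = c⁻¹ := by
    have h1 : e * c * e⁻¹ = (e * e) * x * e⁻¹ * x⁻¹ * e⁻¹ := by rw [hc]; group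
    have h2 : c⁻¹ = x * e * x⁻¹ * e⁻¹ := by rw [hc]; group
    rw [h1, h2, hee, he1, one_mul]
  have hxn := mem_normalizer_iff.1 h.x_norm
  have hc3 : c ^ 3 ∈ O := by
    have h1 : c ^ 3 = o * (x * o * x⁻¹) * (x * (x * o * x⁻¹) * x⁻¹) * (x * x * x) := by
      rw [hco, pow_succ, pow_two]; group
    rw [h1, hx3, mul_one]
    exact mul_mem (mul_mem ho ((hxn o).1 ho)) ((hxn _).1 ((hxn o).1 ho))
  have hcO : c ∉ O := by
    intro h1
    apply h.x_notMem
    have h2 := mul_mem (inv_mem ho) h1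
    rwa [hco, inv_mul_cancel_left] at h2
  obtain ⟨k, hk⟩ := h.O_two ⟨c ^ 3, hc3⟩
  have hk' : (c ^ 3) ^ 2 ^ k = 1 := congrArg Subtype.val hk
  refine ⟨c ^ 2 ^ k, ?_, ?_, ?_⟩
  · apply pow_mem
    rw [hco]
    exact mul_mem (le_sup_left (a := O) ho) (le_sup_right (a := O) (mem_zpowers x))
  · apply orderOf_eq_prime
    · rw [← pow_mul, mul_comm, pow_mul]
      exact hk'
    · intro h1
      apply hcO
      have h2 : orderOf c ∣ 2 ^ k := orderOf_dvd_of_pow_eq_one h1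
      have h3 : (orderOf c).Coprime 3 := Nat.Coprime.coprime_dvd_left h2 (by
        apply Nat.Coprime.pow_left; norm_num)
      obtain ⟨m, hm⟩ := exists_pow_eq_self_of_coprime h3.symm
      rw [← hm]
      exact pow_mem hc3 m
  · rw [← conj_pow, hcinv, inv_pow]

end Nff0

end Cfsg.Agent.OddCyclic.Bc.NF
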