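import Cfsg.Agent.OddCyclic.Bc.Defs
import Cfsg.Agent.OddCyclic.Bc.NF

/-!
# S0342, leaf [Bc], section 2 of blueprints/S0342-Bc-helper108.md: `⟨ξ⟩` is normal, module half

`H` acts on the elementary abelian 2-group `V`, `ξ` of order 3, `⟨ξ⟩ ⊴ H`, `V₁ = [V, ξ] = (cm ρ ξ).range`, `V₂ = C_V(ξ)`.

* `disj`, `sup`, `inv_V₁`, `inv_V₂` : `V = V₁ × V₂`, both `H`-invariant; `pr` : the projection onto `V₁`;
* `act` : `|V₁| = 4` ⇒ every `g ∈ H` acts on `V₁` as an element of `T⟨ξ⟩`;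
* `actA` : the same in case `OutA`;
* `six` : `V₂ = 1`, `|V₁| = 4` ⇒ `|V| = 4`, `|H| = 6`;
* `d4` : `V₂ = 1`, `OutA` ⇒ `|V| = 16`, `|H| = 6`, `S = ⟨e⟩`, `|C_V(S)| = 4`, `C_V(S) ∩ C_V(S)^ξ = 1`.
-/

set_option autoImplicit false
set_option linter.unusedSectionVars false

namespace Cfsg.Agent.OddCyclic.Bc.XiNorm

open Subgroup Cfsg Cfsg.Agent.OddCyclic.T1Defs Cfsg.Agent.OddCyclic.T1Module Cfsg.Agent.OddCyclic.FFBasic
  Cfsg.Agent.OddCyclic.FFRed Cfsg.Agent.OddCyclic.CompBasic Cfsg.Agent.OddCyclic.Bc.Defs Cfsg.Agent.OddCyclic.Bc.NF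

variable {H V : Type*} [Group H] [CommGroup V] {ρ : H →* MulAut V} {ξ : H}

/-! ### the decomposition `V = [V, ξ] × C_V(ξ)` -/

theorem odd3 (h3 : orderOf ξ = 3) : Odd (orderOf ξ) := by rw [h3]; decide

theorem conj_cases (h3 : orderOf ξ = 3) (hn : (zpowers ξ).Normal) (g : H) :
    g * ξ * g⁻¹ = ξ ∨ g * ξ * g⁻¹ = ξ⁻¹ := by
  obtain ⟨k, hk⟩ := hn.conj_mem ξ (mem_zpowers ξ) g
  have hk' : ξ ^ k = g * ξ * g⁻¹ := hk
  have h1 : ξ ^ (k % 3) = ξ ^ k := by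
    have := zpow_mod_orderOf ξ k
    rwa [h3] at this
  have h2 : k % 3 = 0 ∨ k % 3 = 1 ∨ k % 3 = 2 := by omega
  rw [← hk', ← h1]
  rcases h2 with h2 | h2 | h2
  · exfalso
    rw [h2, zpow_zero, hk'] at h1
    have h4 : ξ = 1 := by
      have : g⁻¹ * (g * ξ * g⁻¹) * g = ξ := by group
      rw [← this, ← h1]; group
    rw [h4, orderOf_one] at h3
    omega
  · left; rw [h2, zpow_one]
  · right
    rw [h2, eq_inv_iff_mul_eq_one]
    have : (ξ : H) ^ 3 = 1 := by rw [← h3, pow_orderOf_eq_one]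
    rw [← zpow_add_one]
    exact_mod_cast this

theorem comm_of_conj {g : H} (h : g * ξ * g⁻¹ = ξ) : g * ξ = ξ * g := by
  rw [mul_inv_eq_iff_eq_mul] at h; exact h

theorem xi3 (h3 : orderOf ξ = 3) : ξ * (ξ * ξ) = 1 := by
  have : (ξ : H) ^ 3 = 1 := by rw [← h3, pow_orderOf_eq_one]
  rw [← this, pow_succ, pow_two, mul_assoc]

theorem xi_inv (h3 : orderOf ξ = 3) : ξ⁻¹ = ξ * ξ := inv_eq_of_mul_eq_one_right (xi3 h3)

theorem rho3 (h3 : orderOf ξ = 3) (v : V) : ρ ξ (ρ ξ (ρ ξ v)) = v := by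
  rw [← act_mul, ← act_mul, mul_assoc, xi3 h3, map_one]; rfl

/-- the projection onto `V₁`, with kernel `V₂` -/
def pr (ρ : H →* MulAut V) (ξ : H) : V →* V where
  toFun v := ρ ξ v * ρ ξ (ρ ξ v)
  map_one' := by simp
  map_mul' v w := by
    simp only [map_mul]
    exact mul_mul_mul_comm _ _ _ _

theorem pr_apply (v : V) : pr ρ ξ v = ρ ξ v * ρ ξ (ρ ξ v) := rfl

theorem pr_mem (hV : ∀ v : V, v * v = 1) (v : V) : pr ρ ξ v ∈ (cm ρ ξ).range := by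
  refine ⟨ρ ξ v, ?_⟩
  rw [cm_apply, pr_apply, inv_eq_self hV, mul_comm]

theorem mul_pr_mem (h3 : orderOf ξ = 3) (v : V) : v * pr ρ ξ v ∈ fx ρ ξ := by
  rw [mem_fx, pr_apply, map_mul, map_mul, rho3 h3]
  rw [mul_comm (ρ ξ (ρ ξ v)) v, ← mul_assoc, mul_comm (ρ ξ v) v, mul_assoc]

theorem eq_one (hV : ∀ v : V, v * v = 1) (h3 : orderOf ξ = 3) {v : V} (h1 : v ∈ (cm ρ ξ).range) (h2 : v ∈ fx ρ ξ) :
    v = 1 := eq_one_of_fix hV (odd3 h3) h1 h2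

theorem disj (hV : ∀ v : V, v * v = 1) (h3 : orderOf ξ = 3) : (cm ρ ξ).range ⊓ fx ρ ξ = ⊥ := by
  rw [Subgroup.eq_bot_iff_forall]
  exact fun v hv => eq_one hV h3 hv.1 hv.2

theorem sup (hV : ∀ v : V, v * v = 1) (h3 : orderOf ξ = 3) : (cm ρ ξ).range ⊔ fx ρ ξ = ⊤ := by
  rw [eq_top_iff]
  intro v _
  have h1 : v = pr ρ ξ v * (v * pr ρ ξ v) := by
    rw [mul_comm v, ← mul_assoc, hV, one_mul]
  rw [h1]
  exact mul_mem_sup (pr_mem hV v) (mul_pr_mem h3 v)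

theorem pr_eq (hV : ∀ v : V, v * v = 1) (h3 : orderOf ξ = 3) {v : V} (hv : v ∈ (cm ρ ξ).range) : pr ρ ξ v = v := by
  have h1 := eq_one hV h3 (mul_mem hv (pr_mem hV v)) (mul_pr_mem h3 v)
  exact (eq_of_mul_eq_one hV h1).symm

theorem pr_eq_one (hV : ∀ v : V, v * v = 1) {v : V} (hv : v ∈ fx ρ ξ) : pr ρ ξ v = 1 := by
  rw [pr_apply, (mem_fx ρ).1 hv, (mem_fx ρ).1 hv, hV]

theorem inv_V₁ (h3 : orderOf ξ = 3) (hn : (zpowers ξ).Normal) (g : H) {v : V} (hv : v ∈ (cm ρ ξ).range) :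
    ρ g v ∈ (cm ρ ξ).range := by
  rcases conj_cases h3 hn g with h | h
  · exact apply_mem_range ρ (comm_of_conj h) hv
  · exact apply_mem_range_of_inv ρ h hv

theorem inv_V₂ (h3 : orderOf ξ = 3) (hn : (zpowers ξ).Normal) (g : H) {v : V} (hv : v ∈ fx ρ ξ) :
    ρ g v ∈ fx ρ ξ := by
  rcases conj_cases h3 hn g with h | h
  · rw [mem_fx, act_comm (comm_of_conj h).symm, (mem_fx ρ).1 hv]
  · have h1 : ξ * g = g * ξ⁻¹ := by
      rw [mul_inv_eq_iff_eq_mul] at h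
      rw [eq_mul_inv_iff_mul_eq, mul_assoc, h]; group
    have h2 := (mem_fx ρ).1 (fx_inv ρ hv)
    rw [mem_fx, ← act_mul, h1, act_mul, h2]

theorem pr_comm (h3 : orderOf ξ = 3) (hn : (zpowers ξ).Normal) (g : H) (v : V) :
    pr ρ ξ (ρ g v) = ρ g (pr ρ ξ v) := by
  rw [pr_apply, pr_apply, map_mul]
  rcases conj_cases h3 hn g with h | h
  · have h1 : ∀ w : V, ρ ξ (ρ g w) = ρ g (ρ ξ w) := fun w => act_comm (comm_of_conj h).symm w
    rw [h1, h1]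
  · have h1 : ξ * g = g * (ξ * ξ) := by
      rw [← xi_inv h3]
      rw [mul_inv_eq_iff_eq_mul] at h
      rw [eq_mul_inv_iff_mul_eq, mul_assoc, h]; group
    have h2 : ∀ w : V, ρ ξ (ρ g w) = ρ g (ρ ξ (ρ ξ w)) := fun w => by
      rw [← act_mul, h1, act_mul, act_mul]
    rw [h2, h2, rho3 h3, mul_comm]

/-- a normal subgroup acting on `V₁` by elements of `S` is trivial on `V₁` -/
theorem triv_of (hV : ∀ v : V, v * v = 1) (h3 : orderOf ξ = 3) (hn : (zpowers ξ).Normal) {S N : Subgroup H}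
    (hN : N.Normal) (gen : ∀ W : Subgroup V, CS ρ S ≤ W → (∀ h : H, ∀ w ∈ W, ρ h w ∈ W) → W = ⊤)
    (hS : ∀ n ∈ N, ∃ s ∈ S, ∀ v ∈ (cm ρ ξ).range, ρ n v = ρ s v) :
    ∀ n ∈ N, ∀ v ∈ (cm ρ ξ).range, ρ n v = v := by
  have h1 := gen ((CS ρ N).comap (pr ρ ξ)) ?_ ?_
  · intro n hnN v hv
    have h2 : v ∈ (CS ρ N).comap (pr ρ ξ) := by rw [h1]; trivial
    rw [Subgroup.mem_comap, pr_eq hV h3 hv] at h2
    exact h2 n hnN
  · intro v hv
    rw [Subgroup.mem_comap]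
    intro n hnN
    obtain ⟨s, hs, h2⟩ := hS n hnN
    rw [h2 _ (pr_mem hV v), ← pr_comm h3 hn, hv s hs]
  · intro g w hw
    rw [Subgroup.mem_comap] at hw ⊢
    rw [pr_comm h3 hn]
    exact CS_stable (by rw [(normalizer_eq_top_iff (H := N)).2 hN]; trivial) hw

/-! ### `|V₁| = 4` -/

theorem four [Finite V] (hV : ∀ v : V, v * v = 1) (h3 : orderOf ξ = 3) (h4 : Nat.card (cm ρ ξ).range = 4) {v w : V}
    (hv : v ∈ (cm ρ ξ).range) (hv1 : v ≠ 1) (hw : w ∈ (cm ρ ξ).range) :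
    w = 1 ∨ w = v ∨ w = ρ ξ v ∨ w = ρ ξ (ρ ξ v) := by
  have hs : ∀ {u : V}, u ∈ (cm ρ ξ).range → ρ ξ u ∈ (cm ρ ξ).range := fun hu => apply_mem_range ρ rfl hu
  have i1 : ρ ξ v ≠ 1 := fun h => hv1 ((ρ ξ).injective (by rw [h, map_one]))
  have i2 : ρ ξ (ρ ξ v) ≠ 1 := fun h => i1 ((ρ ξ).injective (by rw [h, map_one]))
  have i3 : v ≠ ρ ξ v := fun h => hv1 (eq_one hV h3 hv h.symm)
  have i4 : ρ ξ v ≠ ρ ξ (ρ ξ v) := fun h => i3 ((ρ ξ).injective h)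
  have i5 : v ≠ ρ ξ (ρ ξ v) := by
    intro h
    have h5 := congrArg (ρ ξ) h
    rw [rho3 h3] at h5
    exact i3 h5.symm
  have h5 : ({1, v, ρ ξ v, ρ ξ (ρ ξ v)} : Set V) = ((cm ρ ξ).range : Set V) := by
    refine Set.eq_of_subset_of_ncard_le ?_ ?_ (Set.toFinite _)
    · rintro u (rfl | rfl | rfl | rfl)
      · exact one_mem _
      · exact hv
      · exact hs hv
      · exact hs (hs hv)
    · have h6 : ((cm ρ ξ).range : Set V).ncard = 4 := h4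
      rw [h6, Set.ncard_insert_of_notMem, Set.ncard_insert_of_notMem, Set.ncard_pair i4]
      · rintro (h | h)
        · exact i3 h
        · exact i5 h
      · rintro (h | h | h)
        · exact hv1 h.symm
        · exact i1 h.symm
        · exact i2 h.symm
  have h6 : w ∈ ({1, v, ρ ξ v, ρ ξ (ρ ξ v)} : Set V) := by rw [h5]; exact hw
  exact h6

theorem act_comm_four [Finite V] (hV : ∀ v : V, v * v = 1) (h3 : orderOf ξ = 3)
    (h4 : Nat.card (cm ρ ξ).range = 4) {g : H} (hg : g * ξ = ξ * g) :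
    ∃ k ∈ zpowers ξ, ∀ v ∈ (cm ρ ξ).range, ρ g v = ρ k v := by
  obtain ⟨v₀, hv₀, hv1⟩ : ∃ v₀ ∈ (cm ρ ξ).range, v₀ ≠ 1 := by
    have : Nontrivial (cm ρ ξ).range := by
      rw [← Finite.one_lt_card_iff_nontrivial, h4]; norm_num
    obtain ⟨⟨v, hv⟩, hv1⟩ := exists_ne (1 : (cm ρ ξ).range)
    exact ⟨v, hv, fun h => hv1 (Subtype.ext h)⟩
  have key : ∀ k : H, k * ξ = ξ * k → ρ g v₀ = ρ k v₀ → ∀ v ∈ (cm ρ ξ).range, ρ g v = ρ k v := by
    intro k hk h5 v hv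
    rcases four hV h3 h4 hv₀ hv1 hv with rfl | rfl | rfl | rfl
    · rw [map_one, map_one]
    · exact h5
    · rw [act_comm hg, act_comm hk, h5]
    · rw [act_comm hg, act_comm hk, act_comm hg, act_comm hk, h5]
  rcases four hV h3 h4 hv₀ hv1 (apply_mem_range ρ hg hv₀) with h5 | h5 | h5 | h5
  · exact absurd ((ρ g).injective (by rw [h5, map_one])) hv1
  · exact ⟨1, one_mem _, key 1 (by group) (by rw [h5, map_one]; rfl)⟩
  · exact ⟨ξ, mem_zpowers ξ, key ξ rfl h5⟩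
  · exact ⟨ξ * ξ, mul_mem (mem_zpowers ξ) (mem_zpowers ξ), key _ (by group) (by rw [h5, act_mul])⟩

/-- the product of two elements inverting `ξ` centralises `ξ` -/
theorem mul_comm_of_inv {g t : H} (hg : g * ξ * g⁻¹ = ξ⁻¹) (ht : t * ξ * t⁻¹ = ξ⁻¹) : g * t * ξ = ξ * (g * t) := by
  have h1 : t * ξ = ξ⁻¹ * t := by rwa [mul_inv_eq_iff_eq_mul] at ht
  have h2 : g * ξ = ξ⁻¹ * g := by rwa [mul_inv_eq_iff_eq_mul] at hg
  have h3 : g * ξ⁻¹ = ξ * g := by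
    rw [mul_inv_eq_iff_eq_mul, mul_assoc, h2]; group
  rw [mul_assoc, h1, ← mul_assoc, h3, mul_assoc]

theorem act_four [Finite V] (hV : ∀ v : V, v * v = 1) (h3 : orderOf ξ = 3) (hn : (zpowers ξ).Normal)
    (h4 : Nat.card (cm ρ ξ).range = 4) {t : H} (ht : t * ξ * t⁻¹ = ξ⁻¹) (g : H) :
    ∃ k ∈ zpowers ξ, (∀ v ∈ (cm ρ ξ).range, ρ g v = ρ k v) ∨ ∀ v ∈ (cm ρ ξ).range, ρ g v = ρ (k * t⁻¹) v := by
  rcases conj_cases h3 hn g with h | h
  · obtain ⟨k, hk, h5⟩ := act_comm_four hV h3 h4 (comm_of_conj h)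
    exact ⟨k, hk, Or.inl h5⟩
  · obtain ⟨k, hk, h5⟩ := act_comm_four (ρ := ρ) hV h3 h4 (mul_comm_of_inv h ht)
    refine ⟨k, hk, Or.inr fun v hv => ?_⟩
    rw [act_mul, ← h5 _ (inv_V₁ h3 hn _ hv), ← act_mul]
    congr 2; group

/-- the part of the frame `MF` which is used here (no `ck`, nothing about `H₁`) -/
structure Xf (ρ : H →* MulAut V) (S T O E : Subgroup H) (ξ : H) : Prop where
  cyc : OddCyc H
  inj : Function.Injective ρ
  sq : ∀ v : V, v * v = 1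
  two : IsPGroup 2 S
  index : ¬ 2 ∣ S.index
  T_le : T ≤ S
  O_le : O ≤ T
  ξ3 : orderOf ξ = 3
  inv : ∀ t ∈ T, t ∉ O → t * ξ * t⁻¹ * ξ ∈ O
  E_le : E ≤ T
  E_not : ¬ E ≤ O
  gen : ∀ W : Subgroup V, CS ρ S ≤ W → (∀ h : H, ∀ w ∈ W, ρ h w ∈ W) → W = ⊤

section Xf

variable {S T O E : Subgroup H} {H₁ : Subgroup V}

theorem Xf.of_mf (h : MF ρ S T O E ξ H₁) : Xf ρ S T O E ξ :=
  ⟨h.cyc, h.inj, h.sq, h.two, h.index, h.T_le, h.O_le, h.ξ3, h.inv, h.E_le, h.E_not, h.gen⟩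

theorem Xf.exists_e (h : Xf ρ S T O E ξ) : ∃ e ∈ E, e ∉ O := by
  by_contra hcon
  push Not at hcon
  exact h.E_not hcon

theorem Xf.exists_t [Finite H] (h : Xf ρ S T O E ξ) (hn : (zpowers ξ).Normal) :
    ∃ t ∈ T, t ∉ O ∧ t * ξ * t⁻¹ = ξ⁻¹ := by
  obtain ⟨e, he, heO⟩ := h.exists_e
  refine ⟨e, h.E_le he, heO, ?_⟩
  rcases conj_cases h.ξ3 hn e with h1 | h1
  · exfalso
    have h2 := h.inv e (h.E_le he) heO
    rw [h1, ← xi_inv h.ξ3] at h2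
    have h3 : ξ ∈ O := by rw [← inv_mem_iff]; exact h2
    obtain ⟨k, hk⟩ := ((h.two.to_le h.T_le).to_le h.O_le) ⟨ξ, h3⟩
    have h4 : ξ ^ 2 ^ k = 1 := congrArg Subtype.val hk
    have h5 : orderOf ξ ∣ 2 ^ k := orderOf_dvd_of_pow_eq_one h4
    rw [h.ξ3] at h5
    have h6 : (3 : ℕ) ∣ 2 := Nat.prime_three.dvd_of_dvd_pow h5
    omega
  · exact h1

/-- **(b)** -/
theorem Xf.act [Finite H] [Finite V] (h : Xf ρ S T O E ξ) (hn : (zpowers ξ).Normal) (h4 : (fx ρ ξ).index = 4) (g : H) :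
    ∃ k ∈ T ⊔ zpowers ξ, ∀ v ∈ (cm ρ ξ).range, ρ g v = ρ k v := by
  obtain ⟨t, htT, -, ht⟩ := h.exists_t hn
  obtain ⟨k, hk, h5 | h5⟩ := act_four (ρ := ρ) h.sq h.ξ3 hn (by rw [card_range_cm, h4]) ht g
  · exact ⟨k, mem_sup_right hk, h5⟩
  · exact ⟨_, mul_mem (mem_sup_right hk) (mem_sup_left (inv_mem htT)), h5⟩

end Xf

/-! ### case `OutA`, `|V₁| = 16` -/

/-- `ξ` is in `⟨y⟩` if `3` divides the order of `y`, `y ∈ C(ξ)` -/
theorem mem_of_dvd [Finite H] (cyc : OddCyc H) (h3 : orderOf ξ = 3) {y : H} (hy : 3 ∣ orderOf y) (hc : y * ξ = ξ * y) :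
    ξ ∈ zpowers y := by
  have : Fact (Nat.Prime 3) := ⟨Nat.prime_three⟩
  obtain ⟨⟨z, hz⟩, hz3⟩ := exists_prime_orderOf_dvd_card' (G := zpowers y) 3 (by rwa [Nat.card_zpowers])
  rw [Subgroup.orderOf_mk] at hz3
  have hcz : Commute z ξ := by
    obtain ⟨k, rfl⟩ := hz
    exact (show Commute y ξ from hc).zpow_left k
  have h1 := zpowers_eq_of_commute cyc Nat.prime_three (by norm_num) hz3 h3 hcz
  have h2 : ξ ∈ zpowers z := by rw [h1]; exact mem_zpowers ξ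
  exact (zpowers_le.2 hz) h2

/-- a cyclic 3-group containing `ξ` and normalising `V₁`, `|V₁| = 16`, is `⟨ξ⟩` -/
theorem R_eq [Finite H] [Finite V] (cyc : OddCyc H) (hV : ∀ v : V, v * v = 1) (h3 : orderOf ξ = 3)
    (h16 : Nat.card (cm ρ ξ).range = 16) {R : Subgroup H} (hR : IsPGroup 3 R) (hc : IsCyclic R) (hξ : ξ ∈ R) :
    R = zpowers ξ := by
  have hcomm : ∀ y ∈ R, y * ξ = ξ * y := by
    intro y hy
    have := hc.commGroup
    have h1 : (⟨y, hy⟩ : R) * ⟨ξ, hξ⟩ = ⟨ξ, hξ⟩ * ⟨y, hy⟩ := by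
      have : IsMulCommutative R := inferInstance
      exact this.is_comm.comm _ _
    exact congrArg Subtype.val h1
  have h1 := card_dvd_sub_one (K := V) (D := R) (ρ.comp R.subtype) (cm ρ ξ).range ?_ ?_
  · rw [h16] at h1
    have : Fact (Nat.Prime 3) := ⟨Nat.prime_three⟩
    obtain ⟨n, hn⟩ := (IsPGroup.iff_card (p := 3)).1 hR
    rw [hn] at h1
    have h2 : n ≤ 1 := by
      by_contra hcon
      push Not at hcon
      have h3 : 3 ^ 2 ∣ 3 ^ n := pow_dvd_pow 3 hcon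
      have h4 := h3.trans h1
      norm_num at h4
    symm
    apply Subgroup.eq_of_le_of_card_ge (zpowers_le.2 hξ)
    rw [Nat.card_zpowers, h3, hn]
    calc 3 ^ n ≤ 3 ^ 1 := Nat.pow_le_pow_right (by norm_num) h2
      _ = 3 := by norm_num
  · rintro ⟨d, hd⟩ c hcc
    exact apply_mem_range ρ (hcomm d hd) hcc
  · rintro ⟨d, hd⟩ c hcc hc1 hfix
    by_contra hne
    have h2 : 3 ∣ orderOf d := by
      have : Fact (Nat.Prime 3) := ⟨Nat.prime_three⟩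
      obtain ⟨k, hk⟩ := (IsPGroup.iff_orderOf (p := 3)).1 hR ⟨d, hd⟩
      rw [Subgroup.orderOf_mk] at hk
      rcases Nat.eq_zero_or_pos k with h | h
      · exfalso
        rw [h, pow_zero, orderOf_eq_one_iff] at hk
        exact hne (Subtype.ext hk)
      · rw [hk]; exact dvd_pow_self 3 h.ne'
    obtain ⟨n, hn⟩ := mem_of_dvd cyc h3 h2 (hcomm d hd)
    apply hc1
    apply eq_one hV h3 hcc
    have h5 : c ∈ fx ρ d := hfix
    have h6 : c ∈ fx ρ (d ^ n) := by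
      obtain ⟨m, rfl | rfl⟩ := n.eq_nat_or_neg
      · rw [zpow_natCast]; exact fx_pow ρ h5 m
      · rw [zpow_neg, zpow_natCast]; exact fx_inv ρ (fx_pow ρ h5 m)
    have h7 : d ^ n = ξ := hn
    rwa [h7] at h6

section W₀

variable {e : H}

/-- `C_{V₁}(e) ∩ C_{V₁}(e)^ξ = 1` -/
theorem disjW (hV : ∀ v : V, v * v = 1) (h3 : orderOf ξ = 3) (he : e * ξ * e⁻¹ = ξ⁻¹) {w : V}
    (hw : w ∈ (cm ρ ξ).range) (h1 : ρ e w = w) (h2 : ρ e (ρ ξ w) = ρ ξ w) : w = 1 := by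
  apply eq_one hV h3 hw
  apply fx_of_sq ρ (odd3 h3)
  have h4 : e * ξ = (ξ * ξ) * e := by
    rw [← xi_inv h3]; rwa [mul_inv_eq_iff_eq_mul] at he
  rw [mem_fx]
  have h5 : ρ e (ρ ξ w) = ρ (ξ * ξ) w := by
    rw [← act_mul, h4, act_mul, h1]
  have h6 : ρ ξ (ρ ξ w) = ρ ξ w := by rw [← act_mul, ← h5, h2]
  rw [act_mul, h6]
  exact (ρ ξ).injective h6

/-- `C_{V₁}(e)` -/
def W₀ (ρ : H →* MulAut V) (ξ e : H) : Subgroup V := (cm ρ ξ).range ⊓ fx ρ e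

theorem mem_W₀ {w : V} : w ∈ W₀ ρ ξ e ↔ w ∈ (cm ρ ξ).range ∧ ρ e w = w := Iff.rfl

theorem W₀_inj (hV : ∀ v : V, v * v = 1) (h3 : orderOf ξ = 3) (he : e * ξ * e⁻¹ = ξ⁻¹) :
    Function.Injective (fun p : W₀ ρ ξ e × W₀ ρ ξ e => (p.1 : V) * ρ ξ (p.2 : V)) := by
  rintro ⟨⟨a, ha⟩, ⟨b, hb⟩⟩ ⟨⟨c, hc⟩, ⟨d, hd⟩⟩ h
  have h1 : a * ρ ξ b = c * ρ ξ d := h
  have h2 : ρ ξ (b * d⁻¹) = a⁻¹ * c := by
    rw [map_mul, map_inv, mul_inv_eq_iff_eq_mul, mul_assoc, ← h1, inv_mul_cancel_left]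
  have hbd : b * d⁻¹ ∈ W₀ ρ ξ e := mul_mem hb (inv_mem hd)
  have hac : a⁻¹ * c ∈ W₀ ρ ξ e := mul_mem (inv_mem ha) hc
  have h3' := disjW hV h3 he hbd.1 hbd.2 (by rw [h2]; exact hac.2)
  have h4 : b = d := by rwa [mul_inv_eq_one] at h3'
  subst h4
  have h5 : a = c := mul_right_cancel h1
  subst h5
  rfl

theorem card_W₀ [Finite V] (hV : ∀ v : V, v * v = 1) (h3 : orderOf ξ = 3) (he : e * ξ * e⁻¹ = ξ⁻¹)
    (hind : (fx ρ e).index = 4) (h16 : Nat.card (cm ρ ξ).range = 16) : Nat.card (W₀ ρ ξ e) = 4 := by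
  have h1 : Nat.card (W₀ ρ ξ e) * Nat.card (W₀ ρ ξ e) ≤ 16 := by
    rw [← Nat.card_prod, ← h16]
    refine Nat.card_le_card_of_injective
      (fun p : W₀ ρ ξ e × W₀ ρ ξ e => (⟨(p.1 : V) * ρ ξ (p.2 : V), ?_⟩ : (cm ρ ξ).range)) ?_
    · exact mul_mem p.1.2.1 (apply_mem_range ρ rfl p.2.2.1)
    · intro p q h
      exact W₀_inj hV h3 he (congrArg Subtype.val h)
  have h2 : Nat.card (W₀ ρ ξ e) * (fx ρ e).relIndex (cm ρ ξ).range = 16 := by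
    rw [← h16, W₀, inf_comm]
    have h5 := card_mul_relIndex (A := fx ρ e ⊓ (cm ρ ξ).range) (B := (cm ρ ξ).range) inf_le_right
    rwa [Subgroup.inf_relIndex_right] at h5
  have h4 : (fx ρ e).relIndex (cm ρ ξ).range ∣ 4 := by
    rw [← hind]
    exact Subgroup.relIndex_dvd_index_of_normal _ _
  have h5 := Nat.le_of_dvd (by norm_num) h4
  have h6 : Nat.card (W₀ ρ ξ e) ≤ 4 := by nlinarith
  have h7 : 4 ≤ Nat.card (W₀ ρ ξ e) := by nlinarith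
  omega

/-- `V₁ = C_{V₁}(e) C_{V₁}(e)^ξ` -/
theorem W₀_surj [Finite V] (hV : ∀ v : V, v * v = 1) (h3 : orderOf ξ = 3) (he : e * ξ * e⁻¹ = ξ⁻¹)
    (hind : (fx ρ e).index = 4) (h16 : Nat.card (cm ρ ξ).range = 16) {v : V} (hv : v ∈ (cm ρ ξ).range) :
    ∃ a ∈ W₀ ρ ξ e, ∃ b ∈ W₀ ρ ξ e, v = a * ρ ξ b := by
  have h4 := card_W₀ hV h3 he hind h16
  let f : W₀ ρ ξ e × W₀ ρ ξ e → (cm ρ ξ).range := fun p =>
    ⟨(p.1 : V) * ρ ξ (p.2 : V), mul_mem p.1.2.1 (apply_mem_range ρ rfl p.2.2.1)⟩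
  have hf : Function.Injective f := fun p q h => W₀_inj hV h3 he (congrArg Subtype.val h)
  have hfs : Function.Bijective f := by
    rw [Nat.bijective_iff_injective_and_card]
    refine ⟨hf, ?_⟩
    rw [Nat.card_prod, h4, h16]
  obtain ⟨⟨a, b⟩, hab⟩ := hfs.2 ⟨v, hv⟩
  exact ⟨a, a.2, b, b.2, (congrArg Subtype.val hab).symm⟩

/-- elements commuting with `ξ` and trivial on `C_{V₁}(e)` are trivial on `V₁` -/
theorem triv_V₁ [Finite V] (hV : ∀ v : V, v * v = 1) (h3 : orderOf ξ = 3) (he : e * ξ * e⁻¹ = ξ⁻¹)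
    (hind : (fx ρ e).index = 4) (h16 : Nat.card (cm ρ ξ).range = 16) {d : H} (hd : d * ξ = ξ * d)
    (h : ∀ w ∈ W₀ ρ ξ e, ρ d w = w) {v : V} (hv : v ∈ (cm ρ ξ).range) : ρ d v = v := by
  obtain ⟨a, ha, b, hb, rfl⟩ := W₀_surj hV h3 he hind h16 hv
  rw [map_mul, act_comm hd, h a ha, h b hb]

/-- `C_H(⟨ξ, e⟩)` -/
def D₀ (ξ e : H) : Subgroup H := centralizer ({ξ, e} : Set H)

theorem mem_D₀ {d : H} : d ∈ D₀ ξ e ↔ d * ξ = ξ * d ∧ d * e = e * d := by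
  rw [D₀, Subgroup.mem_centralizer_iff]
  constructor
  · intro h
    exact ⟨(h ξ (Or.inl rfl)).symm, (h e (Or.inr rfl)).symm⟩
  · rintro ⟨h1, h2⟩ k (rfl | hk)
    · exact h1.symm
    · rw [Set.mem_singleton_iff.1 hk]; exact h2.symm

theorem D₀_three [Finite H] (cyc : OddCyc H) (h3 : orderOf ξ = 3) (he : e * ξ * e⁻¹ = ξ⁻¹) {d : H}
    (hd : d ∈ D₀ ξ e) : ¬ 3 ∣ orderOf d := by
  intro h
  rw [mem_D₀] at hd
  have h1 := mem_of_dvd cyc h3 h hd.1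
  obtain ⟨n, hn⟩ := h1
  have h2 : e * ξ = ξ * e := by
    have h4 : Commute d e := hd.2
    have h5 := h4.zpow_left n
    have h6 : d ^ n = ξ := hn
    rw [h6] at h5
    exact h5.symm
  have h4 : ξ = ξ * ξ := by
    rw [h2, mul_inv_cancel_right, xi_inv h3] at he
    exact he
  have h5 : ξ = 1 := by
    have := mul_left_cancel (a := ξ) (b := 1) (c := ξ) (by rw [mul_one]; exact h4)
    exact this.symm
  rw [h5, orderOf_one] at h3
  omega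

theorem D₀_card [Finite H] (cyc : OddCyc H) (h3 : orderOf ξ = 3) (he : e * ξ * e⁻¹ = ξ⁻¹) :
    ¬ 3 ∣ Nat.card (D₀ ξ e) := by
  intro h
  have : Fact (Nat.Prime 3) := ⟨Nat.prime_three⟩
  obtain ⟨⟨z, hz⟩, hz3⟩ := exists_prime_orderOf_dvd_card' (G := D₀ ξ e) 3 h
  rw [Subgroup.orderOf_mk] at hz3
  exact D₀_three cyc h3 he hz (by rw [hz3])

/-- `H = ⟨ξ⟩ C_H(e)` : `C_H(⟨ξ, e⟩)` is normal -/
theorem D₀_normal (h3 : orderOf ξ = 3) (hn : (zpowers ξ).Normal)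
    (hdec : ∀ g : H, ∃ o ∈ zpowers ξ, ∃ c : H, c * e = e * c ∧ g = o * c) : (D₀ ξ e).Normal := by
  constructor
  intro d hd g
  rw [mem_D₀] at hd
  obtain ⟨o, ho, c, hc, rfl⟩ := hdec g
  have h1 : c * d * c⁻¹ ∈ D₀ ξ e := by
    rw [mem_D₀]
    constructor
    · have h4 : c⁻¹ * ξ * c = ξ ∨ c⁻¹ * ξ * c = ξ⁻¹ := by
        have := conj_cases h3 hn c⁻¹
        rwa [inv_inv] at this
      have h5 : Commute d (c⁻¹ * ξ * c) := by
        rcases h4 with h4 | h4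
        · rw [h4]; exact hd.1
        · rw [h4]; exact (show Commute d ξ from hd.1).inv_right
      calc c * d * c⁻¹ * ξ = c * (d * (c⁻¹ * ξ * c)) * c⁻¹ := by group
        _ = c * ((c⁻¹ * ξ * c) * d) * c⁻¹ := by rw [h5.eq]
        _ = ξ * (c * d * c⁻¹) := by group
    · have h5 : Commute c e := hc
      have h6 : Commute d e := hd.2
      exact ((h5.mul_left h6).mul_left h5.inv_left).eq
  have h2 : ∀ x ∈ D₀ ξ e, o * x * o⁻¹ = x := by
    intro x hx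
    rw [mem_D₀] at hx
    obtain ⟨n, rfl⟩ := ho
    have h5 : Commute x (ξ ^ n) := (show Commute x ξ from hx.1).zpow_right n
    show ξ ^ n * x * (ξ ^ n)⁻¹ = x
    rw [← h5.eq, mul_inv_cancel_right]
  have h4 : o * c * d * (o * c)⁻¹ = o * (c * d * c⁻¹) * o⁻¹ := by group
  rw [h4, h2 _ h1]
  exact h1

end W₀

/-! ### `C_H(⟨ξ, e⟩)` is trivial on `V₁` -/

section Act

variable {e : H}

/-- the nonidentity elements of `C_{V₁}(e)` -/
abbrev X₀ (ρ : H →* MulAut V) (ξ e : H) : Type _ := {w : V // w ∈ W₀ ρ ξ e ∧ w ≠ 1}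

theorem W₀_stable {d : H} (hd : d ∈ D₀ ξ e) {w : V} (hw : w ∈ W₀ ρ ξ e) : ρ d w ∈ W₀ ρ ξ e := by
  rw [mem_D₀] at hd
  refine ⟨apply_mem_range ρ hd.1 hw.1, ?_⟩
  show ρ e (ρ d w) = ρ d w
  rw [act_comm hd.2.symm, (mem_W₀.1 hw).2]

/-- the action of `C_H(⟨ξ, e⟩)` on the nonidentity elements of `C_{V₁}(e)` -/
@[reducible] def actX₀ (ρ : H →* MulAut V) (ξ e : H) : MulAction (D₀ ξ e) (X₀ ρ ξ e) where
  smul d w := ⟨ρ d w.1, W₀_stable d.2 w.2.1, fun h => w.2.2 ((ρ (d : H)).injective (by rw [h, map_one]))⟩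
  one_smul w := by
    apply Subtype.ext
    show ρ ((1 : D₀ ξ e) : H) w.1 = w.1
    rw [OneMemClass.coe_one, map_one]; rfl
  mul_smul d e w := by
    apply Subtype.ext
    exact act_mul ρ _ _ _

theorem card_X₀ [Finite V] (h4 : Nat.card (W₀ ρ ξ e) = 4) : Nat.card (X₀ ρ ξ e) = 3 := by
  have h1 : ((W₀ ρ ξ e : Set V) \ {1}).ncard = 3 := by
    rw [Set.ncard_sdiff_singleton_of_mem (one_mem (W₀ ρ ξ e))]
    have : (W₀ ρ ξ e : Set V).ncard = 4 := h4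
    rw [this]
  exact h1

theorem exists_f [Finite V] (h4 : Nat.card (W₀ ρ ξ e) = 4) :
    ∃ f : D₀ ξ e →* Equiv.Perm (X₀ ρ ξ e), Nat.card (Equiv.Perm (X₀ ρ ξ e)) = 6 ∧
      ∀ d, f d = 1 ↔ ∀ w ∈ W₀ ρ ξ e, ρ (d : H) w = w := by
  let _ := actX₀ ρ ξ e
  refine ⟨MulAction.toPermHom _ _, ?_, ?_⟩
  · rw [Nat.card_perm, card_X₀ h4]; rfl
  · intro d
    constructor
    · intro h w hw
      by_cases hw1 : w = 1
      · rw [hw1, map_one]
      · have h5 := congrArg (fun σ : Equiv.Perm (X₀ ρ ξ e) => (σ ⟨w, hw, hw1⟩ : V)) h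
        exact h5
    · intro h
      ext w
      exact h w.1 w.2.1

theorem eq_of_card_dvd_two {G : Type*} [Group G] [Finite G] {F : Subgroup G} (hF : Nat.card F ∣ 2) {a b : G} (ha : a ∈ F) (hb : b ∈ F)
    (ha1 : a ≠ 1) (hb1 : b ≠ 1) : a = b := by
  have h1 : Nat.card F ≤ 2 := Nat.le_of_dvd (by norm_num) hF
  by_contra hne
  have h2 : ({1, a, b} : Set G) ⊆ F := by
    rintro u (rfl | rfl | rfl)
    · exact one_mem _
    · exact ha
    · exact hb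
  have h3 := Set.ncard_le_ncard h2 (Set.toFinite _)
  rw [Set.ncard_insert_of_notMem, Set.ncard_pair hne] at h3
  · have h4 : (F : Set G).ncard = Nat.card F := rfl
    omega
  · rintro (h | h)
    · exact ha1 h.symm
    · exact hb1 h.symm

/-- a 2-element is conjugate to an element of `S` -/
theorem exists_conj_mem [Finite H] {S : Subgroup H} (hS : IsPGroup 2 S) (hSi : ¬ 2 ∣ S.index) {u : H} {k : ℕ}
    (hu : u ^ 2 ^ k = 1) : ∃ g : H, g * u * g⁻¹ ∈ S := by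
  have : Fact (Nat.Prime 2) := ⟨Nat.prime_two⟩
  have h1 : IsPGroup 2 (zpowers u) := by
    rintro ⟨y, n, rfl⟩
    refine ⟨k, Subtype.ext ?_⟩
    show (u ^ n) ^ 2 ^ k = 1
    rw [← zpow_natCast, ← zpow_mul, mul_comm, zpow_mul, zpow_natCast, hu, one_zpow]
  obtain ⟨P, hP⟩ := h1.exists_le_sylow
  obtain ⟨g, hg⟩ := MulAction.exists_smul_eq H P (hS.toSylow hSi)
  refine ⟨g, ?_⟩
  have h2 : g * u * g⁻¹ ∈ ((g • P : Sylow 2 H) : Subgroup H) := ⟨u, hP (mem_zpowers u), rfl⟩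
  rw [hg] at h2
  exact h2

/-- `C_H(⟨ξ, e⟩)` is trivial on `V₁` -/
theorem D₀_triv [Finite H] [Finite V] (cyc : OddCyc H) (hV : ∀ v : V, v * v = 1) (h3 : orderOf ξ = 3)
    (hn : (zpowers ξ).Normal) {S : Subgroup H} (hS : IsPGroup 2 S) (hSi : ¬ 2 ∣ S.index)
    (gen : ∀ W : Subgroup V, CS ρ S ≤ W → (∀ h : H, ∀ w ∈ W, ρ h w ∈ W) → W = ⊤)
    (he : e * ξ * e⁻¹ = ξ⁻¹) (hind : (fx ρ e).index = 4) (h16 : Nat.card (cm ρ ξ).range = 16)
    (hdec : ∀ g : H, ∃ o ∈ zpowers ξ, ∃ c : H, c * e = e * c ∧ g = o * c) :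
    ∀ d ∈ D₀ ξ e, ∀ v ∈ (cm ρ ξ).range, ρ d v = v := by
  have h4 := card_W₀ hV h3 he hind h16
  have hN := D₀_normal h3 hn hdec
  obtain ⟨f, hP, hf⟩ := exists_f (ρ := ρ) (ξ := ξ) (e := e) h4
  have hker : ∀ d : D₀ ξ e, f d = 1 ↔ ∀ v ∈ (cm ρ ξ).range, ρ (d : H) v = v := by
    intro d
    rw [hf]
    constructor
    · intro h v hv
      exact triv_V₁ hV h3 he hind h16 (mem_D₀.1 d.2).1 h hv
    · intro h w hw
      exact h w hw.1
  have hfin : Finite (Equiv.Perm (X₀ ρ ξ e)) := inferInstance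
  have h6 : Nat.card f.range ∣ 2 := by
    have h7 : Nat.card f.range ∣ 3 * 2 := by
      have := Subgroup.card_subgroup_dvd_card f.range
      rwa [hP] at this
    have h8 : Nat.card f.range ∣ Nat.card (D₀ ξ e) := Subgroup.card_range_dvd f
    refine Nat.Coprime.dvd_of_dvd_mul_left ?_ h7
    rw [Nat.coprime_comm, Nat.Prime.coprime_iff_not_dvd Nat.prime_three]
    exact fun h9 => D₀_card cyc h3 he (h9.trans h8)
  have hsq : ∀ d : D₀ ξ e, f d * f d = 1 := by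
    intro d
    have h7 : (⟨f d, ⟨d, rfl⟩⟩ : f.range) ^ 2 = 1 := by
      obtain ⟨m, hm⟩ := h6
      rw [hm, pow_mul, pow_card_eq_one', one_pow]
    have h8 := congrArg Subtype.val h7
    have h9 : f d ^ 2 = 1 := h8
    rwa [pow_two] at h9
  refine triv_of hV h3 hn hN gen ?_
  by_cases hall : ∀ d : D₀ ξ e, f d = 1
  · intro d hd
    refine ⟨1, one_mem _, fun v hv => ?_⟩
    rw [(hker ⟨d, hd⟩).1 (hall _) v hv, map_one]; rfl
  · push Not at hall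
    obtain ⟨d, hd1⟩ := hall
    -- a 2-element
    obtain ⟨k, m, hm, hkm⟩ := Nat.exists_eq_two_pow_mul_odd (n := orderOf (d : H)) (orderOf_pos _).ne'
    have hfm : f (d ^ m) = f d := by
      obtain ⟨j, rfl⟩ := hm
      rw [map_pow, pow_succ, pow_mul, pow_two, hsq, one_pow, one_mul]
    have hu : ((d : H) ^ m) ^ 2 ^ k = 1 := by
      rw [← pow_mul, mul_comm, ← hkm, pow_orderOf_eq_one]
    obtain ⟨g, hg⟩ := exists_conj_mem hS hSi hu
    have hmem : g * (d : H) ^ m * g⁻¹ ∈ D₀ ξ e := hN.conj_mem _ (pow_mem d.2 m) g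
    have hs1 : f ⟨_, hmem⟩ ≠ 1 := by
      intro h
      have h7 := (hker _).1 h
      apply hd1
      rw [← hfm, hker]
      intro v hv
      have h8 := h7 (ρ g v) (inv_V₁ h3 hn g hv)
      apply (ρ g).injective
      have h9 : ρ (g * (d : H) ^ m * g⁻¹) (ρ g v) = ρ g (ρ ((d : H) ^ m) v) := by
        rw [← act_mul, ← act_mul]
        congr 2; group
      exact h9.symm.trans h8
    intro n hnD
    by_cases hn1 : f ⟨n, hnD⟩ = 1
    · refine ⟨1, one_mem _, fun v hv => ?_⟩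
      rw [(hker ⟨n, hnD⟩).1 hn1 v hv, map_one]; rfl
    · refine ⟨_, hg, fun v hv => ?_⟩
      have h7 : f ⟨n, hnD⟩ = f ⟨_, hmem⟩ := eq_of_card_dvd_two h6 ⟨_, rfl⟩ ⟨_, rfl⟩ hn1 hs1
      have h8 : f (⟨_, hmem⟩⁻¹ * ⟨n, hnD⟩) = 1 := by
        rw [map_mul, map_inv, h7, inv_mul_cancel]
      have h9 := (hker _).1 h8 v hv
      have h10 : ρ ((g * (d : H) ^ m * g⁻¹)⁻¹ * n) v = v := h9
      rw [act_mul] at h10
      have h11 := congrArg (ρ (g * (d : H) ^ m * g⁻¹)) h10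
      rw [← act_mul, mul_inv_cancel, map_one] at h11
      exact h11

end Act

section OutA

variable {S T O E : Subgroup H} {H₁ : Subgroup V} {e : H}

theorem Xf.e_mem (h : Xf ρ S T O E ξ) (hA : OutA ρ E ξ e) : e ∈ T := h.E_le ((hA.E_eq e).2 (Or.inr rfl))

/-- `O₃(F(H)) = ⟨ξ⟩` if `|V₁| = 16` -/
theorem Xf.dec16 [Finite H] [Finite V] (h : Xf ρ S T O E ξ) (hA : OutA ρ E ξ e)
    (h16 : Nat.card (cm ρ ξ).range = 16) (g : H) : ∃ o ∈ zpowers ξ, ∃ c : H, c * e = e * c ∧ g = o * c := by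
  obtain ⟨R, -, hR, hc, hξ, -, hd⟩ := hA.dec
  rw [← R_eq h.cyc h.sq h.ξ3 h16 hR hc hξ]
  exact hd g

theorem Xf.triv16 [Finite H] [Finite V] (h : Xf ρ S T O E ξ) (hA : OutA ρ E ξ e)
    (h16 : Nat.card (cm ρ ξ).range = 16) : ∀ d ∈ D₀ ξ e, ∀ v ∈ (cm ρ ξ).range, ρ d v = v :=
  D₀_triv h.cyc h.sq h.ξ3 hA.norm h.two h.index h.gen hA.inv hA.ind h16 (h.dec16 hA h16)

/-- every element of `H` is `o d` or `o d e`, `o ∈ ⟨ξ⟩`, `d ∈ C_H(⟨ξ, e⟩)`, if `|V₁| = 16` -/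
theorem Xf.dec16' [Finite H] [Finite V] (h : Xf ρ S T O E ξ) (hA : OutA ρ E ξ e)
    (h16 : Nat.card (cm ρ ξ).range = 16) (g : H) :
    ∃ o ∈ zpowers ξ, ∃ d ∈ D₀ ξ e, g = o * d ∨ g = o * d * e := by
  obtain ⟨o, ho, c, hc, rfl⟩ := h.dec16 hA h16 g
  rcases conj_cases h.ξ3 hA.norm c with h1 | h1
  · exact ⟨o, ho, c, mem_D₀.2 ⟨comm_of_conj h1, hc⟩, Or.inl rfl⟩
  · refine ⟨o, ho, c * e, mem_D₀.2 ⟨mul_comm_of_inv h1 hA.inv, ?_⟩, Or.inr ?_⟩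
    · rw [hc]
      rw [mul_assoc, hc]
    · rw [mul_assoc, mul_assoc, hA.sq, mul_one]

/-- **(c)** -/
theorem Xf.actA [Finite H] [Finite V] (h : Xf ρ S T O E ξ) (hA : OutA ρ E ξ e) (g : H) :
    ∃ k ∈ T ⊔ zpowers ξ, ∀ v ∈ (cm ρ ξ).range, ρ g v = ρ k v := by
  rcases hA.idx with h4 | h16
  · exact h.act hA.norm h4 g
  · rw [← card_range_cm] at h16
    have ht := h.triv16 hA h16
    obtain ⟨o, ho, d, hd, rfl | rfl⟩ := h.dec16' hA h16 g
    · refine ⟨o, mem_sup_right ho, fun v hv => ?_⟩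
      rw [act_mul, ht d hd v hv]
    · refine ⟨o * e, mul_mem (mem_sup_right ho) (mem_sup_left (h.e_mem hA)), fun v hv => ?_⟩
      rw [act_mul, act_mul, act_mul, ht d hd _ (inv_V₁ h.ξ3 hA.norm e hv)]

/-- `e` centralises `V₂` if `|V₁| = 16` -/
theorem e_V₂ [Finite V] (hV : ∀ v : V, v * v = 1) (h3 : orderOf ξ = 3) (he : e * ξ * e⁻¹ = ξ⁻¹)
    (hind : (fx ρ e).index = 4) (h16 : Nat.card (cm ρ ξ).range = 16) {v : V} (hv : v ∈ fx ρ ξ) : ρ e v = v := by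
  have h4 := card_W₀ hV h3 he hind h16
  -- `V = V₁ C_V(e)`
  have h5 : (cm ρ ξ).range ⊔ fx ρ e = ⊤ := by
    have h6 : Nat.card (W₀ ρ ξ e) * (fx ρ e).relIndex (cm ρ ξ).range = 16 := by
      rw [← h16, W₀, inf_comm]
      have h5 := card_mul_relIndex (A := fx ρ e ⊓ (cm ρ ξ).range) (B := (cm ρ ξ).range) inf_le_right
      rwa [Subgroup.inf_relIndex_right] at h5
    have h7 : (fx ρ e).relIndex (cm ρ ξ).range = 4 := by rw [h4] at h6; omega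
    rw [← Subgroup.relIndex_sup_right] at h7
    have h8 := Subgroup.relIndex_mul_index (H := fx ρ e) (K := (cm ρ ξ).range ⊔ fx ρ e) le_sup_right
    rw [hind, h7] at h8
    exact Subgroup.index_eq_one.1 (by omega)
  have h6 : v ∈ (cm ρ ξ).range ⊔ fx ρ e := by rw [h5]; trivial
  obtain ⟨a, ha, b, hb, rfl⟩ := Subgroup.mem_sup.1 h6
  have hb' : ρ e b = b := hb
  have he' : ∀ w ∈ fx ρ ξ, ρ e w ∈ fx ρ ξ := by
    intro w hw
    have h1 : ξ * e = e * ξ⁻¹ := by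
      rw [mul_inv_eq_iff_eq_mul] at he
      rw [eq_mul_inv_iff_mul_eq, mul_assoc, he]; group
    have h2 := (mem_fx ρ).1 (fx_inv ρ hw)
    rw [mem_fx, ← act_mul, h1, act_mul, h2]
  have h7 : ρ e a * a⁻¹ ∈ (cm ρ ξ).range := mul_mem (apply_mem_range_of_inv ρ he ha) (inv_mem ha)
  have h8 : ρ e (a * b) * (a * b)⁻¹ ∈ fx ρ ξ := mul_mem (he' _ hv) (inv_mem hv)
  have h9 : ρ e (a * b) * (a * b)⁻¹ = ρ e a * a⁻¹ := by
    rw [map_mul, hb', mul_inv, mul_mul_mul_comm, mul_inv_cancel, mul_one]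
  have h10 := eq_one hV h3 h7 (by rw [← h9]; exact h8)
  rw [← h9, mul_inv_eq_one] at h10
  exact h10

end OutA

/-! ### `V₂ = 1` -/

theorem range_top (hV : ∀ v : V, v * v = 1) (h3 : orderOf ξ = 3) (hb : fx ρ ξ = ⊥) : (cm ρ ξ).range = ⊤ := by
  have := sup (ρ := ρ) hV h3
  rwa [hb, sup_bot_eq] at this

theorem card_V (hb : fx ρ ξ = ⊥) : Nat.card V = (fx ρ ξ).index := by
  rw [hb, Subgroup.index_bot]

theorem eq_of_act (inj : Function.Injective ρ) (hr : (cm ρ ξ).range = ⊤) {g k : H}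
    (h : ∀ v ∈ (cm ρ ξ).range, ρ g v = ρ k v) : g = k := by
  apply inj
  ext v
  exact h v (by rw [hr]; trivial)

theorem card_six (h3 : orderOf ξ = 3) {t : H} (ht : t * ξ * t⁻¹ = ξ⁻¹)
    (h : ∀ g : H, g ∈ zpowers ξ ∨ g * t ∈ zpowers ξ) : Nat.card H = 6 := by
  have htn : t ∉ zpowers ξ := by
    rintro ⟨n, rfl⟩
    have h1 : (fun x : ℤ => ξ ^ x) n * ξ * ((fun x : ℤ => ξ ^ x) n)⁻¹ = ξ := by
      have : Commute (ξ ^ n) ξ := Commute.zpow_self ξ n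
      show ξ ^ n * ξ * (ξ ^ n)⁻¹ = ξ
      rw [this.eq, mul_inv_cancel_right]
    rw [h1, xi_inv h3] at ht
    have h5 : ξ = 1 := by
      have := mul_left_cancel (a := ξ) (b := 1) (c := ξ) (by rw [mul_one]; exact ht)
      exact this.symm
    rw [h5, orderOf_one] at h3
    omega
  have hi : (zpowers ξ).index = 2 := by
    rw [Subgroup.index_eq_two_iff]
    refine ⟨t, fun b => ?_⟩
    rcases h b with h1 | h1
    · exact Or.inr ⟨h1, fun h2 => htn (by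
        have := mul_mem (inv_mem h1) h2
        rwa [inv_mul_cancel_left] at this)⟩
    · exact Or.inl ⟨h1, fun h2 => htn (by
        have := mul_mem (inv_mem h2) h1
        rwa [inv_mul_cancel_left] at this)⟩
  have := (zpowers ξ).card_mul_index
  rw [Nat.card_zpowers, h3, hi] at this
  exact this.symm

section MF

variable {S T O E : Subgroup H} {H₁ : Subgroup V}

/-- **(d), `|V₁| = 4`** -/
theorem Xf.six [Finite H] [Finite V] (h : Xf ρ S T O E ξ) (hn : (zpowers ξ).Normal) (h4 : (fx ρ ξ).index = 4)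
    (hb : fx ρ ξ = ⊥) : Nat.card V = 4 ∧ Nat.card H = 6 := by
  refine ⟨by rw [card_V hb, h4], ?_⟩
  obtain ⟨t, htT, -, ht⟩ := h.exists_t hn
  have hr := range_top (ρ := ρ) h.sq h.ξ3 hb
  refine card_six h.ξ3 ht fun g => ?_
  obtain ⟨k, hk, h5 | h5⟩ := act_four (ρ := ρ) h.sq h.ξ3 hn (by rw [card_range_cm, h4]) ht g
  · left; rw [eq_of_act h.inj hr h5]; exact hk
  · right; rw [eq_of_act h.inj hr h5, inv_mul_cancel_right]; exact hk

end MF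

section OutA

variable {S T O E : Subgroup H} {H₁ : Subgroup V} {e : H}

theorem Xf.index16 [Finite H] [Finite V] (h : Xf ρ S T O E ξ) (hA : OutA ρ E ξ e) (hb : fx ρ ξ = ⊥) :
    (fx ρ ξ).index = 16 := by
  rcases hA.idx with h4 | h16
  · exfalso
    have h1 : Nat.card V = 4 := by rw [card_V hb, h4]
    have h2 := (fx ρ e).card_mul_index
    rw [hA.ind, h1] at h2
    have h3 : fx ρ e = ⊥ := Subgroup.card_eq_one.1 (by omega)
    have : Nontrivial V := by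
      rw [← Finite.one_lt_card_iff_nontrivial, h1]; norm_num
    obtain ⟨v, hv⟩ := exists_ne (1 : V)
    have hee : ρ e (ρ e v) = v := by rw [← act_mul, hA.sq, map_one]; rfl
    have h5 : v * ρ e v ∈ fx ρ e := by
      rw [mem_fx, map_mul, hee, mul_comm]
    rw [h3, Subgroup.mem_bot] at h5
    have h6 : v ∈ fx ρ e := by
      rw [mem_fx]
      exact (eq_of_mul_eq_one h.sq h5).symm
    rw [h3, Subgroup.mem_bot] at h6
    exact hv h6
  · exact h16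

/-- **(d), `OutA`** : (D4) -/
theorem Xf.d4 [Finite H] [Finite V] (h : Xf ρ S T O E ξ) (hA : OutA ρ E ξ e) (hb : fx ρ ξ = ⊥) :
    Nat.card V = 16 ∧ Nat.card H = 6 ∧ S = zpowers e ∧ Nat.card (CS ρ S) = 4 ∧
      (CS ρ S ⊓ (CS ρ S).map (ρ ξ : V ≃* V).toMonoidHom = ⊥) := by
  have hi := h.index16 hA hb
  have h16 : Nat.card (cm ρ ξ).range = 16 := by rw [card_range_cm, hi]
  have hr := range_top (ρ := ρ) h.sq h.ξ3 hb
  have hV : Nat.card V = 16 := by rw [card_V hb, hi]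
  have ht := h.triv16 hA h16
  have hD : ∀ d ∈ D₀ ξ e, d = 1 := by
    intro d hd
    refine eq_of_act h.inj hr fun v hv => ?_
    rw [ht d hd v hv, map_one]; rfl
  have hH : Nat.card H = 6 := by
    refine card_six h.ξ3 hA.inv fun g => ?_
    obtain ⟨o, ho, d, hd, rfl | rfl⟩ := h.dec16' hA h16 g
    · left; rw [hD d hd, mul_one]; exact ho
    · right; rw [hD d hd, mul_one, mul_assoc, hA.sq, mul_one]; exact ho
  have heS : e ∈ S := h.T_le (h.e_mem hA)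
  have hoe : orderOf e = 2 := orderOf_eq_prime (by rw [pow_two]; exact hA.sq) hA.ne
  have hS : S = zpowers e := by
    symm
    apply Subgroup.eq_of_le_of_card_ge (zpowers_le.2 heS)
    rw [Nat.card_zpowers, hoe]
    have : Fact (Nat.Prime 2) := ⟨Nat.prime_two⟩
    obtain ⟨n, hn⟩ := (IsPGroup.iff_card (p := 2)).1 h.two
    have h1 : Nat.card S ∣ 6 := by rw [← hH]; exact Subgroup.card_subgroup_dvd_card S
    rw [hn] at h1 ⊢
    have h2 : n ≤ 1 := by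
      by_contra hcon
      push Not at hcon
      have h3 : 2 ^ 2 ∣ 2 ^ n := pow_dvd_pow 2 hcon
      have h4 := h3.trans h1
      norm_num at h4
    calc 2 ^ n ≤ 2 ^ 1 := Nat.pow_le_pow_right (by norm_num) h2
      _ = 2 := by norm_num
  have hC : CS ρ S = fx ρ e := by
    ext v
    constructor
    · intro hv
      exact hv e heS
    · intro hv b hb'
      rw [hS] at hb'
      obtain ⟨n, rfl⟩ := hb'
      obtain ⟨m, rfl | rfl⟩ := n.eq_nat_or_neg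
      · have := fx_pow ρ hv m
        show ρ (e ^ (m : ℤ)) v = v
        rw [zpow_natCast]; exact this
      · have := fx_inv ρ (fx_pow ρ hv m)
        show ρ (e ^ (-(m : ℤ))) v = v
        rw [zpow_neg, zpow_natCast]; exact this
  refine ⟨hV, hH, hS, ?_, ?_⟩
  · have h1 := (fx ρ e).card_mul_index
    rw [hA.ind, hV] at h1
    rw [hC]; omega
  · rw [hC, Subgroup.eq_bot_iff_forall]
    rintro v ⟨hv, w, hw, hwv⟩
    have hwv' : ρ ξ w = v := hwv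
    have h1 : ρ e (ρ ξ w) = ρ ξ w := by rw [hwv']; exact hv
    have h2 := disjW h.sq h.ξ3 hA.inv (by rw [hr]; trivial) hw h1
    rw [← hwv', h2, map_one]

end OutA

/-! ### the same for `MF` -/

section MF

variable {S T O E : Subgroup H} {H₁ : Subgroup V} {e : H}

/-- **(b)** -/
theorem act [Finite H] [Finite V] (h : MF ρ S T O E ξ H₁) (hn : (zpowers ξ).Normal) (h4 : (fx ρ ξ).index = 4) (g : H) :
    ∃ k ∈ T ⊔ zpowers ξ, ∀ v ∈ (cm ρ ξ).range, ρ g v = ρ k v :=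
  (Xf.of_mf h).act hn h4 g

/-- **(c)** -/
theorem actA [Finite H] [Finite V] (h : MF ρ S T O E ξ H₁) (hA : OutA ρ E ξ e) (g : H) :
    ∃ k ∈ T ⊔ zpowers ξ, ∀ v ∈ (cm ρ ξ).range, ρ g v = ρ k v :=
  (Xf.of_mf h).actA hA g

/-- **(d), `|V₁| = 4`** -/
theorem six [Finite H] [Finite V] (h : MF ρ S T O E ξ H₁) (hn : (zpowers ξ).Normal) (h4 : (fx ρ ξ).index = 4)
    (hb : fx ρ ξ = ⊥) : Nat.card V = 4 ∧ Nat.card H = 6 :=
  (Xf.of_mf h).six hn h4 hb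

/-- **(d), `OutA`** : (D4) -/
theorem d4 [Finite H] [Finite V] (h : MF ρ S T O E ξ H₁) (hA : OutA ρ E ξ e) (hb : fx ρ ξ = ⊥) :
    Nat.card V = 16 ∧ Nat.card H = 6 ∧ S = zpowers e ∧ Nat.card (CS ρ S) = 4 ∧
      (CS ρ S ⊓ (CS ρ S).map (ρ ξ : V ≃* V).toMonoidHom = ⊥) :=
  (Xf.of_mf h).d4 hA hb

end MF

end Cfsg.Agent.OddCyclic.Bc.XiNorm
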