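import Cfsg.Agent.OddCyclic.Bc.EndLib
import Cfsg.Agent.OddCyclic.Bc.NFOf
import Cfsg.Agent.OddCyclic.Bc.NFEnd
import Cfsg.Agent.OddCyclic.Bc.XiNorm
import Cfsg.Agent.OddCyclic.Bc.LinA
import Cfsg.Agent.OddCyclic.Bc.Seven
import Cfsg.Agent.OddCyclic.Bc.ExitsMod
import Cfsg.Agent.OddCyclic.EmpLine.Fin

/-!
# S0342, leaf [Bc], type (b): the case A1 is impossible
-/

set_option autoImplicit false
set_option linter.unusedSectionVars false

namespace Cfsg.Agent.OddCyclic.Bc.EndAb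

open Subgroup Cfsg Cfsg.Agent.ZN Cfsg.Agent.ZN.ChoiceBase Cfsg.Agent.MinSimple Cfsg.Agent.MinSimple.EmptySix
open Cfsg.Agent.MinSimple.EmptyE.Closed (LL vv_comm)
open Cfsg.Agent.OddCyclic.T1Defs Cfsg.Agent.OddCyclic.T1Module Cfsg.Agent.OddCyclic.FFBasic
  Cfsg.Agent.OddCyclic.FFRed Cfsg.Agent.OddCyclic.RedRep Cfsg.Agent.OddCyclic.CompStart Cfsg.Agent.OddCyclic.CompBasic
open Cfsg.Agent.OddCyclic.L32
open Cfsg.Agent.OddCyclic.Bc.Inst
open Cfsg.Agent.OddCyclic.Bc.Cases (CA1 CA2 CII Cb)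

universe u

variable {G : Type u} [Group G] [Finite G] {S : Sylow 2 G} {T L O₁ O A : Subgroup G} {ξ x p : G}

/-- `|P₁|` divides `3 |T|²` -/
theorem card_P₁ (c : Conf S T L O₁ O A ξ x) :
    Nat.card (T ⊔ zpowers ξ : Subgroup G) ∣ Nat.card O₁ * 3 * Nat.card T := by
  have hξO : zpowers ξ ≤ normalizer (O₁ : Set G) := zpowers_le.2 c.O₁_ξ
  -- `Q = ⟨ξ⟩ O₁`
  have hQ : T ≤ normalizer ((zpowers ξ ⊔ O₁ : Subgroup G) : Set G) := by
    refine Block.le_normalizer_of_forall fun t ht m hm => ?_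
    have hO : O₁ ≤ zpowers ξ ⊔ O₁ := le_sup_right
    have h1 : zpowers ξ ⊔ O₁ ≤ (zpowers ξ ⊔ O₁ : Subgroup G).comap (MulAut.conj t).toMonoidHom := by
      refine sup_le (zpowers_le.2 ?_) fun o ho => ?_
      · rw [mem_comap]
        change t * ξ * t⁻¹ ∈ _
        by_cases htO : t ∈ O₁
        · have h2 : t * ξ * t⁻¹ = t * (ξ * t⁻¹ * ξ⁻¹) * ξ := by group
          rw [h2]
          refine mul_mem (mul_mem (hO htO) (hO ?_)) (mem_sup_left (mem_zpowers ξ))
          exact (mem_normalizer_iff.1 c.O₁_ξ _).1 (inv_mem htO)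
        · have h2 := c.inv₁ t ht htO
          have h3 : t * ξ * t⁻¹ = (t * ξ * t⁻¹ * ξ) * ξ⁻¹ := by group
          rw [h3]
          exact mul_mem (hO h2) (inv_mem (mem_sup_left (mem_zpowers ξ)))
      · rw [mem_comap]
        exact hO ((mem_normalizer_iff.1 (c.O₁_T ht) _).1 ho)
    exact h1 hm
  have h1 : (T ⊔ zpowers ξ : Subgroup G) ≤ T ⊔ (zpowers ξ ⊔ O₁) := sup_le_sup_left le_sup_left _
  refine (Subgroup.card_dvd_of_le h1).trans ?_
  have h2 : Nat.card (zpowers ξ ⊔ O₁ : Subgroup G) ∣ Nat.card O₁ * 3 := by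
    rw [← card_mul_relIndex (A := O₁) (B := zpowers ξ ⊔ O₁) le_sup_right, relIndex_sup_of_le_normalizer hξO]
    refine mul_dvd_mul_left _ ?_
    have := Subgroup.relIndex_dvd_card O₁ (zpowers ξ)
    rwa [Nat.card_zpowers, c.ξ3] at this
  rw [← card_mul_relIndex (A := zpowers ξ ⊔ O₁) (B := T ⊔ (zpowers ξ ⊔ O₁)) le_sup_right,
    relIndex_sup_of_le_normalizer hQ]
  exact mul_dvd_mul h2 (Subgroup.relIndex_dvd_card _ _)

/-- `5` does not divide `|P₁|` -/
theorem not_five (c : Conf S T L O₁ O A ξ x) : ¬ 5 ∣ Nat.card (T ⊔ zpowers ξ : Subgroup G) := by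
  intro h5
  have h1 := h5.trans (card_P₁ c)
  have hp5 : Nat.Prime 5 := by norm_num
  have : Fact (Nat.Prime 2) := ⟨Nat.prime_two⟩
  have h2 : ∀ K : Subgroup G, K ≤ (S : Subgroup G) → ¬ 5 ∣ Nat.card K := by
    intro K hK h
    obtain ⟨n, hn⟩ := (IsPGroup.iff_card (p := 2)).1 (S.isPGroup'.to_le hK)
    rw [hn] at h
    exact absurd (hp5.dvd_of_dvd_pow h) (by norm_num)
  rcases (Nat.Prime.dvd_mul hp5).1 h1 with h | h
  · rcases (Nat.Prime.dvd_mul hp5).1 h with h | h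
    · exact h2 _ (c.O₁_le.trans (T_le c)) h
    · revert h; norm_num
  · exact h2 _ (T_le c) h

theorem three_dvd_of {K : Type*} [Group K] {F : Type} [Field F] [Fintype F] [CharP F 2]
    (e : K ≃* Matrix.SpecialLinearGroup (Fin 2) F) : 3 ∣ Nat.card K := by
  rw [Nat.card_congr e.toEquiv]
  exact RedLinA.three_dvd_sl2 F

theorem fx_eq {K V : Type*} [Group K] [CommGroup V] {ρ : K →* MulAut V} (a : K) : CS ρ (zpowers a) = fx ρ a := by
  apply le_antisymm
  · exact fun v hv => hv a (mem_zpowers a)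
  · intro v hv b hb
    have h1 : zpowers a ≤ FFSl2.stb ρ v := (zpowers_le).2 hv
    exact h1 hb

/-- **the case A1 is impossible** -/
theorem false_of (I : RedEFin.In G) (h : CA1 S L O₁ O A ξ x p) : False := by
  have hcyc := h.nb.cx.cyc
  have hsec := h.nb.cx.sec
  have hL := GenI.ne_top h.nb (GenI.isTwoLocal_LL h.p_mem h.p1)
  have hmv : ∀ v ∈ zc (S : Subgroup G), v ≠ 1 → ξ * v ≠ v * ξ := fun v hv hv1 => GenI.CA1_moved h hv hv1
  obtain ⟨H, V, _, _, _, _, r, ρ, ι, hr⟩ := EmpFF.exists_rep (X := LL (S : Subgroup G)) (Y := vv (S : Subgroup G)) le_rfl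
    (fun a ha b hb => vv_comm ha hb)
  have m := EndLib.mf h.toConf hr hcyc hsec hL hmv ⟨p, h.p_mem, h.p1⟩
  by_cases hFF : ∃ A : Subgroup H, A ≠ ⊥ ∧ (∀ a ∈ A, a * a = 1) ∧ Nat.card V ≤ Nat.card A * Nat.card (CS ρ A)
  · rcases GenI.list_of h.nb hsec hr h.p_mem h.p1 (GenI.CA1_vf h) hFF with ho | ⟨K, F, _, _, _, hl⟩ | ⟨e, h5⟩ | h7 | hn
    · refine (Exits.four_A1 h ?_).false I
      rw [← ho.cardV, ← hr.range, Nat.card_congr (MonoidHom.ofInjective hr.iinj).toEquiv.symm]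
    · obtain ⟨f⟩ := hl.iso
      exact LinA.false_of h.toConf h.p_mem h.p1 h.p_rz hr
        (Lin.main m hl (EndLib.mem_of m hl.norm (three_dvd_of f)))
    · refine GenI.Cb_ξp h.toCb ?_
      have hPL : ((S : Subgroup G) ⊔ zpowers ξ : Subgroup G) ≤ LL (S : Subgroup G) :=
        sup_le (S_le_LL S) (zpowers_le.2 (ξ_mem_LL h.toConf))
      refine BcAOne.five_rep hr rfl (sq_of hr) h5 (T := (S : Subgroup G)) (P := (S : Subgroup G) ⊔ zpowers ξ) ?_
        le_sup_left hPL (not_five h.toConf) (mem_sup_right (mem_zpowers ξ)) (zc_le_vv _ h.p_mem)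
        (ChoiceBase.mem_zc.1 h.p_mem).2.2
      exact fun h2 => S.not_dvd_index (h2.trans (Subgroup.relIndex_dvd_index_of_le (S_le_LL S)))
    · obtain ⟨W, hW⟩ := ExitsMod.seven_A1 h hr h7
      exact hW.false I
    · have hs := hn.simple
      have h1 : IsSimpleGroup (⊤ : Subgroup H) := Subgroup.topEquiv.isSimpleGroup
      have h2 : Nat.card (⊤ : Subgroup H) = 168 := by rw [Subgroup.card_top]; exact hn.cardH
      exact Seven.false_of m inferInstance h1 h2 trivial hn.cardV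
  · have hN := NFOf.nff (EndLib.nf_of m hFF)
    rcases NFEnd.main hN with ⟨e, hA⟩ | ⟨φ, z, hB⟩
    · have hb : fx ρ (r ⟨ξ, ξ_mem_LL h.toConf⟩) = ⊥ := by
        rw [← fx_eq]
        exact EndLib.ck_of h.toConf hr hmv _ hA.norm (mem_zpowers _)
      obtain ⟨-, -, -, h4, -⟩ := XiNorm.d4 m hA hb
      have h2 : (CS ρ (im (LL (S : Subgroup G)) (S : Subgroup G) r)).map ι = zpowers p := by
        rw [← h.zc_eq]
        ext g
        constructor
        · rintro ⟨v, hv, rfl⟩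
          exact (mem_CS_S hr v).1 hv
        · intro hg
          obtain ⟨v, rfl⟩ := hr.exists_v (zc_le_vv _ hg)
          exact ⟨v, (mem_CS_S hr v).2 hg, rfl⟩
      have h3 := Nat.card_congr ((CS ρ (im (LL (S : Subgroup G)) (S : Subgroup G) r)).equivMapOfInjective ι hr.iinj).toEquiv
      rw [h4, h2, Nat.card_zpowers] at h3
      have h5 : orderOf p ∣ 2 := orderOf_dvd_of_pow_eq_one (by rw [pow_two]; exact Cases.zc_sq h.p_mem)
      have h6 := Nat.le_of_dvd (by norm_num) h5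
      omega
    · exact hB.ne rfl

end Cfsg.Agent.OddCyclic.Bc.EndAb
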