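import Cfsg.Agent.OddCyclic.Om5Mod

/-!
# S0342, leaf [Bc]: the orthogonal module with `A₅` or `S₅`

`FrA L V φ e`: `Om5.Frame` with `A₅ ≤ φ(L)` instead of the surjectivity (no condition on the kernel of `φ` and on `L`).
-/

set_option autoImplicit false

namespace Cfsg.Agent.OddCyclic.Bc.FrA

open Subgroup Cfsg Cfsg.Agent.ZN
open Cfsg.Agent.OddCyclic.Om5 (dl vec_cls vec_four dl_two one_dl dl_sum dl_perm pow_val sg sg_four Frame)

universe u

/-- the orthogonal module `V`, on which `L` induces `A₅` or `S₅` -/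
structure _root_.Cfsg.Agent.OddCyclic.Bc.FrA {G : Type u} [Group G] (L V : Subgroup G) (φ : L →* Equiv.Perm (Fin 5))
    (e : Fin 5 → Fin 5 → G) : Prop where
  alt : alternatingGroup (Fin 5) ≤ φ.range
  sq : ∀ u ∈ V, u * u = 1
  mem : ∀ i j, e i j ∈ V
  self : ∀ i, e i i = 1
  ne : ∀ i j, i ≠ j → e i j ≠ 1
  symm : ∀ i j, e i j = e j i
  mul : ∀ i j k, e i j * e j k = e i k
  all : ∀ u ∈ V, ∃ i j k l, u = e i j * e k l
  conj : ∀ (h : L) (i j), (h : G) * e i j * (h : G)⁻¹ = e (φ h i) (φ h j)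

variable {G : Type u} [Group G] {L V : Subgroup G} {φ : L →* Equiv.Perm (Fin 5)} {e : Fin 5 → Fin 5 → G}

theorem _root_.Cfsg.Agent.OddCyclic.Om5.Frame.toFrA (h : Frame L V φ e) : FrA L V φ e where
  alt := by rw [MonoidHom.range_eq_top.2 h.surj]; exact le_top
  sq := h.sq
  mem := h.mem
  self := h.self
  ne := h.ne
  symm := h.symm
  mul := h.mul
  all := h.all
  conj := h.conj

/-- every permutation is in the image up to the swap of two given letters -/
theorem exists_or (h : FrA L V φ e) (π : Equiv.Perm (Fin 5)) {k l : Fin 5} (hkl : k ≠ l) :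
    (∃ g, φ g = π) ∨ ∃ g, φ g = π * Equiv.swap k l := by
  rcases Int.units_eq_one_or (Equiv.Perm.sign π) with h1 | h1
  · left
    exact h.alt (Equiv.Perm.mem_alternatingGroup.2 h1)
  · right
    apply h.alt
    rw [Equiv.Perm.mem_alternatingGroup, map_mul, h1, Equiv.Perm.sign_swap hkl]
    rfl

theorem exists_of_sign (h : FrA L V φ e) (π : Equiv.Perm (Fin 5)) (hπ : Equiv.Perm.sign π = 1) : ∃ g, φ g = π :=
  h.alt (Equiv.Perm.mem_alternatingGroup.2 hπ)

theorem comm (h : FrA L V φ e) {x y : G} (hx : x ∈ V) (hy : y ∈ V) : x * y = y * x :=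
  Cfsg.Agent.LieExceptional.CITDefs.Elem.comm (A := V) h.sq hx hy

theorem inv_eq (h : FrA L V φ e) {x : G} (hx : x ∈ V) : x⁻¹ = x := inv_eq_of_mul_eq_one_left (h.sq x hx)

theorem exists_w (h : FrA L V φ e) : ∃ w : (Fin 5 → ZMod 2) → G, (∀ v v', w (v + v') = w v * w v') ∧ w 0 = 1 ∧
    (∀ v, w v ∈ V) ∧ ∀ i j, w (dl i + dl j) = e i j := by
  letI : CommGroup V := { (inferInstance : Group V) with mul_comm := fun a b => Subtype.ext (h.comm a.2 b.2) }
  let f : Fin 5 → V := fun i => ⟨e 0 i, h.mem 0 i⟩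
  have hf : ∀ i, f i * f i = 1 := fun i => Subtype.ext (h.sq _ (h.mem 0 i))
  let w0 : (Fin 5 → ZMod 2) → V := fun v => ∏ i, f i ^ (v i).val
  have hadd : ∀ v v', w0 (v + v') = w0 v * w0 v' := by
    intro v v'
    change (∏ i, f i ^ ((v + v') i).val) = (∏ i, f i ^ (v i).val) * ∏ i, f i ^ (v' i).val
    rw [← Finset.prod_mul_distrib]
    refine Finset.prod_congr rfl fun i _ => ?_
    rw [Pi.add_apply]
    exact pow_val (hf i) _ _
  have hdl : ∀ i, w0 (dl i) = f i := by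
    intro i
    change (∏ k, f k ^ ((dl i) k).val) = f i
    rw [Finset.prod_eq_single i]
    · have h1 : dl i i = 1 := Pi.single_eq_same i 1
      rw [h1]
      change f i ^ 1 = f i
      exact pow_one _
    · intro k _ hk
      have h1 : dl i k = 0 := Pi.single_eq_of_ne hk 1
      rw [h1]
      change f k ^ 0 = 1
      exact pow_zero _
    · intro hi
      exact absurd (Finset.mem_univ i) hi
  refine ⟨fun v => (w0 v : G), fun v v' => ?_, ?_, fun v => (w0 v).2, fun i j => ?_⟩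
  · change ((w0 (v + v') : V) : G) = _
    rw [hadd]; rfl
  · change ((w0 0 : V) : G) = 1
    have h1 : w0 0 = 1 := by
      change (∏ i, f i ^ ((0 : Fin 5 → ZMod 2) i).val) = 1
      refine Finset.prod_eq_one fun i _ => ?_
      change f i ^ 0 = 1
      exact pow_zero _
    rw [h1]; rfl
  · change ((w0 (dl i + dl j) : V) : G) = _
    rw [hadd, hdl, hdl]
    change e 0 i * e 0 j = e i j
    rw [h.symm 0 i, h.mul]

/-- the vectors -/
noncomputable def vw (h : FrA L V φ e) : (Fin 5 → ZMod 2) → G := h.exists_w.choose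

theorem vw_add (h : FrA L V φ e) (v v' : Fin 5 → ZMod 2) : vw h (v + v') = vw h v * vw h v' :=
  h.exists_w.choose_spec.1 v v'

theorem vw_zero (h : FrA L V φ e) : vw h 0 = 1 := h.exists_w.choose_spec.2.1

theorem vw_mem (h : FrA L V φ e) (v : Fin 5 → ZMod 2) : vw h v ∈ V := h.exists_w.choose_spec.2.2.1 v

theorem vw_two (h : FrA L V φ e) (i j : Fin 5) : vw h (dl i + dl j) = e i j := h.exists_w.choose_spec.2.2.2 i j

theorem vw_four (h : FrA L V φ e) (i j k l : Fin 5) : vw h (dl i + dl j + (dl k + dl l)) = e i j * e k l := by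
  rw [h.vw_add, h.vw_two, h.vw_two]

theorem vw_sg (h : FrA L V φ e) (i : Fin 5) : vw h (1 + dl i) = sg e i := by
  rw [dl_sum, h.vw_four]; rfl

theorem sg_mem (h : FrA L V φ e) (i : Fin 5) : sg e i ∈ V := mul_mem (h.mem _ _) (h.mem _ _)

theorem cls (h : FrA L V φ e) {x : G} (hx : x ∈ V) : x = 1 ∨ (∃ i j, i ≠ j ∧ x = e i j) ∨ ∃ i, x = sg e i := by
  obtain ⟨i, j, k, l, rfl⟩ := h.all x hx
  rw [← h.vw_four]
  have h0 : (dl i + dl j + (dl k + dl l)) 0 + (dl i + dl j + (dl k + dl l)) 1 + (dl i + dl j + (dl k + dl l)) 2 +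
      (dl i + dl j + (dl k + dl l)) 3 + (dl i + dl j + (dl k + dl l)) 4 = 0 := by
    have h1 := dl_two i j
    have h2 := dl_two k l
    have h3 : ∀ a : Fin 5, (dl i + dl j + (dl k + dl l)) a = (dl i + dl j) a + (dl k + dl l) a := fun a => rfl
    rw [h3, h3, h3, h3, h3]
    calc _ = ((dl i + dl j) 0 + (dl i + dl j) 1 + (dl i + dl j) 2 + (dl i + dl j) 3 + (dl i + dl j) 4) +
        ((dl k + dl l) 0 + (dl k + dl l) 1 + (dl k + dl l) 2 + (dl k + dl l) 3 + (dl k + dl l) 4) := by ring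
      _ = 0 := by rw [h1, h2, add_zero]
  rcases vec_cls _ h0 with hv | ⟨a, b, hab, hv⟩ | ⟨a, hv⟩
  · left; rw [hv, h.vw_zero]
  · right; left; exact ⟨a, b, hab, by rw [hv, h.vw_two]⟩
  · right; right; exact ⟨a, by rw [hv, h.vw_sg]⟩

theorem sg_mul (h : FrA L V φ e) (i j : Fin 5) : sg e i * sg e j = e i j := by
  rw [← h.vw_sg, ← h.vw_sg, ← h.vw_add, ← h.vw_two]
  congr 1
  revert i j
  decide +kernel

theorem conj_sg (h : FrA L V φ e) (m : L) (i : Fin 5) : (m : G) * sg e i * (m : G)⁻¹ = sg e (φ m i) := by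
  rw [← h.vw_sg (φ m i), dl_perm, h.vw_four, ← h.conj, ← h.conj]
  unfold sg
  group

theorem exists_even : ∀ i j : Fin 5, ∃ π : Equiv.Perm (Fin 5), Equiv.Perm.sign π = 1 ∧ π i = j := by
  decide +kernel

theorem sg_ne_one (h : FrA L V φ e) (i : Fin 5) : sg e i ≠ 1 := by
  intro hi
  have h1 : ∀ j, sg e j = 1 := by
    intro j
    obtain ⟨π, hπ, hij⟩ := exists_even i j
    obtain ⟨m, hm⟩ := h.exists_of_sign π hπ
    have h2 := h.conj_sg m i
    rw [hm, hij, hi, mul_one, mul_inv_cancel] at h2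
    exact h2.symm
  refine h.ne 0 1 (by decide) ?_
  rw [← h.sg_mul, h1, h1, one_mul]

theorem vw_eq_one (h : FrA L V φ e) {v : Fin 5 → ZMod 2} (hv : v 0 + v 1 + v 2 + v 3 + v 4 = 0)
    (h1 : vw h v = 1) : v = 0 := by
  rcases vec_cls v hv with h2 | ⟨i, j, hij, h2⟩ | ⟨i, h2⟩
  · exact h2
  · rw [h2, h.vw_two] at h1
    exact absurd h1 (h.ne i j hij)
  · rw [h2, h.vw_sg] at h1
    exact absurd h1 (h.sg_ne_one i)

theorem vw_inj (h : FrA L V φ e) {v v' : Fin 5 → ZMod 2} (hv : v 0 + v 1 + v 2 + v 3 + v 4 = 0)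
    (hv' : v' 0 + v' 1 + v' 2 + v' 3 + v' 4 = 0) (h1 : vw h v = vw h v') : v = v' := by
  have h2 : vw h (v + v') = 1 := by
    rw [h.vw_add, h1, h.sq _ (h.vw_mem _)]
  have h3 := h.vw_eq_one (v := v + v') (by
    change (v 0 + v' 0) + (v 1 + v' 1) + (v 2 + v' 2) + (v 3 + v' 3) + (v 4 + v' 4) = 0
    calc _ = (v 0 + v 1 + v 2 + v 3 + v 4) + (v' 0 + v' 1 + v' 2 + v' 3 + v' 4) := by ring
      _ = 0 := by rw [hv, hv', add_zero]) h2
  funext k
  have h4 := congrFun h3 k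
  have h5 : v k + v' k = 0 := h4
  exact CharTwo.add_eq_zero.1 h5

theorem e_ne_sg (h : FrA L V φ e) (i j k : Fin 5) : e i j ≠ sg e k := by
  intro h1
  rw [← h.vw_two, ← h.vw_sg] at h1
  have h2 := h.vw_inj (dl_two i j) (one_dl k) h1
  have h3 : ∀ i j k : Fin 5, (dl i + dl j : Fin 5 → ZMod 2) ≠ 1 + dl k := by decide +kernel
  exact h3 i j k h2

theorem dl_pair : ∀ a b c d : Fin 5, a ≠ b → dl a + dl b = dl c + dl d → (a = c ∧ b = d) ∨ (a = d ∧ b = c) := by
  decide +kernel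

theorem e_inj (h : FrA L V φ e) {a b c d : Fin 5} (hab : a ≠ b) (h1 : e a b = e c d) :
    (a = c ∧ b = d) ∨ (a = d ∧ b = c) := by
  rw [← h.vw_two, ← h.vw_two] at h1
  exact dl_pair _ _ _ _ hab (h.vw_inj (dl_two _ _) (dl_two _ _) h1)

/-- renumbering -/
theorem relabel (h : FrA L V φ e) (π : Equiv.Perm (Fin 5)) :
    FrA L V ((MulAut.conj π⁻¹).toMonoidHom.comp φ) (fun i j => e (π i) (π j)) where
  alt := by
    intro σ hσ
    have h1 : π * σ * π⁻¹ ∈ alternatingGroup (Fin 5) :=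
      (inferInstance : (alternatingGroup (Fin 5)).Normal).conj_mem σ hσ π
    obtain ⟨m, hm⟩ := h.alt h1
    refine ⟨m, ?_⟩
    change π⁻¹ * φ m * π⁻¹⁻¹ = σ
    rw [hm]; group
  sq := h.sq
  mem := fun i j => h.mem _ _
  self := fun i => h.self _
  ne := fun i j hij => h.ne _ _ (fun h1 => hij (π.injective h1))
  symm := fun i j => h.symm _ _
  mul := fun i j k => h.mul _ _ _
  all := fun u hu => by
    obtain ⟨i, j, k, l, h1⟩ := h.all u hu
    exact ⟨π.symm i, π.symm j, π.symm k, π.symm l, by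
      rw [h1, π.apply_symm_apply, π.apply_symm_apply, π.apply_symm_apply, π.apply_symm_apply]⟩
  conj := fun m i j => by
    have h1 : ∀ i, π (((MulAut.conj π⁻¹).toMonoidHom.comp φ) m i) = φ m (π i) := by
      intro i
      change π ((π⁻¹ * φ m * π⁻¹⁻¹) i) = φ m (π i)
      rw [inv_inv, Equiv.Perm.mul_apply, Equiv.Perm.mul_apply]
      exact π.apply_symm_apply _
    rw [h1, h1]
    exact h.conj m _ _

end Cfsg.Agent.OddCyclic.Bc.FrA
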