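import Cfsg.Agent.OddCyclic.Bc.Inst
import Cfsg.Agent.OddCyclic.Bc.Cases
import Cfsg.Agent.OddCyclic.BcP.MAb
import Cfsg.Agent.OddCyclic.BcExit
import Cfsg.Agent.OddCyclic.EmpFFList

/-!
# S0342, leaf [Bc], type (b): the FF list in the cases A1 and II

* `not_both`: (C2), no 2-local contains `C_G(Z)` and `N_G(J)`;
* `cent_le`: `C_G(z) ≤ N_G(W)` for `W ≤ ⟨Z^{C(z)}⟩` normalised by `N_G(J)`, if `C_G(z)` is V-form;
* `gen_of`: `EmpFFAbs.Gen` for `V = vv S`, if all `C_G(z)`, `z ∈ Z#`, are V-form;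
* `list_of`: the FF list.
-/

set_option autoImplicit false
set_option linter.unusedSectionVars false

namespace Cfsg.Agent.OddCyclic.Bc.GenI

open Subgroup Cfsg Cfsg.Agent.ZN Cfsg.Agent.ZN.ChoiceBase Cfsg.Agent.MinSimple Cfsg.Agent.MinSimple.EmptySix
open Cfsg.Agent.MinSimple.EmptyE.Closed (LL vv_comm vv_sq vv_mul_self vv_le jj_le_centralizer_vv conj_mem_vv
  isPGroup_vv)
open Cfsg.Agent.MinSimple.EmptyTI (jcl frattini_jcl)
open Cfsg.Agent.OddCyclic.T1Defs Cfsg.Agent.OddCyclic.T1Module Cfsg.Agent.OddCyclic.FFBasic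
  Cfsg.Agent.OddCyclic.FFRed Cfsg.Agent.OddCyclic.RedRep Cfsg.Agent.OddCyclic.CompStart Cfsg.Agent.OddCyclic.CompBasic
open Cfsg.Agent.OddCyclic.RedFinal (NoBlk)
open Cfsg.Agent.OddCyclic.EmpFFAbs (Gen)
open Cfsg.Agent.OddCyclic.Bc.Cases (CA1 CA2 CII Cb)
open Cfsg.Agent.OddCyclic.Bc.Inst

universe u

variable {G : Type u} [Group G] [Finite G] {S : Sylow 2 G}

/-- **(C2)** no 2-local subgroup contains `C_G(Z)` and `N_G(J)` -/
theorem not_both (nb : NoBlk S) {K : Subgroup G} (hK : IsTwoLocal K)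
    (hC : centralizer (zc (S : Subgroup G) : Set G) ≤ K) (hN : normalizer (jj (S : Subgroup G) : Set G) ≤ K) : False := by
  have hSK : (S : Subgroup G) ≤ K := (le_normalizer.trans (Basic.normalizer_le_normalizer_jj _)).trans hN
  obtain ⟨X, hX, hSX, hn⟩ := nb.cx.nu K hK hSK
  exact hn ((BcP.MAb.gen_of nb hX hSX).trans (sup_le (inf_le_right.trans hC) (inf_le_right.trans hN)))

/-- `C_G(z) ≤ N_G(W)`, if `C_G(z)` is V-form -/
theorem cent_le {z : G} (hz : z ∈ zc (S : Subgroup G))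
    (hvf : jj (S : Subgroup G) ≤ centralizer (zl (S : Subgroup G) (centralizer ({z} : Set G)) : Set G))
    {W : Subgroup G} (hW : W ≤ zl (S : Subgroup G) (centralizer ({z} : Set G)))
    (hN : normalizer (jj (S : Subgroup G) : Set G) ≤ normalizer (W : Set G)) :
    centralizer ({z} : Set G) ≤ normalizer (W : Set G) := by
  have hSC : (S : Subgroup G) ≤ centralizer ({z} : Set G) := by
    intro s hs
    rw [mem_centralizer_singleton_iff]
    exact (ChoiceBase.mem_zc.1 hz).2.2 s hs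
  refine (frattini_jcl S ((ChoiceBase.jj_le _).trans hSC)).trans (sup_le ?_ (inf_le_right.trans hN))
  exact ((Cfsg.Agent.OddCyclic.BcExit.SLb.jcl_le_of hvf).trans (centralizer_le hW)).trans (centralizer_le_normalizer _)

theorem ne_top (nb : NoBlk S) {X : Subgroup G} (hX : IsTwoLocal X) : X ≠ ⊤ := RedU.ne_top nb.cx hX

theorem isTwoLocal_LL {z : G} (hz : z ∈ zc (S : Subgroup G)) (hz1 : z ≠ 1) : IsTwoLocal (LL (S : Subgroup G)) := by
  refine ⟨vv (S : Subgroup G), isPGroup_vv, ?_, rfl⟩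
  intro h1
  have h2 := zc_le_vv _ hz
  rw [h1, mem_bot] at h2
  exact hz1 h2

variable {H V : Type u} [Group H] [CommGroup V] {r : LL (S : Subgroup G) →* H} {ρ : H →* MulAut V} {ι : V →* G}

/-- **the setting of the FF list** -/
theorem gen_of (nb : NoBlk S) (hr : Rep (LL (S : Subgroup G)) (vv (S : Subgroup G)) r ρ ι)
    (hvf : ∀ z ∈ zc (S : Subgroup G), z ≠ 1 →
      jj (S : Subgroup G) ≤ centralizer (zl (S : Subgroup G) (centralizer ({z} : Set G)) : Set G)) :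
    Gen ρ (im (LL (S : Subgroup G)) (S : Subgroup G) r) where
  sq := sq_of hr
  inj := hr.inj
  two := isPGroup_im r
  index := index_im hr
  gen := Inst.gen_of hr
  bad := by
    intro z hz hz1
    have hzZ := (mem_CS_S hr z).1 hz
    have hz1' : ι z ≠ 1 := fun h1 => hz1 (hr.iinj (by rw [h1, map_one]))
    refine ⟨(zl (S : Subgroup G) (centralizer ({ι z} : Set G))).comap ι, ?_, ?_, ?_⟩
    · intro v hv
      exact VModule.zc_le_zl _ _ ((mem_CS_S hr v).1 hv)
    · intro g hg v hv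
      obtain ⟨x, rfl⟩ := hr.surj g
      have h1 : (x : G) ∈ centralizer ({ι z} : Set G) := by
        rw [mem_centralizer_singleton_iff]
        exact hr.fix.1 hg
      rw [mem_comap, hr.act]
      exact (mem_normalizer_iff.1 (VModule.le_normalizer_zl _ _ h1) _).1 hv
    · intro W hWC hW
      by_contra hne1
      have h1 : W.map ι ≤ zl (S : Subgroup G) (centralizer ({ι z} : Set G)) := by
        rintro _ ⟨w, hw, rfl⟩
        exact hWC hw
      have hN : LL (S : Subgroup G) ≤ normalizer ((W.map ι : Subgroup G) : Set G) := by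
        refine Block.le_normalizer_of_forall fun x hx m hm => ?_
        obtain ⟨w, hw, rfl⟩ := hm
        exact ⟨ρ (r ⟨x, hx⟩) w, hW _ w hw, hr.act ⟨x, hx⟩ w⟩
      have hN' := (normalizer_jj_le_vv (S : Subgroup G)).trans hN
      have h2 := cent_le hzZ (hvf _ hzZ hz1') h1 hN'
      have h3 : IsTwoLocal (normalizer ((W.map ι : Subgroup G) : Set G)) := by
        refine ⟨W.map ι, ?_, ?_, rfl⟩
        · exact IsPGroup.to_le isPGroup_vv (by rintro _ ⟨w, -, rfl⟩; exact hr.mem w)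
        · intro h3
          exact hne1 ((Subgroup.map_eq_bot_iff_of_injective _ hr.iinj).1 h3)
      exact not_both nb h3 ((centralizer_le (Set.singleton_subset_iff.2 hzZ)).trans h2) hN'

/-- **the FF list** -/
theorem list_of [Finite H] [Finite V] (nb : NoBlk S) (hz : SecZero G)
    (hr : Rep (LL (S : Subgroup G)) (vv (S : Subgroup G)) r ρ ι) {v : G} (hv : v ∈ zc (S : Subgroup G)) (hv1 : v ≠ 1)
    (hvf : ∀ z ∈ zc (S : Subgroup G), z ≠ 1 →
      jj (S : Subgroup G) ≤ centralizer (zl (S : Subgroup G) (centralizer ({z} : Set G)) : Set G))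
    (hFF : ∃ A : Subgroup H, A ≠ ⊥ ∧ (∀ a ∈ A, a * a = 1) ∧ Nat.card V ≤ Nat.card A * Nat.card (CS ρ A)) :
    EmpFFList.FFList ρ (im (LL (S : Subgroup G)) (S : Subgroup G) r) := by
  have hg := gen_of nb hr hvf
  have hL := ne_top nb (isTwoLocal_LL hv hv1)
  have hc : OddCyc H := T1Structure.oddCyc_of_surjective
    (T1Structure.oddCyc_of_injective nb.cx.cyc (LL (S : Subgroup G)).subtype (LL (S : Subgroup G)).subtype_injective)
    r hr.surj
  have hF : RedFFDefs.FFC H := FFSec.ffc nb.cx.cyc hz hL r hr.surj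
  obtain ⟨A, hA, hA1⟩ := EmpFFList.exists_bo hFF
  exact EmpFFList.main hg hc hA hA1 (hF V hg.sq ρ hr.inj (fun D hD h2 => core_of hr D hD h2) A hA hA1)

/-! ### the cases -/

variable {T L O₁ O A : Subgroup G} {ξ x p r₀ s z : G}

theorem Cb_ξp (c : Cb S T L O₁ O A ξ x p) : ξ * p ≠ p * ξ := by
  intro h
  have h1 := (Cases.rz_of_comm (Cases.zc_sq c.p_mem) h).1
  rw [c.p_rz] at h1
  exact c.p1 h1.symm

/-- `ξ` commutes with the elements of `zc T` centralised by `L` -/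
theorem ξ_comm (c : Cb S T L O₁ O A ξ x p) {v : G} (hv : L ≤ centralizer ({v} : Set G)) : ξ * v = v * ξ :=
  mem_centralizer_singleton_iff.1 (hv c.ξL)

theorem CA1_ne (c : CA1 S L O₁ O A ξ x p) {v : G} (hv : v ∈ zc (S : Subgroup G)) (hv1 : v ≠ 1) : v = p := by
  rw [c.zc_eq] at hv
  rcases (Geo.mem_zpowers_iff_of_mul_self (Cases.zc_sq c.p_mem)).1 hv with h | h
  · exact absurd h hv1
  · exact h

theorem CII_ne (c : CII S T L O₁ O A ξ x p r₀ s z) {v : G} (hv : v ∈ zc (S : Subgroup G)) (hv1 : v ≠ 1) : v = z := by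
  have hz : z ∈ zc (S : Subgroup G) := by rw [c.zc_eq]; exact mem_zpowers z
  rw [c.zc_eq] at hv
  rcases (Geo.mem_zpowers_iff_of_mul_self (Cases.zc_sq hz)).1 hv with h | h
  · exact absurd h hv1
  · exact h

theorem isTwoLocal_cent {v : G} (hv : v ∈ zc (S : Subgroup G)) (hv1 : v ≠ 1) :
    IsTwoLocal (centralizer ({v} : Set G)) :=
  EmptyTI.isTwoLocal_centralizer (ChoiceBase.zc_le_zj _ hv) hv1

theorem S_le_cent {v : G} (hv : v ∈ zc (S : Subgroup G)) : (S : Subgroup G) ≤ centralizer ({v} : Set G) := by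
  intro s hs
  rw [mem_centralizer_singleton_iff]
  exact (ChoiceBase.mem_zc.1 hv).2.2 s hs

theorem CA1_vf (c : CA1 S L O₁ O A ξ x p) : ∀ z ∈ zc (S : Subgroup G), z ≠ 1 →
    jj (S : Subgroup G) ≤ centralizer (zl (S : Subgroup G) (centralizer ({z} : Set G)) : Set G) := by
  intro v hv hv1
  have h := CA1_ne c hv hv1
  subst h
  exact c.vf _ (isTwoLocal_cent hv hv1) (S_le_cent hv) le_rfl

theorem CII_vf (c : CII S T L O₁ O A ξ x p r₀ s z) : ∀ z ∈ zc (S : Subgroup G), z ≠ 1 →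
    jj (S : Subgroup G) ≤ centralizer (zl (S : Subgroup G) (centralizer ({z} : Set G)) : Set G) :=
  fun _ hv hv1 => c.vf _ (isTwoLocal_cent hv hv1) (S_le_cent hv)

theorem CII_ξz (c : CII S T L O₁ O A ξ x p r₀ s z) : ξ * z ≠ z * ξ := by
  have h1 := Cb_ξp c.toCb
  rcases c.z_cases with ⟨h2, -⟩ | ⟨h2, -⟩
  · rw [h2]; exact h1
  · rw [h2]
    intro h3
    apply h1
    have h4 := ξ_comm c.toCb c.r_L
    have h5 : ξ * p * r₀ = p * ξ * r₀ := by
      calc ξ * p * r₀ = ξ * (p * r₀) := by group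
        _ = p * r₀ * ξ := h3
        _ = p * (ξ * r₀) := by rw [h4]; group
        _ = p * ξ * r₀ := by group
    exact mul_right_cancel h5

/-- in the cases A1 and II `ξ` moves every `v ∈ Z#` -/
theorem CA1_moved (c : CA1 S L O₁ O A ξ x p) {v : G} (hv : v ∈ zc (S : Subgroup G)) (hv1 : v ≠ 1) :
    ξ * v ≠ v * ξ := by
  rw [CA1_ne c hv hv1]; exact Cb_ξp c.toCb

theorem CII_moved (c : CII S T L O₁ O A ξ x p r₀ s z) {v : G} (hv : v ∈ zc (S : Subgroup G)) (hv1 : v ≠ 1) :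
    ξ * v ≠ v * ξ := by
  rw [CII_ne c hv hv1]; exact CII_ξz c

theorem CII_z_mem (c : CII S T L O₁ O A ξ x p r₀ s z) : z ∈ zc (S : Subgroup G) := by
  rw [c.zc_eq]; exact mem_zpowers z

theorem CA1_ex (c : CA1 S L O₁ O A ξ x p) : ∃ v ∈ vv (S : Subgroup G), ξ * v ≠ v * ξ :=
  ⟨p, zc_le_vv _ c.p_mem, Cb_ξp c.toCb⟩

theorem CA2_ex (c : CA2 S L O₁ O A ξ x p) : ∃ v ∈ vv (S : Subgroup G), ξ * v ≠ v * ξ :=
  ⟨p, zc_le_vv _ c.p_mem, Cb_ξp c.toCb⟩

theorem CII_ex (c : CII S T L O₁ O A ξ x p r₀ s z) : ∃ v ∈ vv (S : Subgroup G), ξ * v ≠ v * ξ :=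
  ⟨z, zc_le_vv _ (CII_z_mem c), CII_ξz c⟩

end Cfsg.Agent.OddCyclic.Bc.GenI
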