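import Cfsg.Agent.OddCyclic.EmpFFList
import Cfsg.Agent.OddCyclic.RedSevenA
import Cfsg.Agent.OddCyclic.COneSeven
import Cfsg.Agent.OddCyclic.EmpC.L32
import Cfsg.Agent.MinSimple.Geo

/-!
# S0342, leaf [Bc], type (b): the `S`-invariant line (module level)

`Ln ρ T v W` : `W` is a four-group, `T`-invariant, with an element of order 3 normalising `W` and moving `v ∈ W`; every
`T`-invariant subgroup lies in `⟨v⟩` or contains `W`.

* `Ln.of_seven` : `L₃(2)` on `2³`;
* `Ln.of_lin` : `SL₂(4)`, natural module.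
-/

set_option autoImplicit false
set_option linter.unusedSectionVars false

namespace Cfsg.Agent.OddCyclic.Bc.Line

open Subgroup Cfsg
open Cfsg.Agent.GH.L2Aut Cfsg.Agent.OddCyclic.T1Module Cfsg.Agent.OddCyclic.FFBasic
  Cfsg.Agent.OddCyclic.FFRed Cfsg.Agent.OddCyclic.FFSl2 Cfsg.Agent.OddCyclic.FFThree
  Cfsg.Agent.OddCyclic.COneSeven Cfsg.Agent.OddCyclic.RedSevenA
open Cfsg.Agent.OddCyclic.EmpC (exists_fixed)

variable {H : Type*} [Group H] [Finite H] {V : Type*} [CommGroup V] [Finite V] {ρ : H →* MulAut V}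

/-- the `T`-invariant line `W ∋ v` -/
structure Ln (ρ : H →* MulAut V) (T : Subgroup H) (v : V) (W : Subgroup V) : Prop where
  card : Nat.card W = 4
  mem : v ∈ W
  inv : ∀ t ∈ T, ∀ w ∈ W, ρ t w ∈ W
  ex : ∃ y : H, orderOf y = 3 ∧ (∀ w ∈ W, ρ y w ∈ W) ∧ ρ y v ≠ v
  uni : ∀ U : Subgroup V, (∀ t ∈ T, ∀ u ∈ U, ρ t u ∈ U) → U ≤ zpowers v ∨ W ≤ U

/-- `|C_V(a)| ≥ |V : C_V(a)|` for an involution `a` -/
theorem index_le_card (hsq : ∀ v : V, v * v = 1) {a : H} (ha : a * a = 1) :
    (fx ρ a).index ≤ Nat.card (fx ρ a) := by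
  have h1 : (cm ρ a).range ≤ fx ρ a := by
    rintro _ ⟨v, rfl⟩
    rw [cm_apply, mem_fx, map_mul, map_inv, ← MulAut.mul_apply, ← map_mul, ha, map_one, MulAut.one_apply]
    have h4 : (ρ a v)⁻¹ = ρ a v := inv_eq_of_mul_eq_one_left (hsq _)
    have h5 : v⁻¹ = v := inv_eq_of_mul_eq_one_left (hsq v)
    rw [h4, h5, mul_comm]
  have h2 : (cm ρ a).ker = fx ρ a := by
    ext v
    rw [MonoidHom.mem_ker, cm_apply, mul_inv_eq_one]
    exact Iff.rfl
  rw [← h2, Subgroup.index_ker, h2]
  exact Subgroup.card_le_of_le h1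

/-- an element of order 3 which normalises `W` of index 2 moves every `v ∈ W#`, `|W| = 4` -/
theorem move (hsq : ∀ v : V, v * v = 1) (hinj : Function.Injective ρ) {W : Subgroup V} (h4 : Nat.card W = 4) {y : H}
    (hy : orderOf y = 3) (hi : W.index < 4) (hyW : ∀ w ∈ W, ρ y w ∈ W) {v : V} (hv : v ∈ W) (hv1 : v ≠ 1) : ρ y v ≠ v := by
  intro hyv
  have hyyy : y * y * y = 1 := by
    have := pow_orderOf_eq_one y
    rwa [hy, pow_succ, pow_two] at this
  have hy1 : y ≠ 1 := by
    rintro rfl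
    rw [orderOf_one] at hy
    omega
  -- `y` is trivial on `W`
  have htriv : W ≤ fx ρ y := by
    intro u hu
    rw [mem_fx]
    by_contra hne
    have hu1 : u ≠ 1 := by rintro rfl; exact hne (map_one _)
    have huv : u ≠ v := by rintro rfl; exact hne hyv
    have hfour : Four v u := ⟨hsq v, hsq u, hv1, hu1, huv.symm, mul_comm _ _⟩
    have hW : W = hfour.sub := by
      symm
      apply Subgroup.eq_of_le_of_card_ge
      · rintro w (rfl | rfl | rfl | rfl)
        · exact one_mem _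
        · exact hv
        · exact hu
        · exact mul_mem hv hu
      · rw [h4, card_sub]
    have h1 : ρ y u ∈ hfour.sub := by rw [← hW]; exact hyW u hu
    have h2 : ρ y u = v * u := by
      rcases h1 with h1 | h1 | h1 | h1
      · exact absurd ((ρ y).injective (h1.trans (map_one _).symm)) hu1
      · exact absurd ((ρ y).injective (h1.trans hyv.symm)) huv
      · exact absurd h1 hne
      · exact h1
    have h3 : ρ (y * y * y) u = v * u := by
      have e1 : ρ (y * y) u = u := by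
        rw [map_mul, MulAut.mul_apply, h2, map_mul, hyv, h2, ← mul_assoc, hsq, one_mul]
      rw [mul_assoc, map_mul, MulAut.mul_apply, e1, h2]
    rw [hyyy, map_one, MulAut.one_apply] at h3
    exact hv1 (mul_eq_right.1 h3.symm)
  obtain ⟨d, hd, hidx, hdvd⟩ := prim (ρ := ρ) hsq Nat.prime_three (by norm_num) hy (by
    by_contra hcon
    push Not at hcon
    apply hy1
    apply hinj
    rw [map_one]
    ext v
    exact hcon v)
  have h5 := index_le_of_le htriv
  have hd2 : 2 ≤ d := by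
    by_contra hcon
    have : d = 1 := by omega
    rw [this] at hdvd
    norm_num at hdvd
  have h6 : 4 ≤ (fx ρ y).index := by
    rw [hidx]
    calc 4 = 2 ^ 2 := by norm_num
      _ ≤ 2 ^ d := Nat.pow_le_pow_right (by norm_num) hd2
  omega

/-- `T`-invariant subgroups in a module of order 8 -/
theorem uni_of (hsq : ∀ v : V, v * v = 1) (hinj : Function.Injective ρ) (h8 : Nat.card V = 8) {T : Subgroup H}
    (hT2 : IsPGroup 2 T) (hT : 4 < Nat.card T) {v : V} (hv : ∀ w, w ∈ CS ρ T → w = 1 ∨ w = v) (hvT : v ∈ CS ρ T) (hv1 : v ≠ 1)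
    {W : Subgroup V} (h4 : Nat.card W = 4) (hvW : v ∈ W) (hW : ∀ t ∈ T, ∀ w ∈ W, ρ t w ∈ W) {U : Subgroup V}
    (hU : ∀ t ∈ T, ∀ u ∈ U, ρ t u ∈ U) : U ≤ zpowers v ∨ W ≤ U := by
  by_contra hcon
  push Not at hcon
  obtain ⟨hU1, hWU⟩ := hcon
  obtain ⟨u, hu, hu1⟩ := SetLike.not_le_iff_exists.1 hU1
  have hzp : ∀ w, w ∈ zpowers v ↔ w = 1 ∨ w = v := fun w =>
    Cfsg.Agent.MinSimple.Geo.mem_zpowers_iff_of_mul_self (hsq v)
  rw [hzp] at hu1
  push Not at hu1
  have hUb : U ≠ ⊥ := by rintro rfl; exact hu1.1 (mem_bot.1 hu)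
  have hvU : v ∈ U := by
    obtain ⟨w, hwU, hw1, hwT⟩ := exists_fixed (ρ := ρ) hsq hT2 (W := U) (fun t ht w hw => hU t ht w hw) hUb
    rcases hv w hwT with h1 | h1
    · exact absurd h1 hw1
    · rw [← h1]; exact hwU
  obtain ⟨w, hw, hwU⟩ := SetLike.not_le_iff_exists.1 hWU
  have hw1 : w ≠ 1 := by rintro rfl; exact hwU (one_mem _)
  have hwv : w ≠ v := by rintro rfl; exact hwU hvU
  -- `W = {1, v, w, vw}`
  have hfW : Four v w := ⟨hsq v, hsq w, hv1, hw1, hwv.symm, mul_comm _ _⟩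
  have hWeq : W = hfW.sub := by
    symm
    apply Subgroup.eq_of_le_of_card_ge
    · rintro x (rfl | rfl | rfl | rfl)
      · exact one_mem _
      · exact hvW
      · exact hw
      · exact mul_mem hvW hw
    · rw [h4, card_sub]
  have hvTt : ∀ t ∈ T, ρ t v = v := hvT
  -- `|U| = 4`
  have hfU : Four v u := ⟨hsq v, hsq u, hv1, hu1.1, hu1.2.symm, mul_comm _ _⟩
  have hfle : hfU.sub ≤ U := by
    rintro x (rfl | rfl | rfl | rfl)
    · exact one_mem _
    · exact hvU
    · exact hu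
    · exact mul_mem hvU hu
  have hUeq : U = hfU.sub := by
    symm
    apply Subgroup.eq_of_le_of_card_ge hfle
    rw [card_sub]
    have h1 : Nat.card U ∣ 8 := by rw [← h8]; exact card_subgroup_dvd_card U
    have h2 : Nat.card U ≠ 8 := by
      intro h2
      have h3 : U = ⊤ := Subgroup.eq_top_of_card_eq _ (by rw [h2, h8])
      exact hwU (by rw [h3]; exact mem_top _)
    have h3 : Nat.card U ∈ Nat.divisors 8 := Nat.mem_divisors.2 ⟨h1, by norm_num⟩
    have h4 : Nat.divisors 8 = {1, 2, 4, 8} := by decide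
    rw [h4] at h3
    simp only [Finset.mem_insert, Finset.mem_singleton] at h3
    omega
  -- `T` acts on `U` and `W` through `{1, v}`
  have hact : ∀ (x : V) (hx : Four v x), (∀ t ∈ T, ρ t x ∈ hx.sub) → ∀ t ∈ T, ρ t x = x ∨ ρ t x = v * x := by
    intro x hx hin t ht
    rcases hin t ht with h1 | h1 | h1 | h1
    · exact absurd ((ρ t).injective (h1.trans (map_one _).symm)) hx.b1
    · exact absurd ((ρ t).injective (h1.trans (hvTt t ht).symm)) hx.ne.symm
    · exact Or.inl h1
    · exact Or.inr h1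
  have haU := hact u hfU (fun t ht => by rw [← hUeq]; exact hU t ht u hu)
  have haW := hact w hfW (fun t ht => by rw [← hWeq]; exact hW t ht w hw)
  -- `V = U W`
  have htop : U ⊔ W = ⊤ := by
    apply Subgroup.eq_top_of_card_eq
    have h1 := card_sup_mul U W
    have h2 : Nat.card (U ⊓ W : Subgroup V) ∣ 4 := by rw [← h4]; exact Subgroup.card_dvd_of_le inf_le_right
    have h3 : Nat.card (U ⊓ W : Subgroup V) ≠ 4 := by
      intro h3
      have : U ⊓ W = W := Subgroup.eq_of_le_of_card_ge inf_le_right (by rw [h3, h4])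
      exact hwU (by
        have h5 : w ∈ U ⊓ W := by rw [this]; exact hw
        exact h5.1)
    have h5 : Nat.card (U ⊓ W : Subgroup V) ≤ 2 := by
      have h6 : Nat.card (U ⊓ W : Subgroup V) ∈ Nat.divisors 4 := Nat.mem_divisors.2 ⟨h2, by norm_num⟩
      have h7 : Nat.divisors 4 = {1, 2, 4} := by decide
      rw [h7] at h6
      simp only [Finset.mem_insert, Finset.mem_singleton] at h6
      omega
    have hU4 : Nat.card U = 4 := by rw [hUeq, card_sub]
    rw [hU4, h4] at h1
    have h6 : Nat.card (U ⊔ W : Subgroup V) ∣ 8 := by rw [← h8]; exact card_subgroup_dvd_card _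
    have h7 := Nat.le_of_dvd (by norm_num) h6
    rw [h8]
    nlinarith
  -- an injection `T → Bool × Bool`
  classical
  let f : T → Bool × Bool := fun t => (decide (ρ t u = u), decide (ρ t w = w))
  have hf : Function.Injective f := by
    intro s t hst
    have e1 : (ρ (s : H) u = u ↔ ρ (t : H) u = u) := by
      have := congrArg Prod.fst hst
      simpa [f] using this
    have e2 : (ρ (s : H) w = w ↔ ρ (t : H) w = w) := by
      have := congrArg Prod.snd hst
      simpa [f] using this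
    have e3 : ρ (s : H) u = ρ (t : H) u := by
      rcases haU s s.2 with h1 | h1 <;> rcases haU t t.2 with h2 | h2
      · rw [h1, h2]
      · exact absurd (e1.1 h1) (by rw [h2]; intro h3; exact hv1 (mul_eq_right.1 h3))
      · exact absurd (e1.2 h2) (by rw [h1]; intro h3; exact hv1 (mul_eq_right.1 h3))
      · rw [h1, h2]
    have e4 : ρ (s : H) w = ρ (t : H) w := by
      rcases haW s s.2 with h1 | h1 <;> rcases haW t t.2 with h2 | h2
      · rw [h1, h2]
      · exact absurd (e2.1 h1) (by rw [h2]; intro h3; exact hv1 (mul_eq_right.1 h3))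
      · exact absurd (e2.2 h2) (by rw [h1]; intro h3; exact hv1 (mul_eq_right.1 h3))
      · rw [h1, h2]
    apply Subtype.ext
    apply hinj
    have hle : U ⊔ W ≤ (ρ (s : H)).toMonoidHom.eqLocus (ρ (t : H)).toMonoidHom := by
      refine sup_le ?_ ?_
      · rw [hUeq]
        rintro x (rfl | rfl | rfl | rfl)
        · exact one_mem _
        · exact (hvTt s s.2).trans (hvTt t t.2).symm
        · exact e3
        · exact mul_mem ((hvTt s s.2).trans (hvTt t t.2).symm :
            v ∈ (ρ (s : H)).toMonoidHom.eqLocus (ρ (t : H)).toMonoidHom) e3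
      · rw [hWeq]
        rintro x (rfl | rfl | rfl | rfl)
        · exact one_mem _
        · exact (hvTt s s.2).trans (hvTt t t.2).symm
        · exact e4
        · exact mul_mem ((hvTt s s.2).trans (hvTt t t.2).symm :
            v ∈ (ρ (s : H)).toMonoidHom.eqLocus (ρ (t : H)).toMonoidHom) e4
    rw [htop] at hle
    ext x
    exact hle (mem_top x)
  have h1 := Nat.card_le_card_of_injective f hf
  have h2 : Nat.card (Bool × Bool) = 4 := by simp [Nat.card_eq_fintype_card]
  rw [h2] at h1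
  omega

theorem card_cases {n m : ℕ} (h : n ∣ 8) (h1 : n * m = 8) (h2 : m ≤ n) (h3 : n ≠ 8) : n = 4 := by
  have h3' : n ∈ Nat.divisors 8 := Nat.mem_divisors.2 ⟨h, by norm_num⟩
  have h4 : Nat.divisors 8 = {1, 2, 4, 8} := by decide
  rw [h4] at h3'
  simp only [Finset.mem_insert, Finset.mem_singleton] at h3'
  rcases h3' with rfl | rfl | rfl | rfl
  · omega
  · omega
  · rfl
  · exact absurd rfl h3

/-- a four-group `C ≤ T` with `|C_V(C)| = 4` -/
theorem exists_line (hb : EmpFFList.OutB ρ) (hsq : ∀ v : V, v * v = 1) (T : Sylow 2 H) {v : V}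
    (hv : ∀ w, w ∈ CS ρ (T : Subgroup H) → w = 1 ∨ w = v) (hvT : v ∈ CS ρ (T : Subgroup H)) (hv1 : v ≠ 1) :
    ∃ C : Subgroup H, IsFour C ∧ C ≤ T ∧ Nat.card (CS ρ C) = 4 := by
  have hl := COneSeven.l32 hb.simple hb.cardH
  have hmod : Mod ρ := ⟨hl, hsq, fun y hy => by
    by_contra hcon
    push Not at hcon
    apply hy
    apply hb.bij.1
    rw [map_one]
    ext v
    exact hcon v⟩
  obtain ⟨a₀, b₀, hf₀⟩ := hl.four
  have hp : IsPGroup 2 hf₀.sub := IsPGroup.of_card (n := 2) (by rw [card_sub hf₀]; norm_num)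
  obtain ⟨T', hT'⟩ := hp.exists_le_sylow
  obtain ⟨g, hg⟩ := MulAction.exists_smul_eq H T' T
  obtain ⟨A, hAd⟩ : ∃ A : Subgroup H, A = hf₀.sub.map (MulAut.conj g).toMonoidHom := ⟨_, rfl⟩
  have hA : IsFour A := by
    refine ⟨?_, ?_⟩
    · rw [hAd, Nat.card_congr (hf₀.sub.equivMapOfInjective _ (MulAut.conj g).injective).symm.toEquiv, card_sub]
    · rw [hAd]
      rintro _ ⟨x, hx, rfl⟩
      rw [← map_mul, (isFour_sub hf₀).sq x hx, map_one]
  have hAT : A ≤ T := by
    rw [hAd, ← hg]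
    rintro _ ⟨x, hx, rfl⟩
    exact ⟨x, hT' hx, rfl⟩
  obtain ⟨z, a, b, hza, hzb, hAeq, hBT, hab, hAB, hsup, honly, hgen⟩ := exists_other hl T hA hAT
  have hz4 : Nat.card (fx ρ z) = 4 := by
    have h1 := (fx ρ z).card_mul_index
    rw [hb.cardV] at h1
    refine card_cases ⟨_, h1.symm⟩ h1 (index_le_card hsq hza.aa) ?_
    intro h2
    have h3 : fx ρ z = ⊤ := Subgroup.eq_top_of_card_eq _ (by rw [h2, hb.cardV])
    obtain ⟨w, hw⟩ := hmod.faith z hza.a1
    apply hw
    have : w ∈ fx ρ z := by rw [h3]; exact mem_top w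
    exact this
  by_contra hcon
  push Not at hcon
  have key : ∀ C : Subgroup H, IsFour C → C ≤ T → z ∈ C → normalizer (C : Set H) ≤ stb ρ v := by
    intro C hC hCT hzC x hx
    have h1 : Nat.card (CS ρ C) ∣ 4 := by rw [← hz4]; exact Subgroup.card_dvd_of_le (CS_le_fx hzC)
    have h2 := hcon C hC hCT
    have hvC : v ∈ CS ρ C := CS_anti hCT hvT
    have h3 : Nat.card (CS ρ C) ≤ 2 := by
      have h6 : Nat.card (CS ρ C) ∈ Nat.divisors 4 := Nat.mem_divisors.2 ⟨h1, by norm_num⟩
      have h7 : Nat.divisors 4 = {1, 2, 4} := by decide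
      rw [h7] at h6
      simp only [Finset.mem_insert, Finset.mem_singleton] at h6
      omega
    have h4 : zpowers v ≤ CS ρ C := by rwa [zpowers_le]
    have h5 : zpowers v = CS ρ C := by
      apply Subgroup.eq_of_le_of_card_ge h4
      rw [Nat.card_zpowers, orderOf_eq_prime (p := 2) (by rw [pow_two]; exact hsq v) hv1]
      exact h3
    have h6 : ρ x v ∈ zpowers v := by rw [h5]; exact CS_stable hx hvC
    rcases (Cfsg.Agent.MinSimple.Geo.mem_zpowers_iff_of_mul_self (hsq v)).1 h6 with h7 | h7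
    · exact absurd ((ρ x).injective (h7.trans (map_one _).symm)) hv1
    · exact h7
  have h1 : (⊤ : Subgroup H) ≤ stb ρ v := by
    rw [← hgen]
    exact sup_le (key A hA hAT (by rw [hAeq]; exact Or.inr (Or.inl rfl)))
      (key _ (isFour_sub hzb) hBT (Or.inr (Or.inl rfl)))
  have h2 := hmod.top_le
  have h3 : v ∈ CS ρ (⊤ : Subgroup H) := fun x hx => h1 hx
  have h4 := (CS ρ (⊤ : Subgroup H)).card_mul_index
  rw [hb.cardV] at h4
  have h5 : Nat.card (CS ρ (⊤ : Subgroup H)) = 1 := by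
    have : 0 < Nat.card (CS ρ (⊤ : Subgroup H)) := Nat.card_pos
    nlinarith
  rw [Subgroup.card_eq_one] at h5
  rw [h5] at h3
  exact hv1 (mem_bot.1 h3)

/-- `L₃(2)` on `2³` -/
theorem Ln.of_seven (hb : EmpFFList.OutB ρ) (hsq : ∀ v : V, v * v = 1) {T : Subgroup H} (hT2 : IsPGroup 2 T)
    (hTi : ¬ 2 ∣ T.index) {v : V} (hv : ∀ w, w ∈ CS ρ T → w = 1 ∨ w = v) (hvT : v ∈ CS ρ T) (hv1 : v ≠ 1) :
    ∃ W, Ln ρ T v W := by
  obtain ⟨TQ, hTQ⟩ : ∃ TQ : Sylow 2 H, (TQ : Subgroup H) = T := ⟨hT2.toSylow hTi, rfl⟩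
  rw [← hTQ] at hv hvT
  have hl := COneSeven.l32 hb.simple hb.cardH
  obtain ⟨C, hC, hCT, h4⟩ := exists_line hb hsq TQ hv hvT hv1
  have hTN := sylow_le_normalizer hl TQ hC hCT
  have hvC : v ∈ CS ρ C := CS_anti hCT hvT
  have hidx : (CS ρ C).index < 4 := by
    have h1 := (CS ρ C).card_mul_index
    rw [h4, hb.cardV] at h1
    omega
  obtain ⟨s, hs, t, ht, hst, hmem⟩ := hC.exists_four
  obtain ⟨y, hyN, hy3, hy1, -⟩ := fuse_mem hl hst hmem
  have hyo : orderOf y = 3 := orderOf_three hy3 hy1 hst.ne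
  refine ⟨CS ρ C, ?_⟩
  rw [← hTQ]
  exact
    { card := h4
      mem := hvC
      inv := fun t ht w hw => CS_stable (hTN ht) hw
      ex := ⟨y, hyo, fun w hw => CS_stable hyN hw, move hsq hb.bij.1 h4 hyo hidx (fun w hw => CS_stable hyN hw) hvC hv1⟩
      uni := fun U hU => uni_of hsq hb.bij.1 hb.cardV TQ.isPGroup' (by
        have := card_sylow hl TQ
        change 4 < Nat.card TQ
        omega) hv hvT hv1 h4 hvC (fun t ht w hw => CS_stable (hTN ht) hw) hU }

end Cfsg.Agent.OddCyclic.Bc.Line
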