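import Cfsg.Agent.OddCyclic.Bc.Defs
import Cfsg.Agent.OddCyclic.Bc.NFCases

/-!
# S0342, leaf [Bc], type (b): the module frame without `ck`

* `MF0` : `Defs.MF` without `ck`;  `NF0` : `MF0` and no FF-offenders;
* `MF0.of_mf`, `MF0.mf`;  `NF0.nff0`, `NF0.cases` ((1.3), (1.4) of blueprints/S0342-Bc-helper108.md).
-/

set_option autoImplicit false
set_option linter.unusedSectionVars false

namespace Cfsg.Agent.OddCyclic.Bc.MFZero

open Subgroup Cfsg
open Cfsg.Agent.OddCyclic.T1Defs Cfsg.Agent.OddCyclic.T1Module Cfsg.Agent.OddCyclic.FFBasic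
open Cfsg.Agent.OddCyclic.PumpMain (KZero)

variable {H : Type*} [Group H] {V : Type*} [CommGroup V]

/-- the module frame without `ck` -/
structure MF0 (ρ : H →* MulAut V) (S T O E : Subgroup H) (ξ : H) (H₁ : Subgroup V) : Prop where
  cyc : OddCyc H
  simple : ∀ J : Subgroup H, IsSimpleGroup J → (∃ x y : J, x * y ≠ y * x) → KZero J
  core : ∀ D : Subgroup H, D.Normal → IsPGroup 2 D → D = ⊥
  inj : Function.Injective ρ
  sq : ∀ v : V, v * v = 1
  /-- `S` is a Sylow 2-subgroup of `H` -/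
  two : IsPGroup 2 S
  index : ¬ 2 ∣ S.index
  T_le : T ≤ S
  O_le : O ≤ T
  T_norm : T ≤ normalizer (O : Set H)
  ξ_norm : ξ ∈ normalizer (O : Set H)
  ξ3 : orderOf ξ = 3
  rel : O.relIndex T = 2
  inv : ∀ t ∈ T, t ∉ O → t * ξ * t⁻¹ * ξ ∈ O
  E_le : E ≤ T
  E_sq : ∀ e ∈ E, e * e = 1
  E_not : ¬ E ≤ O
  H₁_le : H₁ ≤ CS ρ E
  H₁_T : ∀ t ∈ T, ∀ v ∈ H₁, ρ t v ∈ H₁
  ind : H₁.index ≤ 2 * Nat.card E
  /-- (P*) -/
  three : ∀ y : H, orderOf y = 3 → ∀ F : Subgroup V, F ≤ H₁ → (∀ v ∈ F, ρ y v ∈ F) → ∀ v ∈ F, ρ y v = v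
  /-- `V = ⟨C_V(S)^H⟩` -/
  gen : ∀ W : Subgroup V, CS ρ S ≤ W → (∀ h : H, ∀ w ∈ W, ρ h w ∈ W) → W = ⊤

/-- `MF0` without FF-offenders -/
structure NF0 (ρ : H →* MulAut V) (S T O E : Subgroup H) (ξ : H) (H₁ : Subgroup V) : Prop extends
    MF0 ρ S T O E ξ H₁ where
  nff : ∀ A : Subgroup H, A ≠ ⊥ → (∀ a ∈ A, a * a = 1) → 2 * Nat.card A ≤ (CS ρ A).index

variable {ρ : H →* MulAut V} {S T O E : Subgroup H} {ξ : H} {H₁ : Subgroup V}

theorem MF0.of_mf (h : Defs.MF ρ S T O E ξ H₁) : MF0 ρ S T O E ξ H₁ :=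
  { cyc := h.cyc, simple := h.simple, core := h.core, inj := h.inj, sq := h.sq, two := h.two, index := h.index,
    T_le := h.T_le, O_le := h.O_le, T_norm := h.T_norm, ξ_norm := h.ξ_norm, ξ3 := h.ξ3, rel := h.rel, inv := h.inv,
    E_le := h.E_le, E_sq := h.E_sq, E_not := h.E_not, H₁_le := h.H₁_le, H₁_T := h.H₁_T, ind := h.ind,
    three := h.three, gen := h.gen }

theorem NF0.of_nf (h : Defs.NF ρ S T O E ξ H₁) : NF0 ρ S T O E ξ H₁ :=
  { MF0.of_mf h.toMF with nff := h.nff }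

/-- an abelian simple group containing an element of order 3 is generated by it -/
theorem eq_zpowers {K : Subgroup H} (hs : IsSimpleGroup K) (hc : ∀ a b : K, a * b = b * a) {ξ : H} (hξ : ξ ∈ K)
    (h3 : orderOf ξ = 3) : K = zpowers ξ := by
  apply le_antisymm _ (zpowers_le.2 hξ)
  have hn : ((zpowers ξ).subgroupOf K).Normal := by
    refine ⟨fun a ha g => ?_⟩
    rw [hc g a, mul_inv_cancel_right]
    exact ha
  rcases hs.eq_bot_or_eq_top_of_normal _ hn with h1 | h1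
  · exfalso
    have h2 : (⟨ξ, hξ⟩ : K) ∈ (zpowers ξ).subgroupOf K := mem_subgroupOf.2 (mem_zpowers ξ)
    rw [h1, Subgroup.mem_bot] at h2
    have h4 : ξ = 1 := congrArg Subtype.val h2
    rw [h4, orderOf_one] at h3
    omega
  · exact subgroupOf_eq_top.1 h1

/-- `MF` if `⟨ξ⟩` is not normal -/
theorem MF0.mf (h : MF0 ρ S T O E ξ H₁) (hn : ¬ (zpowers ξ).Normal)
    (hck : ∀ K : Subgroup H, K.Normal → IsSimpleGroup K → (∃ a b : K, a * b ≠ b * a) → ξ ∈ K → CS ρ K = ⊥) :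
    Defs.MF ρ S T O E ξ H₁ :=
  { cyc := h.cyc, simple := h.simple, core := h.core, inj := h.inj, sq := h.sq, two := h.two, index := h.index,
    T_le := h.T_le, O_le := h.O_le, T_norm := h.T_norm, ξ_norm := h.ξ_norm, ξ3 := h.ξ3, rel := h.rel, inv := h.inv,
    E_le := h.E_le, E_sq := h.E_sq, E_not := h.E_not, H₁_le := h.H₁_le, H₁_T := h.H₁_T, ind := h.ind,
    three := h.three, gen := h.gen
    ck := by
      intro K hK hs hξ
      by_cases hc : ∃ a b : K, a * b ≠ b * a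
      · exact hck K hK hs hc hξ
      · exfalso
        push Not at hc
        apply hn
        rw [← eq_zpowers hs hc hξ h.ξ3]
        exact hK }

theorem MF0.E_ne (h : MF0 ρ S T O E ξ H₁) : E ≠ ⊥ := fun he => h.E_not (by rw [he]; exact bot_le)

theorem MF0.exists_e (h : MF0 ρ S T O E ξ H₁) : ∃ e ∈ E, e ∉ O := by
  by_contra hcon
  push Not at hcon
  exact h.E_not hcon

theorem NF0.H₁_eq [Finite V] (h : NF0 ρ S T O E ξ H₁) : H₁ = CS ρ E := by
  refine le_antisymm h.H₁_le ?_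
  have h1 := h.nff E h.E_ne h.E_sq
  have h2 := h.ind
  have h3 : (CS ρ E).index = H₁.index := by
    apply Nat.dvd_antisymm (index_dvd_of_le h.H₁_le)
    rw [le_antisymm (h2.trans h1) ?_]
    have h4 := Nat.le_of_dvd (Nat.pos_of_ne_zero H₁.index_ne_zero_of_finite) (index_dvd_of_le h.H₁_le)
    exact h4
  have h5 := H₁.card_mul_index
  have h6 := (CS ρ E).card_mul_index
  rw [← h6, h3] at h5
  have h7 : Nat.card H₁ = Nat.card (CS ρ E) :=
    Nat.eq_of_mul_eq_mul_right (Nat.pos_of_ne_zero H₁.index_ne_zero_of_finite) h5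
  exact (Subgroup.eq_of_le_of_card_ge h.H₁_le h7.ge).ge

theorem NF0.ind_eq [Finite V] (h : NF0 ρ S T O E ξ H₁) : (CS ρ E).index = 2 * Nat.card E := by
  refine le_antisymm ?_ (h.nff E h.E_ne h.E_sq)
  rw [← h.H₁_eq]
  exact h.ind

/-- `Nff0` from `NF0` -/
theorem NF0.nff0 [Finite H] [Finite V] (h : NF0 ρ S T O E ξ H₁) : NF.Nff0 ρ S O T E ξ where
  cyc := h.cyc
  kz := h.simple
  core := by
    have : Fact (Nat.Prime 2) := ⟨Nat.prime_two⟩
    exact h.core _ (Cfsg.Agent.Lib.Cores.pCore_normal 2) (Cfsg.Agent.Lib.Cores.pCore_isPGroup 2)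
  sq := h.sq
  inj := h.inj
  S_two := h.two
  S_syl := h.index
  gen := h.gen
  O_le := h.O_le
  T_le := h.T_le
  rel := h.rel
  x3 := h.ξ3
  x_norm := h.ξ_norm
  inv := h.inv
  E_le := h.E_le
  E_not := h.E_not
  E_sq := h.E_sq
  ind := h.ind_eq
  nff := by
    intro A hA hA2
    have h1 := h.nff A hA hA2
    have h2 : 0 < Nat.card A := Nat.card_pos
    omega
  three := by
    intro y hy F hF hy' v hv
    exact h.three y hy F (by rw [h.H₁_eq]; exact hF) hy' v hv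

/-- **(1.3), (1.4)** without `ck` -/
theorem NF0.cases [Finite H] [Finite V] (h : NF0 ρ S T O E ξ H₁) :
    (∃ e, NF.OutA ρ E ξ e) ∨ ∃ K, NF.OutB E ξ K := NFCases.cases0 h.nff0

end Cfsg.Agent.OddCyclic.Bc.MFZero
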