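import Cfsg.Agent.OddCyclic.Bc.NF
import Cfsg.Agent.OddCyclic.FFPsl

/-!
# S0342, leaf [Bc], (1.1) of blueprints/S0342-Bc-helper108.md

* `rel_four`: an elementary abelian `A` normalising, but not centralising, `⟨y⟩` of prime order `r ≥ 5`:
  `|A : C_A(y)| = 2` and `|C_V(C_A(y)) : C_V(A)| ≥ 4`;
* `five`: in the NFF setting `E` centralises the normal subgroups of prime order `r ≥ 5`.
-/

set_option autoImplicit false
set_option linter.unusedSectionVars false

namespace Cfsg.Agent.OddCyclic.Bc.NFFive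

open Subgroup Cfsg Cfsg.Agent.OddCyclic.T1Defs Cfsg.Agent.OddCyclic.T1Module Cfsg.Agent.OddCyclic.FFBasic
  Cfsg.Agent.OddCyclic.FFRed Cfsg.Agent.OddCyclic.CompBasic Cfsg.Agent.OddCyclic.FFSl2 Cfsg.Agent.OddCyclic.Bc.NF
open Cfsg.Agent.OddCyclic.PumpMain (KZero)

variable {H V : Type*} [Group H] [CommGroup V] {ρ : H →* MulAut V} {S O T E A : Subgroup H} {x : H}

/-- the lower bound -/
theorem rel_four [Finite V] (hV : ∀ v : V, v * v = 1) (hA : ∀ a ∈ A, a * a = 1) {y : H} {r : ℕ}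
    (hr : r.Prime) (h5 : 5 ≤ r) (hy : orderOf y = r) (hn : ∀ a ∈ A, a * y * a⁻¹ ∈ Subgroup.zpowers y)
    (hne : ∃ v, ρ y v ≠ v) {a : H} (ha : a ∈ A) (hay : a * y ≠ y * a) :
    (A ⊓ Subgroup.centralizer {y}).relIndex A = 2 ∧
      4 ≤ (CS ρ A).relIndex (CS ρ (A ⊓ Subgroup.centralizer {y})) := by
  set A₀ := A ⊓ Subgroup.centralizer {y} with hA₀
  have hr2 : r ≠ 2 := by omega
  have hodd : Odd (orderOf y) := by rw [hy]; exact hr.odd_of_ne_two hr2
  have hmem : ∀ b, b ∈ A₀ ↔ b ∈ A ∧ b * y = y * b := by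
    intro b
    rw [hA₀, Subgroup.mem_inf, Subgroup.mem_centralizer_singleton_iff]
  have hinv : a * y * a⁻¹ = y⁻¹ := (eq_or_inv hr hy (hA a ha) (hn a ha)).resolve_left hay
  have haA₀ : a ∉ A₀ := fun h => hay ((hmem a).1 h).2
  have hcomm : ∀ {b c : H}, b ∈ A → c ∈ A → b * c = c * b := fun hb hc => comm_of_sq hA hb hc
  have hprod : ∀ b ∈ A, b ∉ A₀ → a * b ∈ A₀ := by
    intro b hb hb0
    have h1 : b * y * b⁻¹ = y⁻¹ := (eq_or_inv hr hy (hA b hb) (hn b hb)).resolve_left fun h =>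
      hb0 ((hmem b).2 ⟨hb, h⟩)
    rw [hmem]
    refine ⟨mul_mem ha hb, ?_⟩
    have h2 : (a * b) * y * (a * b)⁻¹ = y := by
      have : (a * b) * y * (a * b)⁻¹ = a * (b * y * b⁻¹) * a⁻¹ := by group
      rw [this, h1]
      have : a * y⁻¹ * a⁻¹ = (a * y * a⁻¹)⁻¹ := by group
      rw [this, hinv, inv_inv]
    exact mul_inv_eq_iff_eq_mul.1 h2
  have hidx : A₀.relIndex A = 2 := by
    rw [Subgroup.relIndex, Subgroup.index_eq_two_iff]
    refine ⟨⟨a, ha⟩, fun b => ?_⟩
    rw [Subgroup.mem_subgroupOf, Subgroup.mem_subgroupOf]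
    show Xor ((b : H) * a ∈ A₀) ((b : H) ∈ A₀)
    by_cases hb : (b : H) ∈ A₀
    · refine Or.inr ⟨hb, fun h => haA₀ ?_⟩
      have := mul_mem (inv_mem hb) h
      rwa [inv_mul_cancel_left] at this
    · refine Or.inl ⟨?_, hb⟩
      rw [hcomm b.2 ha]
      exact hprod b b.2 hb
  refine ⟨hidx, ?_⟩
  have hle : A₀ ≤ A := inf_le_left
  -- the normaliser of `A₀`
  set N := Subgroup.normalizer (A₀ : Set H) with hN
  have hst : ∀ n ∈ N, ∀ w ∈ CS ρ A₀, ρ n w ∈ CS ρ A₀ := fun n hn w hw => CS_stable hn hw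
  have haN : a ∈ N := by
    rw [hN, Subgroup.mem_normalizer_iff]
    intro b
    constructor
    · intro hb
      have : a * b * a⁻¹ = b := by rw [hcomm ha (hle hb)]; group
      rwa [this]
    · intro hb
      have h1 : a * b * a⁻¹ ∈ A := hle hb
      have h2 : b ∈ A := by
        have := mul_mem (mul_mem (inv_mem ha) h1) ha
        have e : a⁻¹ * (a * b * a⁻¹) * a = b := by group
        rwa [e] at this
      have : a * b * a⁻¹ = b := by rw [hcomm ha h2]; group
      rwa [this] at hb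
  have hyN : y ∈ N := by
    refine Subgroup.centralizer_le_normalizer _ ?_
    rw [Subgroup.mem_centralizer_iff]
    intro b hb
    exact ((hmem b).1 hb).2
  let ρ' := res ρ N (CS ρ A₀) hst
  let a' : N := ⟨a, haN⟩
  let y' : N := ⟨y, hyN⟩
  have hy'o : orderOf y' = r := by rw [← hy, ← Subgroup.orderOf_coe]
  have hV' : ∀ v : CS ρ A₀, v * v = 1 := fun v => Subtype.ext (hV v)
  have hinv' : a' * y' * a'⁻¹ = y'⁻¹ := Subtype.ext hinv
  have h2g : IsPGroup 2 A₀ := fun b => ⟨1, by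
    rw [pow_one, pow_two]; exact Subtype.ext (hA b (hle b.2))⟩
  obtain ⟨v, hv, hyv⟩ := axb (ρ := ρ) hV h2g hodd (fun b hb => ((hmem b).1 hb).2) hne
  have hne' : ∃ v, ρ' y' v ≠ v := ⟨⟨v, hv⟩, fun h => hyv (congrArg Subtype.val h)⟩
  have hfa : fx ρ' a' = (CS ρ A).subgroupOf (CS ρ A₀) := by
    rw [show fx ρ' a' = (fx ρ a).subgroupOf (CS ρ A₀) from fx_res hst a']
    ext w
    rw [Subgroup.mem_subgroupOf, Subgroup.mem_subgroupOf, mem_fx, mem_CS]
    constructor
    · intro h b hb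
      by_cases hb0 : b ∈ A₀
      · exact w.2 b hb0
      · have h1 := w.2 _ (hprod b hb hb0)
        have h2 : a * b * a = b := by
          rw [hcomm ha hb, mul_assoc, hA a ha, mul_one]
        have h3 : (w : V) ∈ fx ρ (a * b * a) := by
          refine fx_mul ρ ?_ ?_
          · exact h1
          · exact h
        rwa [h2] at h3
    · intro h
      exact h a ha
  have h12 : (CS ρ A).relIndex (CS ρ A₀) = (fx ρ' a').index := by rw [hfa]; rfl
  rw [h12]
  obtain ⟨d, hd, h5', h6⟩ := prim (ρ := ρ') hV' hr hr2 hy'o hne'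
  obtain ⟨e, he⟩ := prim_even (ρ := ρ') hV' (a := a') (y := y') (Subtype.ext (hA a ha))
    (by rw [hy'o, ← hy]; exact hodd) hinv'
  have h7 : d = 2 * e := by
    rw [h5', ← pow_mul] at he
    rw [Nat.pow_right_injective (le_refl 2) he, mul_comm]
  have he2 : 2 ≤ e := by
    by_contra hcon
    have h8 : e = 0 ∨ e = 1 := by omega
    rcases h8 with rfl | rfl
    · omega
    · rw [h7] at h6
      have h9 : r ∣ 3 := h6
      have := Nat.le_of_dvd (by norm_num) h9
      omega
  have h8 := half' ρ' (a := a') (y := y') (by rw [hy'o, ← hy]; exact hodd) hinv'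
  have h9 : (2 ^ 2) ^ 2 ≤ (fx ρ' a').index ^ 2 := by
    refine le_trans ?_ h8
    rw [he]
    exact Nat.pow_le_pow_left (Nat.pow_le_pow_right (by norm_num) he2) 2
  exact (Nat.pow_le_pow_iff_left (by norm_num)).1 h9

/-- an element of order 3 normalising a subgroup of order 5 centralises it -/
theorem comm_five {y z : H} (hy : orderOf y = 5) (hz : orderOf z = 3) (hn : z * y * z⁻¹ ∈ zpowers y) :
    z * y = y * z := by
  obtain ⟨k, hk⟩ := hn
  have hk' : y ^ k = z * y * z⁻¹ := hk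
  have h1 : z * z * z = 1 := by
    have := pow_orderOf_eq_one z
    rwa [hz, pow_succ, pow_two] at this
  have h2 : ((y ^ k) ^ k) ^ k = y := by
    have e1 : (y ^ k) ^ k = z * (z * y * z⁻¹) * z⁻¹ := by
      rw [← hk', ← conj_zpow, ← hk']
    have e2 : ((y ^ k) ^ k) ^ k = z * (z * (z * y * z⁻¹) * z⁻¹) * z⁻¹ := by
      have e3 : z * (z * y * z⁻¹) * z⁻¹ = z * y ^ k * z⁻¹ := by rw [hk']
      rw [e1, e3, conj_zpow, e1, hk']
    rw [e2]
    have : z * (z * (z * y * z⁻¹) * z⁻¹) * z⁻¹ = (z * z * z) * y * (z * z * z)⁻¹ := by group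
    rw [this, h1]; group
  rw [← zpow_mul, ← zpow_mul, ← mul_assoc] at h2
  have h3 : y ^ (k * k * k - 1) = 1 := by rw [zpow_sub, h2, zpow_one, mul_inv_cancel]
  have h4 : (5 : ℤ) ∣ k * k * k - 1 := by
    have := orderOf_dvd_iff_zpow_eq_one.2 h3
    rw [hy] at this
    exact_mod_cast this
  have h5 : (5 : ℤ) ∣ k - 1 := by
    have h6 : k % 5 = 0 ∨ k % 5 = 1 ∨ k % 5 = 2 ∨ k % 5 = 3 ∨ k % 5 = 4 := by omega
    have h7 : (k * k * k - 1) % 5 = 0 := Int.emod_eq_zero_of_dvd h4
    rcases h6 with h | h | h | h | h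
    · exfalso; simp [Int.sub_emod, Int.mul_emod, h] at h7
    · omega
    · exfalso; simp [Int.sub_emod, Int.mul_emod, h] at h7
    · exfalso; simp [Int.sub_emod, Int.mul_emod, h] at h7
    · exfalso; simp [Int.sub_emod, Int.mul_emod, h] at h7
  have h6 : y ^ (k - 1) = 1 := by
    apply orderOf_dvd_iff_zpow_eq_one.1
    rw [hy]
    exact_mod_cast h5
  rw [zpow_sub, zpow_one, mul_inv_eq_one, hk'] at h6
  rwa [mul_inv_eq_iff_eq_mul] at h6

/-- the elements of a group of order 2 -/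
theorem eq_or_of_card_two {E : Subgroup H} (h : Nat.card E = 2) {e : H} (he : e ∈ E) (he1 : e ≠ 1) :
    ∀ b ∈ E, b = 1 ∨ b = e := by
  intro b hb
  by_contra hcon
  push Not at hcon
  obtain ⟨c, -, hc⟩ := (Nat.card_eq_two_iff' (⟨1, one_mem _⟩ : E)).1 h
  have h1 := hc ⟨e, he⟩ (fun h' => he1 (congrArg Subtype.val h'))
  have h2 := hc ⟨b, hb⟩ (fun h' => hcon.1 (congrArg Subtype.val h'))
  exact hcon.2 (congrArg Subtype.val (h2.trans h1.symm))

/-- **(1.1)** -/
theorem five0 [Finite H] [Finite V] (h : Nff0 ρ S O T E x) {y : H} {r : ℕ} (hr : r.Prime) (h5 : 5 ≤ r)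
    (hy : orderOf y = r) (hyn : (zpowers y).Normal) : ∀ a ∈ E, a * y = y * a := by
  by_contra hcon
  push Not at hcon
  obtain ⟨a, ha, hay⟩ := hcon
  have hr2 : r ≠ 2 := by omega
  have hy1 : y ≠ 1 := by
    rintro rfl
    rw [orderOf_one] at hy
    omega
  have hn : ∀ a ∈ E, a * y * a⁻¹ ∈ zpowers y := fun b _ => hyn.conj_mem y (mem_zpowers y) b
  obtain ⟨h1, h2⟩ := rel_four (ρ := ρ) h.sq h.E_sq hr h5 hy hn (h.ne hy1) ha hay
  set E₀ := E ⊓ centralizer {y} with hE₀
  have hle : E₀ ≤ E := inf_le_left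
  have hcard := card_mul_relIndex hle
  rw [h1] at hcard
  have hidx : (CS ρ E).relIndex (CS ρ E₀) * (CS ρ E₀).index = (CS ρ E).index :=
    Subgroup.relIndex_mul_index (CS_anti hle)
  by_cases h0 : E₀ = ⊥
  · -- `|E| = 2`
    rw [h0, Subgroup.card_bot] at hcard
    obtain ⟨e, he, heO⟩ := h.exists_e
    have he1 : e ≠ 1 := fun h' => heO (by rw [h']; exact one_mem _)
    have hEe : ∀ b ∈ E, b = 1 ∨ b = e := eq_or_of_card_two (by omega) he he1
    have hCS : CS ρ E = fx ρ e := by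
      apply le_antisymm (CS_le_fx he)
      intro v hv b hb
      rcases hEe b hb with rfl | rfl
      · rw [map_one]; rfl
      · exact hv
    have hi : (fx ρ e).index = 4 := by
      rw [← hCS, h.ind, ← hcard]
    have hae : a = e := by
      rcases hEe a ha with h' | h'
      · exfalso; apply hay; rw [h', one_mul, mul_one]
      · exact h'
    rw [hae] at hay
    have hee := h.E_sq e he
    have hinv : e * y * e⁻¹ = y⁻¹ := (eq_or_inv hr hy hee (hn e he)).resolve_left hay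
    obtain ⟨d, hd, h3, h4⟩ := prim (ρ := ρ) h.sq hr hr2 hy (h.ne hy1)
    obtain ⟨k, hk⟩ := prim_even (ρ := ρ) h.sq hee (by rw [hy]; exact hr.odd_of_ne_two hr2) hinv
    have h6 : d = 2 * k := by
      rw [h3, ← pow_mul] at hk
      rw [Nat.pow_right_injective (le_refl 2) hk, mul_comm]
    have h7 := half' ρ (a := e) (y := y) (by rw [hy]; exact hr.odd_of_ne_two hr2) hinv
    rw [hi, h3] at h7
    have h8 : d ≤ 4 := (Nat.pow_le_pow_iff_right (by norm_num : 1 < 2)).1 (by
      refine h7.trans (le_of_eq (by norm_num)))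
    have hr5 : r = 5 := by
      have : k = 1 ∨ k = 2 := by omega
      rcases this with rfl | rfl
      · rw [h6] at h4
        have h9 : r ∣ 3 := h4
        have := Nat.le_of_dvd (by norm_num) h9
        omega
      · rw [h6] at h4
        have h9 : r ∣ 3 * 5 := h4
        rcases (Nat.Prime.dvd_mul hr).1 h9 with h10 | h10
        · have := Nat.le_of_dvd (by norm_num) h10
          omega
        · exact (Nat.prime_dvd_prime_iff_eq hr Nat.prime_five).1 h10
    subst hr5
    obtain ⟨z, -, hz, hez⟩ := h.exists_inv he heO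
    have hzy : z * y = y * z := comm_five hy hz (hyn.conj_mem y (mem_zpowers y) z)
    have hc : Commute z y := hzy
    have ho : orderOf (z * y) = 15 := by
      rw [hc.orderOf_mul_eq_mul_orderOf_of_coprime (by rw [hy, hz]; norm_num), hy, hz]
    have hz1 : z ≠ 1 := by
      rintro rfl
      rw [orderOf_one] at hz
      omega
    have hz3 : z ^ 3 = 1 := by rw [← hz]; exact pow_orderOf_eq_one z
    have hy5 : y ^ 5 = 1 := by rw [← hy]; exact pow_orderOf_eq_one y
    refine FFPsl.kill15 h.sq ho (a := e) ?_ ?_ ?_ hi.le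
    · have h9 : e * (z * y) * e⁻¹ = (e * z * e⁻¹) * (e * y * e⁻¹) := by group
      rw [h9, hez, hinv, ← mul_inv_rev, hzy]
    · apply h.ne
      rw [hc.mul_pow, hz3, one_mul]
      intro h9
      have := orderOf_dvd_of_pow_eq_one h9
      rw [hy] at this
      norm_num at this
    · apply h.ne
      rw [hc.mul_pow, hy5, mul_one]
      intro h9
      have := orderOf_dvd_of_pow_eq_one h9
      rw [hz] at this
      norm_num at this
  · have h3 := h.nff2 h0 (fun b hb => h.E_sq b (hle hb))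
    have h4 : 4 * (2 * Nat.card E₀) ≤ 2 * Nat.card E := by
      rw [← h.ind, ← hidx]
      exact Nat.mul_le_mul h2 h3
    have h5 : 0 < Nat.card E₀ := Nat.card_pos
    omega

/-- (1.1) for `Nff` -/
theorem five [Finite H] [Finite V] (h : Nff ρ S O T E x) {y : H} {r : ℕ} (hr : r.Prime) (h5 : 5 ≤ r)
    (hy : orderOf y = r) (hyn : (zpowers y).Normal) : ∀ a ∈ E, a * y = y * a :=
  five0 h.toNff0 hr h5 hy hyn

end Cfsg.Agent.OddCyclic.Bc.NFFive
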