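import Mathlib.GroupTheory.SpecificGroups.Alternating
import Mathlib.Tactic.DeriveFintype

/-!
# S0342, leaf [Bc], (iv) of (1.6) of blueprints/S0342-Bc-helper108.md: permutations of five letters
-/

set_option autoImplicit false

namespace Cfsg.Agent.OddCyclic.Bc.OneB5Perm

open Equiv

/-- the four-group fixing `0` is `⟨A0, A1⟩` -/
def A0 : Perm (Fin 5) := swap 1 2 * swap 3 4

def A1 : Perm (Fin 5) := swap 1 3 * swap 2 4

/-- an element of order 3 fixing `0` and `1` -/
def Y0 : Perm (Fin 5) := swap 2 3 * swap 3 4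

/-- an element fixing `1` and moving `0` to `2` -/
def S1 : Perm (Fin 5) := swap 0 2 * swap 3 4

/-- elements moving `0` to `i` -/
def T : Fin 5 → Perm (Fin 5) :=
  ![1, swap 0 1 * swap 2 3, swap 0 2 * swap 1 3, swap 0 3 * swap 1 2, swap 0 4 * swap 1 2]

theorem signA0 : A0 ∈ alternatingGroup (Fin 5) := Perm.mem_alternatingGroup.2 (by decide +kernel)
theorem signA1 : A1 ∈ alternatingGroup (Fin 5) := Perm.mem_alternatingGroup.2 (by decide +kernel)
theorem signY0 : Y0 ∈ alternatingGroup (Fin 5) := Perm.mem_alternatingGroup.2 (by decide +kernel)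
theorem signS1 : S1 ∈ alternatingGroup (Fin 5) := Perm.mem_alternatingGroup.2 (by decide +kernel)
theorem signT (i : Fin 5) : T i ∈ alternatingGroup (Fin 5) :=
  Perm.mem_alternatingGroup.2 ((show ∀ i, Perm.sign (T i) = 1 by decide +kernel) i)

theorem T_zero : ∀ i, T i 0 = i := by decide +kernel
theorem S1_zero : S1 0 = 2 := by decide +kernel
theorem S1_one : S1 1 = 1 := by decide +kernel
theorem Y0_zero : Y0 0 = 0 := by decide +kernel
theorem Y0_one : Y0 1 = 1 := by decide +kernel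
theorem A0_zero : A0 0 = 0 := by decide +kernel
theorem A1_zero : A1 0 = 0 := by decide +kernel
theorem A0_sq : A0 * A0 = 1 := by decide +kernel
theorem A1_sq : A1 * A1 = 1 := by decide +kernel
theorem A_comm : A0 * A1 = A1 * A0 := by decide +kernel
theorem A0_ne : A0 ≠ 1 := by decide +kernel
theorem Y0_three : Y0 ^ 3 = 1 := by decide +kernel
theorem Y0_ne : Y0 ≠ 1 := by decide +kernel
theorem Y0_A0 : Y0⁻¹ * A0 * Y0 = A0 * A1 := by decide +kernel
theorem Y0_A1 : Y0⁻¹ * A1 * Y0 = A0 := by decide +kernel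

set_option maxRecDepth 100000 in
theorem inv : ∀ a : Perm (Fin 5), Perm.sign a = 1 → a * a = 1 → a ≠ 1 →
    ∃ g : Perm (Fin 5), Perm.sign g = 1 ∧ g * a * g⁻¹ = A0 := by decide +kernel

set_option maxRecDepth 100000 in
theorem cent : ∀ b : Perm (Fin 5), Perm.sign b = 1 → b * b = 1 → b ≠ 1 → b ≠ A0 → b * A0 = A0 * b →
    b = A1 ∨ b = A0 * A1 := by decide +kernel

set_option maxRecDepth 100000 in
theorem stab : ∀ g : Perm (Fin 5), Perm.sign g = 1 → g 0 = 0 → ∃ i : Fin 2, ∃ j : Fin 2, ∃ k : Fin 3,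
    g = A0 ^ i.val * A1 ^ j.val * Y0 ^ k.val := by decide +kernel

set_option maxRecDepth 100000 in
theorem two : ∀ i j : Fin 5, i ≠ j → ∃ g : Perm (Fin 5), Perm.sign g = 1 ∧ g i = 0 ∧ g j = 1 := by decide +kernel

set_option maxRecDepth 100000 in
theorem gen : ∀ k : Fin 5, k ≠ 0 → ∃ r : Perm (Fin 5), Perm.sign r = 1 ∧ r 0 = 0 ∧ r 2 = k := by decide +kernel

end Cfsg.Agent.OddCyclic.Bc.OneB5Perm
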