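import Cfsg.Agent.OddCyclic.Bc.NF

/-!
# S0342, leaf [Bc], (G) and (1.7) of blueprints/S0342-Bc-helper108.md

* `comm_top` (G): in the NFF setting `V = [V, K]` for `K ⊴ H` with `C_V(K) = 1`;
* `a5_irred`, `a5_card` (1.7): `K = Alt(5)`, `C_V(K) = 1`, `V = [V, K]`, involutions of index at most 4: then `V` is
  irreducible of order 16.
-/

set_option autoImplicit false
set_option linter.unusedSectionVars false

namespace Cfsg.Agent.OddCyclic.Bc.OneSeven

open Subgroup Cfsg.Agent.OddCyclic.T1Module Cfsg.Agent.OddCyclic.FFBasic Cfsg.Agent.OddCyclic.FFRed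
  Cfsg.Agent.OddCyclic.FFSl2 Cfsg.Agent.OddCyclic.Bc.NF

/-! ### (G) -/

section gen

variable {H V : Type*} [Group H] [CommGroup V] {ρ : H →* MulAut V} {S O T E K : Subgroup H} {x : H}

/-- `[V, K]` -/
def vk (ρ : H →* MulAut V) (K : Subgroup H) : Subgroup V := closure {w | ∃ k ∈ K, ∃ v, w = ρ k v * v⁻¹}

theorem mem_vk {k : H} (hk : k ∈ K) (v : V) : ρ k v * v⁻¹ ∈ vk ρ K := subset_closure ⟨k, hk, v, rfl⟩

theorem vk_inv [hK : K.Normal] (g : H) : ∀ w ∈ vk ρ K, ρ g w ∈ vk ρ K := by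
  intro w hw
  have h2 : vk ρ K ≤ (vk ρ K).comap (ρ g : V ≃* V).toMonoidHom := by
    rw [vk, closure_le]
    rintro _ ⟨k, hk, v, rfl⟩
    change ρ g (ρ k v * v⁻¹) ∈ vk ρ K
    refine subset_closure ⟨g * k * g⁻¹, hK.conj_mem k hk g, ρ g v, ?_⟩
    rw [map_mul (ρ g), map_inv (ρ g), ← MulAut.mul_apply, ← MulAut.mul_apply, ← map_mul, ← map_mul,
      inv_mul_cancel_right]
  exact h2 hw

theorem vk_le {W : Subgroup V} (h : ∀ k ∈ K, ∀ v, ρ k v * v⁻¹ ∈ W) : vk ρ K ≤ W := by
  rw [vk, closure_le]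
  rintro _ ⟨k, hk, v, rfl⟩
  exact h k hk v

/-- a vector fixed by a subgroup `L ≤ K` of odd index lies in `[V, K]` if `C_V(K) = 1` -/
theorem mem_vk_of_fixed [Finite H] (hV : ∀ v : V, v * v = 1) (hK : CS ρ K = ⊥) {L : Subgroup K}
    (hL : ¬ 2 ∣ L.index) {z : V} (hz : ∀ l ∈ L, ρ (l : H) z = z) : z ∈ vk ρ K := by
  classical
  have : Fintype (K ⧸ L) := Fintype.ofFinite _
  let f : K ⧸ L → V := Quotient.lift (fun k : K => ρ (k : H) z) (by
    intro a b hab
    have h1 : a⁻¹ * b ∈ L := QuotientGroup.leftRel_apply.1 hab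
    have h2 := hz _ h1
    have h3 : (b : H) = a * ((a⁻¹ * b : K) : H) := by
      rw [Subgroup.coe_mul, Subgroup.coe_inv, mul_inv_cancel_left]
    change ρ (a : H) z = ρ (b : H) z
    rw [h3, map_mul, MulAut.mul_apply, h2])
  have hf : ∀ k : K, f (QuotientGroup.mk k) = ρ (k : H) z := fun _ => rfl
  have hP : (∏ q, f q) ∈ CS ρ K := by
    intro k hk
    rw [map_prod]
    refine Fintype.prod_bijective (fun q => (⟨k, hk⟩ : K) • q) (MulAction.bijective _) _ _ ?_
    intro q
    obtain ⟨a, rfl⟩ := QuotientGroup.mk_surjective q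
    rw [MulAction.Quotient.smul_mk, hf, hf, smul_eq_mul, Subgroup.coe_mul, map_mul]
    rfl
  rw [hK, mem_bot] at hP
  have h1 : ∀ q, QuotientGroup.mk' (vk ρ K) (f q) = QuotientGroup.mk' (vk ρ K) z := by
    intro q
    obtain ⟨a, rfl⟩ := QuotientGroup.mk_surjective q
    rw [hf, QuotientGroup.mk'_eq_mk']
    refine ⟨(ρ (a : H) z * z⁻¹)⁻¹, inv_mem (mem_vk a.2 z), ?_⟩
    rw [mul_inv_rev, inv_inv, mul_comm z, mul_inv_cancel_left]
  have h2 := congrArg (QuotientGroup.mk' (vk ρ K)) hP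
  rw [map_prod, map_one, Finset.prod_congr rfl (fun q _ => h1 q), Finset.prod_const, Finset.card_univ,
    ← Nat.card_eq_fintype_card, ← Subgroup.index, ← map_pow] at h2
  have h3 : z ^ L.index = z := by
    obtain ⟨m, hm⟩ : Odd L.index := Nat.not_even_iff_odd.1 (fun h => hL h.two_dvd)
    rw [hm, pow_succ, pow_mul, pow_two, hV, one_pow, one_mul]
  rw [h3] at h2
  exact (QuotientGroup.eq_one_iff z).1 h2

/-- **(G)** -/
theorem comm_top [Finite H] [Finite V] (h : Nff ρ S O T E x) [K.Normal] (hK : CS ρ K = ⊥)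
    {W : Subgroup V} (hW : ∀ k ∈ K, ∀ v, ρ k v * v⁻¹ ∈ W) : W = ⊤ := by
  rw [eq_top_iff, ← h.gen (vk ρ K) ?_ vk_inv]
  · exact vk_le hW
  · intro z hz
    refine mem_vk_of_fixed h.sq hK (L := S.subgroupOf K) ?_ (fun l hl => hz _ hl)
    intro h2
    apply h.S_syl
    have h3 : S.relIndex K ∣ S.index := by
      have e1 := card_mul_relIndex (inf_le_left : S ⊓ K ≤ S)
      have e2 := card_mul_relIndex (inf_le_right : S ⊓ K ≤ K)
      have e3 := card_mul_relIndex (le_sup_right : K ≤ S ⊔ K)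
      have e4 := card_mul_relIndex (le_sup_left : S ≤ S ⊔ K)
      rw [Subgroup.inf_relIndex_left] at e1
      rw [Subgroup.inf_relIndex_right] at e2
      rw [Subgroup.relIndex_sup_right] at e3
      have e5 : Nat.card S * S.relIndex K = Nat.card S * S.relIndex (S ⊔ K) := by
        rw [e4, ← e3, ← e1, ← e2]
        ring
      have e6 := Nat.eq_of_mul_eq_mul_left Nat.card_pos e5
      rw [e6, ← Subgroup.relIndex_mul_index (le_sup_left : S ≤ S ⊔ K)]
      exact dvd_mul_right _ _
    exact h2.trans h3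

end gen

/-! ### (1.7) -/

namespace Perm5

open Equiv

/-- the five-cycle -/
def Y : Perm (Fin 5) := finRotate 5

/-- the involution inverting it -/
def R : Perm (Fin 5) := swap 1 4 * swap 2 3

/-- an involution not normalising `⟨Y⟩` -/
def T : Perm (Fin 5) := swap 0 1 * swap 2 3

/-- coset representatives of the dihedral group of order ten in `Alt(5)` -/
def G : Fin 6 → Perm (Fin 5) := ![1, T, Y * T, Y * Y * T, Y * Y * Y * T, Y * Y * Y * Y * T]

/-- the dihedral group of order ten -/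
def D (d : Fin 10) : Perm (Fin 5) := Y ^ (d.val % 5) * R ^ (d.val / 5)

set_option maxRecDepth 100000 in
theorem cos : ∀ a : Perm (Fin 5), Perm.sign a = 1 → ∀ i : Fin 6, ∃ j : Fin 6, ∃ d : Fin 10, a * G i = G j * D d := by
  decide +kernel

set_option maxRecDepth 100000 in
theorem cos_inj : ∀ i j : Fin 6, ∀ d : Fin 10, G i = G j * D d → i = j := by decide +kernel

set_option maxRecDepth 100000 in
theorem D_div : ∀ d : Fin 10, ∀ d' : Fin 10, ∃ d'', (D d')⁻¹ * D d = D d'' := by decide +kernel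

theorem signY : Y ∈ alternatingGroup (Fin 5) := Perm.mem_alternatingGroup.2 (by decide +kernel)
theorem signR : R ∈ alternatingGroup (Fin 5) := Perm.mem_alternatingGroup.2 (by decide +kernel)
theorem signG (i : Fin 6) : G i ∈ alternatingGroup (Fin 5) :=
  Perm.mem_alternatingGroup.2 ((show ∀ i, Perm.sign (G i) = 1 by decide +kernel) i)
theorem signD (i : Fin 10) : D i ∈ alternatingGroup (Fin 5) := mul_mem (pow_mem signY _) (pow_mem signR _)
theorem YR : R * Y * R⁻¹ = Y⁻¹ := by decide +kernel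
theorem Y5 : Y ^ 5 = 1 := by decide +kernel
theorem Y1 : Y ≠ 1 := by decide +kernel
theorem RR : R * R = 1 := by decide +kernel

end Perm5

section a5

open Perm5

variable {V : Type*} [CommGroup V] {σ : alternatingGroup (Fin 5) →* MulAut V}

/-- the five-cycle as an element of `Alt(5)` -/
def y5 : alternatingGroup (Fin 5) := ⟨Y, signY⟩

/-- the inverting involution -/
def r5 : alternatingGroup (Fin 5) := ⟨R, signR⟩

theorem order_y5 : orderOf y5 = 5 := by
  have : Fact (Nat.Prime 5) := ⟨by norm_num⟩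
  exact orderOf_eq_prime (Subtype.ext Y5) (fun h => Y1 (congrArg Subtype.val h))

theorem y5_ne : y5 ≠ 1 := fun h => Y1 (congrArg Subtype.val h)

theorem r5_inv : r5 * y5 * r5⁻¹ = y5⁻¹ := Subtype.ext YR

theorem r5_sq : r5 * r5 = 1 := Subtype.ext RR

/-- a subgroup of `Alt(5)` normalised by everything and containing the five-cycle is everything -/
theorem eq_top_of_y5 {N : Subgroup (alternatingGroup (Fin 5))} (hN : N.Normal) (hy : y5 ∈ N) : N = ⊤ := by
  have hs : IsSimpleGroup (alternatingGroup (Fin 5)) := alternatingGroup.isSimpleGroup (by simp)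
  rcases hs.eq_bot_or_eq_top_of_normal N hN with h | h
  · rw [h, Subgroup.mem_bot] at hy
    exact absurd hy y5_ne
  · exact h

/-- the five-cycle acts nontrivially on every nontrivial invariant subgroup -/
theorem exists_move (hck : ∀ v, (∀ g, σ g v = v) → v = 1) {W : Subgroup V} (hW : ∀ g, ∀ w ∈ W, σ g w ∈ W)
    (hne : W ≠ ⊥) : ∃ w ∈ W, σ y5 w ≠ w := by
  by_contra hcon
  push Not at hcon
  let N : Subgroup (alternatingGroup (Fin 5)) :=
    { carrier := {g | ∀ w ∈ W, σ g w = w}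
      mul_mem' := by
        intro a b ha hb w hw
        rw [map_mul, MulAut.mul_apply, hb w hw, ha w hw]
      one_mem' := by
        intro w _
        rw [map_one]; rfl
      inv_mem' := by
        intro a ha w hw
        have h1 : σ a (σ a⁻¹ w) = w := by
          rw [← MulAut.mul_apply, ← map_mul, mul_inv_cancel, map_one]; rfl
        rwa [ha _ (hW _ _ hw)] at h1 }
  have hN : N.Normal := ⟨by
    intro a ha g w hw
    rw [map_mul, map_mul, MulAut.mul_apply, MulAut.mul_apply, ha _ (hW _ _ hw), ← MulAut.mul_apply, ← map_mul,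
      mul_inv_cancel, map_one]
    rfl⟩
  have h1 := eq_top_of_y5 hN hcon
  apply hne
  rw [eq_bot_iff]
  intro w hw
  rw [mem_bot]
  apply hck
  intro g
  have h2 : g ∈ N := by rw [h1]; exact mem_top g
  exact h2 w hw

/-- index of the fixed points of the five-cycle on a subgroup on which it acts nontrivially -/
theorem sixteen_le [Finite V] (hV : ∀ v : V, v * v = 1) {W : Subgroup V} (hW : ∀ g, ∀ w ∈ W, σ g w ∈ W)
    (hm : ∃ w ∈ W, σ y5 w ≠ w) : 16 ≤ (fx σ y5).relIndex W := by
  obtain ⟨w, hw, hw1⟩ := hm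
  have hst : ∀ n ∈ (⊤ : Subgroup (alternatingGroup (Fin 5))), ∀ w ∈ W, σ n w ∈ W := fun n _ => hW n
  let τ := res σ ⊤ W hst
  have hy : orderOf (⟨y5, mem_top _⟩ : (⊤ : Subgroup (alternatingGroup (Fin 5)))) = 5 := by
    rw [← Subgroup.orderOf_coe]; exact order_y5
  obtain ⟨d, hd, h1, h2⟩ := prim (ρ := τ) (l := 5) (fun v => Subtype.ext (hV v)) (by norm_num) (by norm_num) hy
    ⟨⟨w, hw⟩, fun h => hw1 (congrArg Subtype.val h)⟩
  have h4 : (fx σ y5).relIndex W = (fx τ ⟨y5, mem_top _⟩).index := by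
    rw [show fx τ ⟨y5, mem_top _⟩ = (fx σ y5).subgroupOf W from fx_res hst ⟨y5, mem_top _⟩]; rfl
  rw [h4, h1]
  have h3 : 4 ≤ d := by
    by_contra hcon
    have : d = 1 ∨ d = 2 ∨ d = 3 := by omega
    rcases this with rfl | rfl | rfl <;> norm_num at h2
  calc 16 = 2 ^ 4 := by norm_num
    _ ≤ 2 ^ d := Nat.pow_le_pow_right (by norm_num) h3

theorem index_y5_le [Finite V] (h4 : ∀ g, g * g = 1 → (fx σ g).index ≤ 4) : (fx σ y5).index ≤ 16 := by
  have h1 := half' σ (a := r5) (y := y5) (by rw [order_y5]; decide) r5_inv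
  have h2 := h4 r5 r5_sq
  calc _ ≤ _ := h1
    _ ≤ 4 ^ 2 := Nat.pow_le_pow_left h2 2
    _ = 16 := by norm_num

/-- the five-cycle acts trivially on `V / W`, `W` a nontrivial invariant subgroup -/
theorem sup_eq [Finite V] (hV : ∀ v : V, v * v = 1) (hck : ∀ v, (∀ g, σ g v = v) → v = 1)
    (h4 : ∀ g, g * g = 1 → (fx σ g).index ≤ 4) {W : Subgroup V} (hW : ∀ g, ∀ w ∈ W, σ g w ∈ W)
    (hne : W ≠ ⊥) : W ⊔ fx σ y5 = ⊤ := by
  have h := (index_y5_le h4).trans (sixteen_le hV hW (exists_move hck hW hne))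
  have h3 : (fx σ y5).relIndex (W ⊔ fx σ y5) * (W ⊔ fx σ y5).index = (fx σ y5).index :=
    Subgroup.relIndex_mul_index le_sup_right
  rw [Subgroup.relIndex_sup_right] at h3
  have h4 : 0 < (fx σ y5).relIndex W := Nat.pos_of_ne_zero (by
    rw [Subgroup.relIndex]; exact Subgroup.index_ne_zero_of_finite)
  rw [← Subgroup.index_eq_one]
  have h5 : (W ⊔ fx σ y5).index ≠ 0 := Subgroup.index_ne_zero_of_finite
  have h6 : (fx σ y5).relIndex W * (W ⊔ fx σ y5).index ≤ (fx σ y5).relIndex W * 1 := by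
    rw [h3, mul_one]; exact h
  have h7 := Nat.le_of_mul_le_mul_left h6 h4
  omega

/-- **(1.7), irreducibility** -/
theorem a5_irred [Finite V] (hV : ∀ v : V, v * v = 1) (hck : ∀ v, (∀ g, σ g v = v) → v = 1)
    (hG : ∀ W : Subgroup V, (∀ g v, σ g v * v⁻¹ ∈ W) → W = ⊤) (h4 : ∀ g, g * g = 1 → (fx σ g).index ≤ 4)
    {W : Subgroup V} (hW : ∀ g, ∀ w ∈ W, σ g w ∈ W) (hne : W ≠ ⊥) : W = ⊤ := by
  apply hG
  let N : Subgroup (alternatingGroup (Fin 5)) :=
    { carrier := {g | ∀ v, σ g v * v⁻¹ ∈ W}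
      mul_mem' := by
        intro a b ha hb v
        have h1 : σ (a * b) v * v⁻¹ = (σ a (σ b v) * (σ b v)⁻¹) * (σ b v * v⁻¹) := by
          rw [map_mul, MulAut.mul_apply]; group
        rw [h1]
        exact mul_mem (ha _) (hb _)
      one_mem' := by
        intro v
        rw [map_one, MulAut.one_apply, mul_inv_cancel]
        exact one_mem _
      inv_mem' := by
        intro a ha v
        have h1 := inv_mem (ha (σ a⁻¹ v))
        have h2 : σ a (σ a⁻¹ v) = v := by
          rw [← MulAut.mul_apply, ← map_mul, mul_inv_cancel, map_one]; rfl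
        rw [h2, mul_inv_rev, inv_inv, mul_comm] at h1
        rw [mul_comm]
        exact mul_comm (σ a⁻¹ v) v⁻¹ ▸ mul_comm (σ a⁻¹ v) v⁻¹ ▸ h1 }
  have hN : N.Normal := ⟨by
    intro a ha g v
    have h1 := hW g _ (ha (σ g⁻¹ v))
    have h2 : σ g (σ g⁻¹ v) = v := by
      rw [← MulAut.mul_apply, ← map_mul, mul_inv_cancel, map_one]; rfl
    have h3 : σ (g * a * g⁻¹) v * v⁻¹ = σ g (σ a (σ g⁻¹ v) * (σ g⁻¹ v)⁻¹) := by
      rw [map_mul (σ g), map_inv (σ g), h2, map_mul, map_mul, MulAut.mul_apply, MulAut.mul_apply]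
    rw [h3]
    exact h1⟩
  have hy : y5 ∈ N := by
    intro v
    have hv : v ∈ W ⊔ fx σ y5 := by rw [sup_eq hV hck h4 hW hne]; trivial
    obtain ⟨w, hw, u, hu, rfl⟩ := Subgroup.mem_sup.1 hv
    have h1 : σ y5 (w * u) * (w * u)⁻¹ = σ y5 w * w⁻¹ := by
      rw [map_mul, show σ y5 u = u from hu, mul_inv, mul_mul_mul_comm, mul_inv_cancel, mul_one]
    rw [h1]
    exact mul_mem (hW _ _ hw) (inv_mem hw)
  have h1 := eq_top_of_y5 hN hy
  intro g v
  have h2 : g ∈ N := by rw [h1]; exact mem_top g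
  exact h2 v

theorem card_sup_le [Finite V] (A B : Subgroup V) : Nat.card (A ⊔ B : Subgroup V) ≤ Nat.card A * Nat.card B := by
  have h1 := card_mul_relIndex (le_sup_right : B ≤ A ⊔ B)
  rw [Subgroup.relIndex_sup_right] at h1
  have h2 := card_mul_relIndex (inf_le_right : B ⊓ A ≤ A)
  rw [Subgroup.inf_relIndex_right] at h2
  have h3 : 0 < Nat.card (B ⊓ A : Subgroup V) := Nat.card_pos
  rw [← h1, ← h2, mul_comm (Nat.card (B ⊓ A : Subgroup V) * _)]
  exact Nat.mul_le_mul_left _ (Nat.le_mul_of_pos_left _ h3)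

theorem card_zpowers_le (hV : ∀ v : V, v * v = 1) (v : V) : Nat.card (zpowers v) ≤ 2 := by
  rw [Nat.card_zpowers]
  exact Nat.le_of_dvd (by norm_num) (orderOf_dvd_of_pow_eq_one (by rw [pow_two, hV]))

/-- **(1.7)** -/
theorem a5_card [Finite V] [Nontrivial V] (hV : ∀ v : V, v * v = 1) (hck : ∀ v, (∀ g, σ g v = v) → v = 1)
    (hG : ∀ W : Subgroup V, (∀ g v, σ g v * v⁻¹ ∈ W) → W = ⊤) (h4 : ∀ g, g * g = 1 → (fx σ g).index ≤ 4) :
    Nat.card V = 16 := by
  have htop : (⊤ : Subgroup V) ≠ ⊥ := top_ne_bot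
  have h16 := sixteen_le hV (σ := σ) (W := ⊤) (fun _ _ _ => trivial)
    (exists_move hck (fun _ _ _ => trivial) htop)
  rw [Subgroup.relIndex_top_right] at h16
  have hi : (fx σ y5).index = 16 := le_antisymm (index_y5_le h4) h16
  by_cases hw : ∃ w, σ y5 w = w ∧ w ≠ 1
  · exfalso
    obtain ⟨w, hw, hw1⟩ := hw
    -- `r5` fixes `w`
    have hr : σ r5 w = w := by
      have h1 : fx σ r5 ⊓ fx σ (y5 * r5 * y5⁻¹) ≤ fx σ y5 := by
        intro v hv
        apply fx_of_sq σ (by rw [order_y5]; decide)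
        have h2 : y5 * r5 * y5⁻¹ = y5 * y5 * r5 := by
          have h3 : r5 * y5⁻¹ = y5 * r5 := by
            calc r5 * y5⁻¹ = (r5 * y5 * r5⁻¹)⁻¹ * r5 := by group
              _ = y5 * r5 := by rw [r5_inv, inv_inv]
          rw [mul_assoc, h3, mul_assoc]
        have h4 := hv.2
        rw [h2] at h4
        have h5 := fx_mul σ h4 (fx_inv σ hv.1)
        rwa [mul_inv_cancel_right] at h5
      have h2 : (fx σ r5 ⊓ fx σ (y5 * r5 * y5⁻¹)).index ≤ 16 := by
        refine Subgroup.index_inf_le.trans ?_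
        rw [index_fx_conj]
        exact Nat.mul_le_mul (h4 r5 r5_sq) (h4 r5 r5_sq)
      have h3 := eq_of_index_le h1 (by rw [hi]; exact h2)
      have h4 : w ∈ fx σ y5 := hw
      rw [← h3] at h4
      exact h4.1
    have hD : ∀ d, σ ⟨D d, signD d⟩ w = w := by
      intro d
      have e1 : (⟨D d, signD d⟩ : alternatingGroup (Fin 5)) = y5 ^ (d.val % 5) * r5 ^ (d.val / 5) := Subtype.ext rfl
      have h1 : y5 ∈ stb σ w := hw
      have h2 : r5 ∈ stb σ w := hr
      rw [e1]
      exact mul_mem (pow_mem h1 _) (pow_mem h2 _)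
    let w' : Fin 6 → V := fun i => σ ⟨G i, signG i⟩ w
    have hw0 : w' 0 = w := by
      have : (⟨G 0, signG 0⟩ : alternatingGroup (Fin 5)) = 1 := Subtype.ext rfl
      show σ ⟨G 0, signG 0⟩ w = w
      rw [this, map_one]; rfl
    have hact : ∀ a : alternatingGroup (Fin 5), ∃ π : Fin 6 → Fin 6, Function.Injective π ∧
        ∀ i, σ a (w' i) = w' (π i) := by
      intro a
      choose π d hπ using cos a.1 (Equiv.Perm.mem_alternatingGroup.1 a.2)
      refine ⟨π, ?_, ?_⟩
      · intro i j hij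
        obtain ⟨d'', hd⟩ := D_div (d i) (d j)
        apply cos_inj i j d''
        have e1 := hπ i
        have e2 := hπ j
        rw [← hij] at e2
        rw [← hd]
        calc G i = a.1⁻¹ * (a.1 * G i) := by group
          _ = a.1⁻¹ * (a.1 * G j) * (D (d j))⁻¹ * D (d i) := by rw [e1, e2]; group
          _ = G j * ((D (d j))⁻¹ * D (d i)) := by group
      · intro i
        show σ a (σ ⟨G i, signG i⟩ w) = σ ⟨G (π i), signG (π i)⟩ w
        have e1 : a * ⟨G i, signG i⟩ = (⟨G (π i), signG (π i)⟩ * ⟨D (d i), signD (d i)⟩ : alternatingGroup (Fin 5)) :=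
          Subtype.ext (hπ i)
        rw [← MulAut.mul_apply, ← map_mul, e1, map_mul, MulAut.mul_apply, hD]
    have hprod : ∏ i, w' i = 1 := by
      apply hck
      intro a
      obtain ⟨π, hπ, h1⟩ := hact a
      rw [map_prod, Finset.prod_congr rfl (fun i _ => h1 i)]
      exact Fintype.prod_bijective π hπ.bijective_of_finite _ _ (fun _ => rfl)
    -- the even part
    set W : Subgroup V := closure {v | ∃ i j, v = w' i * w' j} with hWdef
    have hW : ∀ g, ∀ v ∈ W, σ g v ∈ W := by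
      intro g v hv
      obtain ⟨π, -, h1⟩ := hact g
      have h2 : W ≤ W.comap (σ g : V ≃* V).toMonoidHom := by
        rw [hWdef, closure_le]
        rintro _ ⟨i, j, rfl⟩
        change σ g (w' i * w' j) ∈ W
        rw [map_mul, h1, h1]
        exact subset_closure ⟨_, _, rfl⟩
      exact h2 hv
    have hWne : W ≠ ⊥ := by
      intro h0
      apply hw1
      apply hck
      intro g
      obtain ⟨π, -, h1⟩ := hact g
      rw [← hw0, h1]
      have h2 : w' (π 0) * w' 0 ∈ W := subset_closure ⟨_, _, rfl⟩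
      rw [h0, mem_bot] at h2
      exact eq_of_mul_eq_one hV h2
    have hWtop := a5_irred hV hck hG h4 hW hWne
    set u : Fin 6 → V := fun i => w' 0 * w' i with hu
    set U : Subgroup V := zpowers (u 1) ⊔ zpowers (u 2) ⊔ (zpowers (u 3) ⊔ zpowers (u 4)) with hU
    have hUc : Nat.card U ≤ 16 := by
      have e := card_zpowers_le hV
      calc _ ≤ _ := card_sup_le _ _
        _ ≤ (Nat.card (zpowers (u 1)) * Nat.card (zpowers (u 2))) *
            (Nat.card (zpowers (u 3)) * Nat.card (zpowers (u 4))) :=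
          Nat.mul_le_mul (card_sup_le _ _) (card_sup_le _ _)
        _ ≤ (2 * 2) * (2 * 2) := Nat.mul_le_mul (Nat.mul_le_mul (e _) (e _)) (Nat.mul_le_mul (e _) (e _))
        _ = 16 := by norm_num
    have h1U : u 1 ∈ U := (le_sup_left.trans le_sup_left : zpowers (u 1) ≤ U) (mem_zpowers _)
    have h2U : u 2 ∈ U := (le_sup_right.trans le_sup_left : zpowers (u 2) ≤ U) (mem_zpowers _)
    have h3U : u 3 ∈ U := (le_sup_left.trans le_sup_right : zpowers (u 3) ≤ U) (mem_zpowers _)
    have h4U : u 4 ∈ U := (le_sup_right.trans le_sup_right : zpowers (u 4) ≤ U) (mem_zpowers _)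
    have h0U : u 0 ∈ U := by
      rw [hu]
      show w' 0 * w' 0 ∈ U
      rw [hV]; exact one_mem _
    have h5U : u 5 ∈ U := by
      have h1 : u 5 = u 1 * u 2 * u 3 * u 4 := by
        apply eq_of_mul_eq_one hV
        have h2 : u 5 * (u 1 * u 2 * u 3 * u 4) = (w' 0 * w' 0) * (w' 0 * w' 0) * ∏ i, w' i := by
          rw [Fin.prod_univ_six]
          simp only [hu]
          generalize w' 0 = a0
          generalize w' 1 = a1
          generalize w' 2 = a2
          generalize w' 3 = a3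
          generalize w' 4 = a4
          generalize w' 5 = a5
          apply Additive.ofMul.injective
          simp only [ofMul_mul]
          abel
        rw [h2, hprod, hV, one_mul]
      rw [h1]
      exact mul_mem (mul_mem (mul_mem h1U h2U) h3U) h4U
    have hall : ∀ i, u i ∈ U := by
      intro i
      fin_cases i
      · exact h0U
      · exact h1U
      · exact h2U
      · exact h3U
      · exact h4U
      · exact h5U
    have hWU : W ≤ U := by
      rw [hWdef, closure_le]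
      rintro _ ⟨i, j, rfl⟩
      have h1 : w' i * w' j = u i * u j := by
        simp only [hu]
        rw [mul_mul_mul_comm, hV, one_mul]
      change w' i * w' j ∈ U
      rw [h1]
      exact mul_mem (hall i) (hall j)
    rw [hWtop, top_le_iff] at hWU
    rw [hWU, Subgroup.card_top] at hUc
    have h1 := (fx σ y5).card_mul_index
    rw [hi] at h1
    have h2 : Nat.card (fx σ y5) ≤ 1 := by omega
    have h3 : fx σ y5 = ⊥ := (fx σ y5).card_eq_one.1 (le_antisymm h2 Nat.card_pos)
    have h5 : w ∈ fx σ y5 := hw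
    rw [h3, mem_bot] at h5
    exact hw1 h5
  · push Not at hw
    have h3 : fx σ y5 = ⊥ := by
      rw [eq_bot_iff]
      intro v hv
      rw [mem_bot]
      exact hw v hv
    have h1 := (fx σ y5).card_mul_index
    rw [hi, h3, Subgroup.card_bot, one_mul] at h1
    exact h1.symm

end a5

end Cfsg.Agent.OddCyclic.Bc.OneSeven
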