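import Cfsg.Agent.OddCyclic.Bc.OneSeven
import Cfsg.Agent.OddCyclic.FFOuterPerm

/-!
# S0342, leaf [Bc], (1.6) (iii) of blueprints/S0342-Bc-helper108.md: `Sym(5)`

`false_of`: `Sym(5)` does not act on an elementary abelian 2-group `V` with `C_V(A₅) = 1`, `V = [V, A₅]`,
`|V : C_V((01)) ∩ C_V((23))| = 8` and `|U| < |V : C_V(U)|` for the four-group `U` of `A₄`.
-/

set_option autoImplicit false
set_option linter.unusedSectionVars false

namespace Cfsg.Agent.OddCyclic.Bc.OneSixFive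

open Equiv Cfsg.Agent.OddCyclic.T1Module Cfsg.Agent.OddCyclic.FFBasic Cfsg.Agent.OddCyclic.FFRed
  Cfsg.Agent.OddCyclic.FFSl2 Cfsg.Agent.OddCyclic.FFOuterPerm Cfsg.Agent.OddCyclic.Bc.OneSeven

/-! ### general lemmas -/

section general

variable {X V : Type*} [Group X] [CommGroup V] [Finite V] {ρ : X →* MulAut V}

theorem sup_eq_top {C W : Subgroup V} (h : C.index ≤ C.relIndex W) : W ⊔ C = ⊤ := by
  have h3 : C.relIndex (W ⊔ C) * (W ⊔ C).index = C.index := Subgroup.relIndex_mul_index le_sup_right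
  rw [Subgroup.relIndex_sup_right] at h3
  have h4 : 0 < C.relIndex W := Nat.pos_of_ne_zero (by
    rw [Subgroup.relIndex]; exact Subgroup.index_ne_zero_of_finite)
  rw [← Subgroup.index_eq_one]
  have h5 : (W ⊔ C).index ≠ 0 := Subgroup.index_ne_zero_of_finite
  have h6 : C.relIndex W * (W ⊔ C).index ≤ C.relIndex W * 1 := by
    rw [h3, mul_one]; exact h
  have h7 := Nat.le_of_mul_le_mul_left h6 h4
  omega

theorem relIndex_of_inf_eq_bot {C W : Subgroup V} (h : C ⊓ W = ⊥) : C.relIndex W = Nat.card W := by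
  rw [← Subgroup.inf_relIndex_right, h, Subgroup.relIndex_bot_left]

theorem index_inf_of_sup {A B : Subgroup V} (h : A ⊔ B = ⊤) : (A ⊓ B).index = A.index * B.index := by
  rw [← Subgroup.relIndex_mul_index (inf_le_right : A ⊓ B ≤ B), Subgroup.inf_relIndex_right,
    ← Subgroup.relIndex_sup_right B A, sup_comm, h, Subgroup.relIndex_top_right]

theorem inf_eq_bot (hV : ∀ v : V, v * v = 1) {y : X} (hy : Odd (orderOf y)) : fx ρ y ⊓ (cm ρ y).range = ⊥ := by
  rw [eq_bot_iff]
  rintro w ⟨h1, h2⟩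
  rw [Subgroup.mem_bot]
  exact eq_one_of_fix hV hy h2 h1

/-- coprime action -/
theorem range_sup_fx (hV : ∀ v : V, v * v = 1) {y : X} (hy : Odd (orderOf y)) : (cm ρ y).range ⊔ fx ρ y = ⊤ := by
  apply sup_eq_top
  rw [relIndex_of_inf_eq_bot (inf_eq_bot hV hy), card_range_cm]

/-- `[V, t] ≤ C_V(t)` -/
theorem range_le_fx (hV : ∀ v : V, v * v = 1) {t : X} (ht : t * t = 1) : (cm ρ t).range ≤ fx ρ t := by
  rintro _ ⟨v, rfl⟩
  rw [mem_fx, cm_apply, map_mul, map_inv, ← MulAut.mul_apply, ← map_mul, ht, map_one, MulAut.one_apply,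
    inv_eq_self hV, inv_eq_self hV, mul_comm]

/-- an element of order three acting nontrivially on a subgroup of order four acts fixed-point-freely -/
theorem fpf_of_card_four (hV : ∀ v : V, v * v = 1) {c : X} (hc : orderOf c = 3) {D : Subgroup V}
    (hD : Nat.card D = 4) (hinv : ∀ v ∈ D, ρ c v ∈ D) (hne : ∃ v ∈ D, ρ c v ≠ v) :
    fx ρ c ⊓ D = ⊥ ∧ D ≤ (cm ρ c).range := by
  obtain ⟨v, hv, hvc⟩ := hne
  have hst : ∀ n ∈ Subgroup.zpowers c, ∀ w ∈ D, ρ n w ∈ D := by
    have h1 : ∀ n : ℕ, ∀ w ∈ D, ρ (c ^ n) w ∈ D := by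
      intro n
      induction n with
      | zero => intro w hw; rw [pow_zero, map_one]; exact hw
      | succ n ih => intro w hw; rw [pow_succ', map_mul]; exact hinv _ (ih w hw)
    intro n hn w hw
    have hfin : IsOfFinOrder c := orderOf_pos_iff.1 (by rw [hc]; norm_num)
    obtain ⟨m, hm⟩ := hfin.mem_powers_iff_mem_zpowers.2 hn
    rw [← hm]
    exact h1 m w hw
  let τ := res ρ (Subgroup.zpowers c) D hst
  have hcz : orderOf (⟨c, Subgroup.mem_zpowers c⟩ : Subgroup.zpowers c) = 3 := by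
    rw [← Subgroup.orderOf_coe]; exact hc
  obtain ⟨d, hd, h1, h2⟩ := prim (ρ := τ) (l := 3) (fun v => Subtype.ext (hV v)) (by norm_num) (by norm_num) hcz
    ⟨⟨v, hv⟩, fun h => hvc (congrArg Subtype.val h)⟩
  have h4 : (fx ρ c).relIndex D = (fx τ ⟨c, Subgroup.mem_zpowers c⟩).index := by
    rw [show fx τ ⟨c, Subgroup.mem_zpowers c⟩ = (fx ρ c).subgroupOf D from fx_res hst ⟨c, _⟩]; rfl
  rw [← h4] at h1
  have h5 := card_mul_relIndex (inf_le_right : fx ρ c ⊓ D ≤ D)
  rw [Subgroup.inf_relIndex_right, h1, hD] at h5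
  have h6 : 0 < Nat.card (fx ρ c ⊓ D : Subgroup V) := Nat.card_pos
  have hd2 : d = 2 := by
    have : 2 ^ d ≤ 4 := by
      rw [← h5]; exact Nat.le_mul_of_pos_left _ h6
    have : d ≤ 2 := (Nat.pow_le_pow_iff_right (by norm_num : 1 < 2)).1 this
    interval_cases d
    · norm_num at h2
    · rfl
  rw [hd2] at h5
  have h7 : fx ρ c ⊓ D = ⊥ := Subgroup.card_eq_one.1 (by omega)
  refine ⟨h7, ?_⟩
  -- `cm ρ c` is injective on `D`
  let f : D →* D :=
    { toFun := fun w => ⟨cm ρ c w, mul_mem (hinv _ w.2) (inv_mem w.2)⟩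
      map_one' := Subtype.ext (map_one _)
      map_mul' := fun a b => Subtype.ext (map_mul (cm ρ c) _ _) }
  have hf : Function.Injective f := by
    rw [injective_iff_map_eq_one]
    intro w hw
    have h8 : cm ρ c w = 1 := congrArg Subtype.val hw
    have h9 : (w : V) ∈ fx ρ c := by rw [← ker_cm]; exact h8
    have h10 : (w : V) ∈ fx ρ c ⊓ D := ⟨h9, w.2⟩
    rw [h7, Subgroup.mem_bot] at h10
    exact Subtype.ext h10
  have hs := Finite.surjective_of_injective hf
  intro w hw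
  obtain ⟨a, ha⟩ := hs ⟨w, hw⟩
  exact ⟨a, congrArg Subtype.val ha⟩

end general

variable {V : Type*} [CommGroup V] [Finite V] {σ : Perm (Fin 5) →* MulAut V}

/-- the four-group -/
def U4 : Subgroup (Perm (Fin 5)) where
  carrier := {g | g = 1 ∨ g = swap 0 1 * swap 2 3 ∨ g = swap 0 2 * swap 1 3 ∨ g = swap 0 3 * swap 1 2}
  mul_mem' := by
    rintro a b (rfl | rfl | rfl | rfl) (rfl | rfl | rfl | rfl) <;> decide +kernel
  one_mem' := Or.inl rfl
  inv_mem' := by
    rintro a (rfl | rfl | rfl | rfl) <;> decide +kernel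

theorem four_le_U4 : 4 ≤ Nat.card U4 := by
  let f : Fin 4 → U4 := fun i => match i with
    | 0 => ⟨1, Or.inl rfl⟩
    | 1 => ⟨swap 0 1 * swap 2 3, Or.inr (Or.inl rfl)⟩
    | 2 => ⟨swap 0 2 * swap 1 3, Or.inr (Or.inr (Or.inl rfl))⟩
    | 3 => ⟨swap 0 3 * swap 1 2, Or.inr (Or.inr (Or.inr rfl))⟩
  have hf : Function.Injective f := by
    intro i j hij
    have h1 := congrArg Subtype.val hij
    fin_cases i <;> fin_cases j <;> first | rfl | (exfalso; revert h1; decide +kernel)
  have h1 := Nat.card_le_card_of_injective f hf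
  rwa [Nat.card_eq_fintype_card, Fintype.card_fin] at h1

theorem U4_ne_bot : U4 ≠ ⊥ := by
  intro h
  have h1 := four_le_U4
  rw [h, Subgroup.card_bot] at h1
  omega

theorem U4_sq : ∀ a ∈ U4, a * a = 1 := by
  rintro a (rfl | rfl | rfl | rfl) <;> decide +kernel

/-- a three-cycle -/
def C3 : Perm (Fin 5) := swap 2 3 * swap 3 4

/-- a three-cycle -/
def D3 : Perm (Fin 5) := swap 0 1 * swap 1 2

set_option maxRecDepth 100000 in
theorem alt_word : ∀ g : Perm (Fin 5), Perm.sign g = 1 → ∃ (a : Fin 5) (b : Fin 3) (e : Fin 2) (f : Fin 3),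
    g = (C3 * D3) ^ a.val * C3 ^ b.val * (C3 * D3 * D3 * C3 * D3) ^ e.val * C3 ^ f.val := by decide +kernel

theorem alt_le {N : Subgroup (Perm (Fin 5))} (hc : C3 ∈ N) (hd : D3 ∈ N) : alternatingGroup (Fin 5) ≤ N := by
  intro g hg
  obtain ⟨a, b, e, f, rfl⟩ := alt_word g (Perm.mem_alternatingGroup.1 hg)
  exact mul_mem (mul_mem (mul_mem (pow_mem (mul_mem hc hd) _) (pow_mem hc _))
    (pow_mem (mul_mem (mul_mem (mul_mem (mul_mem hc hd) hd) hc) hd) _)) (pow_mem hc _)

/-- `Alt(5)` is generated by two three-cycles -/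
theorem CS_alt : fx σ C3 ⊓ fx σ D3 ≤ CS σ (alternatingGroup (Fin 5)) := by
  rintro v ⟨h1, h2⟩
  rw [mem_CS_iff]
  exact alt_le h1 h2

theorem order_C3 : orderOf C3 = 3 := by
  have : Fact (Nat.Prime 3) := ⟨by norm_num⟩
  exact orderOf_eq_prime (by decide +kernel) (by decide +kernel)

theorem C3_mem : C3 ∈ alternatingGroup (Fin 5) := Perm.mem_alternatingGroup.2 (by decide +kernel)

variable (hV : ∀ v : V, v * v = 1) (hck : CS σ (alternatingGroup (Fin 5)) = ⊥)
  (hG : ∀ W : Subgroup V, (∀ g ∈ alternatingGroup (Fin 5), ∀ v, σ g v * v⁻¹ ∈ W) → W = ⊤)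
  (h8 : (fx σ (swap 0 1) ⊓ fx σ (swap 2 3)).index = 8)

/-- the restriction to `Alt(5)` -/
def sa (σ : Perm (Fin 5) →* MulAut V) : alternatingGroup (Fin 5) →* MulAut V := σ.comp (alternatingGroup (Fin 5)).subtype

include hck in
theorem sa_ck : ∀ v, (∀ g, sa σ g v = v) → v = 1 := by
  intro v hv
  have h1 : v ∈ CS σ (alternatingGroup (Fin 5)) := fun g hg => hv ⟨g, hg⟩
  rwa [hck, Subgroup.mem_bot] at h1

include hG in
theorem sa_G : ∀ W : Subgroup V, (∀ g v, sa σ g v * v⁻¹ ∈ W) → W = ⊤ :=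
  fun W hW => hG W fun g hg v => hW ⟨g, hg⟩ v

include h8 in
theorem nontriv : Nontrivial V := by
  by_contra hcon
  rw [not_nontrivial_iff_subsingleton] at hcon
  have h1 : (fx σ (swap 0 1) ⊓ fx σ (swap 2 3)).index = 1 := by
    rw [Subgroup.index_eq_one]
    exact Subsingleton.elim _ _
  omega

include hV hck h8 in
theorem sixteen : 16 ≤ (fx σ Perm5.Y).index := by
  have := nontriv h8
  have h1 := sixteen_le (σ := sa σ) hV (W := ⊤) (fun _ _ _ => trivial)
    (exists_move (sa_ck hck) (fun _ _ _ => trivial) top_ne_bot)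
  rw [Subgroup.relIndex_top_right] at h1
  exact h1

include hV hck h8 in
theorem index_four {i j : Fin 5} (hij : i ≠ j) : (fx σ (swap i j)).index = 4 := by
  rw [index_swap i j hij 0 1 (by decide)]
  obtain ⟨d, hd⟩ := index_pow hV (fx σ (swap (0 : Fin 5) 1))
  have h1 : (fx σ (swap (0 : Fin 5) 1)).index ≤ 8 := by
    rw [← h8]; exact index_le_of_le inf_le_left
  have h2 : 8 ≤ (fx σ (swap (0 : Fin 5) 1)).index * (fx σ (swap (0 : Fin 5) 1)).index := by
    rw [← h8]
    refine Subgroup.index_inf_le.trans ?_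
    rw [index_swap 2 3 (by decide) 0 1 (by decide)]
  rw [hd] at h1 h2 ⊢
  have hd3 : d ≤ 3 := (Nat.pow_le_pow_iff_right (by norm_num : 1 < 2)).1 (by simpa using h1)
  interval_cases d
  · norm_num at h2
  · norm_num at h2
  · norm_num
  · exfalso
    have e1 : fx σ (swap 0 1) ⊓ fx σ (swap 2 3) = fx σ (swap (0 : Fin 5) 1) := by
      apply eq_of_index_le inf_le_left
      rw [h8, hd]; norm_num
    have e2 : fx σ (swap 0 1) ⊓ fx σ (swap 2 3) = fx σ (swap (2 : Fin 5) 3) := by
      apply eq_of_index_le inf_le_right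
      rw [h8, index_swap 2 3 (by decide) 0 1 (by decide), hd]; norm_num
    have e3 := index_top_of_eq (ρ := σ) (i := 0) (j := 1) (k := 2) (l := 3) (by decide) (by decide) (by decide)
      (by decide) (by decide) (by decide) (e1.symm.trans e2)
    have e4 : fx σ (swap (0 : Fin 5) 1) = ⊥ := by
      rw [eq_bot_iff, ← hck, ← e3]
      exact CS_anti le_top
    have e5 := sixteen hV hck h8
    have e6 := index_le_of_le (bot_le : (⊥ : Subgroup V) ≤ fx σ Perm5.Y)
    rw [← e4, hd] at e6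
    norm_num at e6
    omega

/-- `V = D₀₁ C_V(345)..`: the two cases for the action of a three-cycle `c` on `[V, t]`, `t` a transposition commuting
with `c` -/
theorem comm_t : swap 0 1 * C3 = C3 * swap 0 1 := by decide +kernel

theorem inv_c : swap 0 1 * swap 2 3 * C3 * (swap 0 1 * swap 2 3)⁻¹ = C3⁻¹ := by decide +kernel

include hV hck h8 in
theorem index_C3 : (fx σ C3).index = 4 ∨ ((fx σ C3).index = 16 ∧ fx σ (swap 2 3) ⊓ fx σ (swap 3 4) = fx σ C3) := by
  have hne : ∃ v, σ C3 v ≠ v := by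
    by_contra hcon
    push Not at hcon
    have := nontriv h8
    have hs : IsSimpleGroup (alternatingGroup (Fin 5)) := alternatingGroup.isSimpleGroup (by simp)
    have h1 : (⟨C3, C3_mem⟩ : alternatingGroup (Fin 5)) ∈ (sa σ).ker := by
      rw [MonoidHom.mem_ker]
      ext v
      exact hcon v
    rcases hs.eq_bot_or_eq_top_of_normal (sa σ).ker inferInstance with h | h
    · rw [h, Subgroup.mem_bot] at h1
      have h2 : C3 = 1 := congrArg Subtype.val h1
      have h3 := order_C3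
      rw [h2, orderOf_one] at h3
      omega
    · obtain ⟨v, hv⟩ := exists_ne (1 : V)
      apply hv
      apply sa_ck hck
      intro g
      have h2 : g ∈ (sa σ).ker := by rw [h]; trivial
      rw [MonoidHom.mem_ker] at h2
      rw [h2]; rfl
  obtain ⟨d, hd, h1, h2⟩ := prim hV (l := 3) (by norm_num) (by norm_num) order_C3 hne
  have h3 : fx σ (swap 2 3) ⊓ fx σ (swap 3 4) ≤ fx σ C3 := fun v hv => fx_mul σ hv.1 hv.2
  have h4 : (fx σ (swap (2 : Fin 5) 3) ⊓ fx σ (swap 3 4)).index ≤ 16 := by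
    refine Subgroup.index_inf_le.trans ?_
    rw [index_four hV hck h8 (by decide), index_four hV hck h8 (by decide)]
  have h5 := (index_le_of_le h3).trans h4
  rw [h1] at h5
  have hd4 : d ≤ 4 := (Nat.pow_le_pow_iff_right (by norm_num : 1 < 2)).1 (by simpa using h5)
  interval_cases d
  · norm_num at h2
  · left; rw [h1]; norm_num
  · norm_num at h2
  · right
    have h6 : (fx σ C3).index = 16 := by rw [h1]; norm_num
    exact ⟨h6, eq_of_index_le h3 (by rw [h6]; exact h4)⟩

include hV hck h8 in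
/-- (α) does not occur -/
theorem exists_not : ∃ v ∈ (cm σ (swap (0 : Fin 5) 1)).range, σ C3 v ≠ v := by
  by_contra hcon
  push Not at hcon
  have hodd : Odd (orderOf C3) := by rw [order_C3]; decide
  have h1 : (cm σ C3).range ≤ fx σ (swap (0 : Fin 5) 1) := by
    rintro _ ⟨v, rfl⟩
    have h2 := hcon (cm σ (swap (0 : Fin 5) 1) v) ⟨v, rfl⟩
    set d := cm σ (swap (0 : Fin 5) 1) v with hd
    have h3 : σ (swap 0 1) v = d * v := by rw [hd, cm_apply, inv_mul_cancel_right]
    have h4 : σ (swap 0 1) (σ C3 v) = σ C3 (σ (swap 0 1) v) := by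
      rw [← MulAut.mul_apply, ← MulAut.mul_apply, ← map_mul, ← map_mul, comm_t]
    rw [mem_fx, cm_apply, map_mul, map_inv, h4, h3, map_mul (σ C3), h2, mul_inv_rev, mul_comm d, mul_assoc,
      mul_comm v⁻¹, mul_inv_cancel_left]
  rcases index_C3 hV hck h8 with h2 | ⟨h2, h3⟩
  · -- `|V| ≤ 16`
    have h4 : (fx σ D3).index = 4 := by
      obtain ⟨g, hg⟩ : ∃ g : Perm (Fin 5), g * C3 * g⁻¹ = D3 := by
        refine ⟨Perm5.Y ^ 3, ?_⟩
        decide +kernel
      rw [← hg, index_fx_conj, h2]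
    have h5 : Nat.card V ≤ 16 := by
      have h6 : fx σ C3 ⊓ fx σ D3 = ⊥ := by rw [eq_bot_iff, ← hck]; exact CS_alt
      have h7 : (fx σ C3 ⊓ fx σ D3).index ≤ 4 * 4 := by
        refine Subgroup.index_inf_le.trans ?_
        rw [h2, h4]
      rw [h6, Subgroup.index_bot] at h7
      exact h7
    have h6 := (fx σ (swap (0 : Fin 5) 1)).card_mul_index
    rw [index_four hV hck h8 (by decide)] at h6
    have h7 : Nat.card (cm σ (swap (0 : Fin 5) 1)).range = 4 := by
      rw [card_range_cm, index_four hV hck h8 (by decide)]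
    have h8' : Nat.card (cm σ C3).range = 4 := by rw [card_range_cm, h2]
    have h9 : (cm σ C3).range = fx σ (swap (0 : Fin 5) 1) :=
      Subgroup.eq_of_le_of_card_ge h1 (by omega)
    have h10 := range_le_fx (ρ := σ) hV (t := swap (0 : Fin 5) 1) (by decide +kernel)
    rw [← h9] at h10
    have h11 : (cm σ (swap (0 : Fin 5) 1)).range ≤ ⊥ := by
      rw [← inf_eq_bot (ρ := σ) hV hodd]
      exact le_inf (fun v hv => hcon v hv) h10
    rw [le_bot_iff.1 h11, Subgroup.card_bot] at h7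
    omega
  · have h4 : fx σ (swap (0 : Fin 5) 1) ⊔ fx σ (swap 2 3) = ⊤ := by
      rw [eq_top_iff, ← range_sup_fx (ρ := σ) hV hodd]
      refine sup_le_sup h1 ?_
      rw [← h3]; exact inf_le_left
    have h5 := index_inf_of_sup h4
    rw [h8, index_four hV hck h8 (by decide), index_four hV hck h8 (by decide)] at h5
    omega

include hV hck h8 in
/-- (β) -/
theorem beta : (fx σ C3).index = 16 ∧ fx σ (swap 2 3) ⊓ fx σ (swap 3 4) = fx σ C3 ∧
    fx σ C3 ≤ fx σ (swap (0 : Fin 5) 1) := by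
  have hodd : Odd (orderOf C3) := by rw [order_C3]; decide
  have hD : Nat.card (cm σ (swap (0 : Fin 5) 1)).range = 4 := by
    rw [card_range_cm, index_four hV hck h8 (by decide)]
  obtain ⟨h1, h2⟩ := fpf_of_card_four (ρ := σ) hV order_C3 hD
    (fun v hv => apply_mem_range σ comm_t.symm hv) (exists_not hV hck h8)
  have h3 : fx σ C3 ≤ fx σ (swap (0 : Fin 5) 1) := by
    intro w hw
    have h4 : cm σ (swap (0 : Fin 5) 1) w ∈ fx σ C3 ⊓ (cm σ (swap (0 : Fin 5) 1)).range := by
      refine ⟨?_, ⟨w, rfl⟩⟩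
      have h5 : σ C3 (σ (swap 0 1) w) = σ (swap 0 1) (σ C3 w) := by
        rw [← MulAut.mul_apply, ← MulAut.mul_apply, ← map_mul, ← map_mul, comm_t]
      have h6 : σ C3 w = w := hw
      show σ C3 (cm σ (swap (0 : Fin 5) 1) w) = cm σ (swap (0 : Fin 5) 1) w
      rw [cm_apply, map_mul, map_inv, h5, h6]
    rw [h1, Subgroup.mem_bot, cm_apply, mul_inv_eq_one] at h4
    exact h4
  rcases index_C3 hV hck h8 with h4 | ⟨h4, h5⟩
  · exfalso
    have h5 : Nat.card (cm σ C3).range = 4 := by rw [card_range_cm, h4]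
    have h6 : (cm σ (swap (0 : Fin 5) 1)).range = (cm σ C3).range := Subgroup.eq_of_le_of_card_ge h2 (by omega)
    have h7 := range_le_fx (ρ := σ) hV (t := swap (0 : Fin 5) 1) (by decide +kernel)
    rw [h6] at h7
    have h9 : fx σ (swap (0 : Fin 5) 1) = ⊤ := by
      rw [eq_top_iff, ← range_sup_fx (ρ := σ) hV hodd]
      exact sup_le h7 h3
    have h10 := index_four hV hck h8 (i := 0) (j := 1) (by decide)
    rw [h9, Subgroup.index_top] at h10
    omega
  · exact ⟨h4, h5, h3⟩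

include hV hck h8 in
/-- double transpositions have index at most four -/
theorem index_dt : (fx σ (swap 0 1 * swap 2 3)).index ≤ 4 := by
  have hodd : Odd (orderOf C3) := by rw [order_C3]; decide
  obtain ⟨h1, h2, h3⟩ := beta hV hck h8
  set v : Perm (Fin 5) := swap 0 1 * swap 2 3 with hv
  have h4 : fx σ C3 ≤ fx σ v := fun w hw => fx_mul σ (h3 hw) (by rw [← h2] at hw; exact hw.1)
  have h5 : (cm σ v).range ≤ (cm σ C3).range := by
    rintro _ ⟨w, rfl⟩
    have hw : w ∈ (cm σ C3).range ⊔ fx σ C3 := by rw [range_sup_fx (ρ := σ) hV hodd]; trivial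
    obtain ⟨a, ha, b, hb, rfl⟩ := Subgroup.mem_sup.1 hw
    have h6 : cm σ v b = 1 := by
      have := h4 hb
      rw [← ker_cm] at this
      exact this
    rw [map_mul, h6, mul_one, cm_apply]
    exact mul_mem (apply_mem_range_of_inv σ inv_c ha) (inv_mem ha)
  have h6 : fx σ C3 ⊓ (cm σ v).range = ⊥ := by
    rw [eq_bot_iff, ← inf_eq_bot (ρ := σ) hV hodd]
    exact inf_le_inf le_rfl h5
  have h7 := relIndex_of_inf_eq_bot h6
  rw [card_range_cm] at h7
  have h8' : (fx σ C3).relIndex (cm σ v).range ≤ (fx σ C3).relIndex (fx σ v) :=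
    Subgroup.relIndex_le_of_le_right (range_le_fx hV (by rw [hv]; decide +kernel))
      (by rw [Subgroup.relIndex]; exact Subgroup.index_ne_zero_of_finite)
  have h9 := Subgroup.relIndex_mul_index h4
  rw [h1] at h9
  rw [h7] at h8'
  by_contra hcon
  push Not at hcon
  have h10 : 5 * 5 ≤ (fx σ C3).relIndex (fx σ v) * (fx σ v).index := Nat.mul_le_mul (by omega) hcon
  omega

include hV hck h8 in
theorem index_inv (g : alternatingGroup (Fin 5)) (hg : g * g = 1) : (fx (sa σ) g).index ≤ 4 := by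
  by_cases h1 : g = 1
  · rw [h1, fx_one, Subgroup.index_top]; norm_num
  · obtain ⟨i, j, k, l, hij, hkl, hik, hil, hjk, hjl, h2⟩ := invol_even g.1 (congrArg Subtype.val hg)
      (Perm.mem_alternatingGroup.1 g.2) (fun h => h1 (Subtype.ext h))
    have h3 : fx (sa σ) g = fx σ g.1 := rfl
    rw [h3, h2]
    obtain ⟨a, ha, hb, hc, hd⟩ := exists_conj_pair 0 1 2 3 i j k l (by decide) (by decide) (by decide) (by decide)
      (by decide) (by decide) hij hkl hik hil hjk hjl
    have h4 : swap i j * swap k l = a * (swap 0 1 * swap 2 3) * a⁻¹ := by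
      rw [← ha, ← hb, ← hc, ← hd, swap_apply_apply, swap_apply_apply]; group
    rw [h4, index_fx_conj]
    exact index_dt hV hck h8

include hV hck hG h8 in
theorem card_V : Nat.card V = 16 := by
  have := nontriv h8
  exact a5_card (σ := sa σ) hV (sa_ck hck) (sa_G hG) (index_inv hV hck h8)

/-- adjacent transpositions have no common fixed point -/
theorem inf_adj (hc16 : Nat.card V = 16) {i j k : Fin 5} (hij : i ≠ j) (hjk : j ≠ k) (hik : i ≠ k)
    (hV : ∀ v : V, v * v = 1) (hck : CS σ (alternatingGroup (Fin 5)) = ⊥)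
    (h8 : (fx σ (swap 0 1) ⊓ fx σ (swap 2 3)).index = 8) : fx σ (swap i j) ⊓ fx σ (swap i k) = ⊥ := by
  obtain ⟨h1, h2, -⟩ := beta hV hck h8
  have h3 : fx σ C3 = ⊥ := by
    have h4 := (fx σ C3).card_mul_index
    rw [h1, hc16] at h4
    exact Subgroup.card_eq_one.1 (by omega)
  obtain ⟨l, hli, hlj, hlk, -⟩ := exists_fifth i j k k
  obtain ⟨g, hg1, hg2, hg3, -⟩ := exists_conj_pair 3 2 4 0 i j k l (by decide) (by decide) (by decide) (by decide)
    (by decide) (by decide) hij (Ne.symm hlk) hik (Ne.symm hli) hjk (Ne.symm hlj)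
  rw [eq_bot_iff]
  rintro v ⟨ha, hb⟩
  have e1 : swap i j = g * swap 2 3 * g⁻¹ := by
    rw [← swap_apply_apply, hg1, hg2, swap_comm]
  have e2 : swap i k = g * swap 3 4 * g⁻¹ := by
    rw [← swap_apply_apply, hg1, hg3]
  rw [e1, fx_conj] at ha
  rw [e2, fx_conj] at hb
  obtain ⟨a, ha1, rfl⟩ := ha
  obtain ⟨b, hb1, hb2⟩ := hb
  have hab : b = a := (σ g).injective hb2
  rw [hab] at hb1
  have h5 : a ∈ fx σ (swap 2 3) ⊓ fx σ (swap 3 4) := ⟨ha1, hb1⟩
  rw [h2, h3, Subgroup.mem_bot] at h5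
  rw [Subgroup.mem_bot, h5]
  exact map_one _

/-- the fixed vector of a pair of disjoint transpositions -/
theorem exists_d (hc16 : Nat.card V = 16) (hV : ∀ v : V, v * v = 1)
    (h8 : (fx σ (swap 0 1) ⊓ fx σ (swap 2 3)).index = 8) {i j k l : Fin 5} (hij : i ≠ j) (hkl : k ≠ l)
    (hik : i ≠ k) (hil : i ≠ l) (hjk : j ≠ k) (hjl : j ≠ l) :
    ∃ d : V, d ≠ 1 ∧ ∀ v, v ∈ fx σ (swap i j) ⊓ fx σ (swap k l) ↔ v = 1 ∨ v = d := by
  have h1 : Nat.card (fx σ (swap i j) ⊓ fx σ (swap k l) : Subgroup V) = 2 := by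
    obtain ⟨g, ha, hb, hc, hd⟩ := exists_conj_pair 0 1 2 3 i j k l (by decide) (by decide) (by decide) (by decide)
      (by decide) (by decide) hij hkl hik hil hjk hjl
    have e1 : fx σ (swap i j) ⊓ fx σ (swap k l) =
        (fx σ (swap 0 1) ⊓ fx σ (swap 2 3)).map (σ g : V ≃* V).toMonoidHom := by
      rw [← ha, ← hb, ← hc, ← hd, swap_apply_apply, swap_apply_apply, fx_conj, fx_conj,
        Subgroup.map_inf _ _ _ (σ g : V ≃* V).injective]
    rw [e1, Subgroup.card_map_of_injective (σ g : V ≃* V).injective]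
    have h4 := (fx σ (swap (0 : Fin 5) 1) ⊓ fx σ (swap 2 3)).card_mul_index
    rw [h8, hc16] at h4
    omega
  obtain ⟨d, hd, hu⟩ := (Nat.card_eq_two_iff' (1 : (fx σ (swap i j) ⊓ fx σ (swap k l) : Subgroup V))).1 h1
  refine ⟨d.1, fun h => hd (Subtype.ext h), fun v => ⟨fun hv => ?_, ?_⟩⟩
  · by_cases hv1 : v = 1
    · exact Or.inl hv1
    · right
      exact congrArg Subtype.val (hu ⟨v, hv⟩ (fun h => hv1 (congrArg Subtype.val h)))
  · rintro (rfl | rfl)
    · exact one_mem _
    · exact d.2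

/-- it is fixed by every permutation preserving the pair of transpositions -/
theorem fixed_of {t u : Perm (Fin 5)} {d : V} (hd1 : d ≠ 1) (hd : ∀ v, v ∈ fx σ t ⊓ fx σ u ↔ v = 1 ∨ v = d)
    {g : Perm (Fin 5)} (hg : (g * t * g⁻¹ = t ∧ g * u * g⁻¹ = u) ∨ (g * t * g⁻¹ = u ∧ g * u * g⁻¹ = t)) :
    σ g d = d := by
  obtain ⟨h1, h2⟩ := (hd d).2 (Or.inr rfl)
  have h3 : σ g d ∈ fx σ (g * t * g⁻¹) := by rw [fx_conj]; exact ⟨d, h1, rfl⟩
  have h4 : σ g d ∈ fx σ (g * u * g⁻¹) := by rw [fx_conj]; exact ⟨d, h2, rfl⟩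
  have h5 : σ g d ∈ fx σ t ⊓ fx σ u := by
    rcases hg with ⟨e1, e2⟩ | ⟨e1, e2⟩
    · rw [e1] at h3; rw [e2] at h4; exact ⟨h3, h4⟩
    · rw [e1] at h3; rw [e2] at h4; exact ⟨h4, h3⟩
  rcases (hd _).1 h5 with h6 | h6
  · exfalso
    apply hd1
    apply (σ g).injective
    rw [h6, map_one]
  · exact h6

include hV hck hG h8 in
/-- **(1.6) (iii)** -/
theorem false_of (hn : Nat.card U4 < (CS σ U4).index) : False := by
  have hc16 := card_V hV hck hG h8
  obtain ⟨d, hd1, hd⟩ := exists_d hc16 hV h8 (i := 0) (j := 1) (k := 2) (l := 3) (by decide) (by decide) (by decide)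
    (by decide) (by decide) (by decide)
  obtain ⟨e, he1, he⟩ := exists_d hc16 hV h8 (i := 0) (j := 2) (k := 1) (l := 3) (by decide) (by decide) (by decide)
    (by decide) (by decide) (by decide)
  have hdU : d ∈ CS σ U4 := by
    rintro g (rfl | rfl | rfl | rfl)
    · rw [map_one]; rfl
    · exact fixed_of hd1 hd (Or.inl (by decide +kernel))
    · exact fixed_of hd1 hd (Or.inr (by decide +kernel))
    · exact fixed_of hd1 hd (Or.inr (by decide +kernel))
  have heU : e ∈ CS σ U4 := by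
    rintro g (rfl | rfl | rfl | rfl)
    · rw [map_one]; rfl
    · exact fixed_of he1 he (Or.inr (by decide +kernel))
    · exact fixed_of he1 he (Or.inl (by decide +kernel))
    · exact fixed_of he1 he (Or.inr (by decide +kernel))
  have hde : d ≠ e := by
    intro h
    have h1 := ((hd d).2 (Or.inr rfl)).1
    have h2 := ((he e).2 (Or.inr rfl)).1
    rw [← h] at h2
    have h3 := inf_adj (σ := σ) hc16 (i := 0) (j := 1) (k := 2) (by decide) (by decide) (by decide) hV hck h8
    have h4 : d ∈ fx σ (swap 0 1) ⊓ fx σ (swap 0 2) := ⟨h1, h2⟩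
    rw [h3, Subgroup.mem_bot] at h4
    exact hd1 h4
  have h3 : 3 ≤ Nat.card (CS σ U4) := by
    let f : Fin 3 → CS σ U4 := fun i => match i with
      | 0 => 1
      | 1 => ⟨d, hdU⟩
      | 2 => ⟨e, heU⟩
    have hf : Function.Injective f := by
      intro i j hij
      have h1 := congrArg Subtype.val hij
      fin_cases i <;> fin_cases j <;> first
        | rfl
        | exact absurd h1 hd1
        | exact absurd h1.symm hd1
        | exact absurd h1 he1
        | exact absurd h1.symm he1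
        | exact absurd h1 hde
        | exact absurd h1.symm hde
    have h1 := Nat.card_le_card_of_injective f hf
    rwa [Nat.card_eq_fintype_card, Fintype.card_fin] at h1
  have h4 := (CS σ U4).card_mul_index
  rw [hc16] at h4
  have h5 := four_le_U4
  obtain ⟨m, hm⟩ := index_pow hV (CS σ U4)
  have h6 : 5 ≤ (CS σ U4).index := by omega
  have h7 : (CS σ U4).index * 3 ≤ 16 := by
    rw [← h4, mul_comm]; exact Nat.mul_le_mul_right _ h3
  have h8' : (CS σ U4).index = 5 := by omega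
  rw [h8'] at h4
  omega

end Cfsg.Agent.OddCyclic.Bc.OneSixFive
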